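import Mathlib
import Cfsg.Agent.Lib.helper52.PReduced

set_option autoImplicit false

namespace Cfsg.Agent.Lib.helper52

open Cfsg
open scoped commutatorElement

/-- The norm of a `T`-fixed element over the cosets of `T` is fixed by the whole group. -/
theorem norm_fixed {Γ A : Type*} [Group Γ] [CommGroup A] (φ : Γ →* MulAut A) (T : Subgroup Γ)
    [Fintype (Γ ⧸ T)] (z : A) (hz : ∀ t ∈ T, φ t z = z) (g : Γ) :
    φ g (∏ q : Γ ⧸ T, φ q.out z) = ∏ q : Γ ⧸ T, φ q.out z := by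
  rw [map_prod]
  have h1 : ∀ q : Γ ⧸ T, φ g (φ q.out z) = φ ((g • q).out) z := by
    intro q
    have h2 : ((g * q.out : Γ) : Γ ⧸ T) = (((g • q).out : Γ) : Γ ⧸ T) := by
      rw [QuotientGroup.out_eq']
      conv_rhs => rw [← QuotientGroup.out_eq' q]
      rfl
    have h3 : (g * q.out)⁻¹ * (g • q).out ∈ T := QuotientGroup.eq.mp h2
    have h4 : (g • q).out = (g * q.out) * ((g * q.out)⁻¹ * (g • q).out) := by group
    rw [h4, map_mul, map_mul, MulAut.mul_apply, MulAut.mul_apply, hz _ h3]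
  simp_rw [h1]
  exact Equiv.prod_comp (MulAction.toPerm g : Equiv.Perm (Γ ⧸ T)) (fun q => φ q.out z)

/-- The norm is `z ^ index` times a product of "commutators". -/
theorem norm_eq {Γ A : Type*} [Group Γ] [CommGroup A] (φ : Γ →* MulAut A) (T : Subgroup Γ)
    [Fintype (Γ ⧸ T)] (z : A) :
    ∏ q : Γ ⧸ T, φ q.out z = (∏ q : Γ ⧸ T, φ q.out z / z) * z ^ Fintype.card (Γ ⧸ T) := by
  rw [← Finset.card_univ, ← Finset.prod_const, ← Finset.prod_mul_distrib]
  exact Finset.prod_congr rfl (fun q _ => by rw [div_mul_cancel])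

/-- If `z ^ n ∈ W`, `z ^ p = 1` and `n` is prime to `p`, then `z ∈ W`. -/
theorem mem_of_pow_mem_of_coprime {G : Type*} [Group G] {p : ℕ} [hp : Fact p.Prime] {W : Subgroup G}
    {z : G} {n : ℕ} (hn : n.Coprime p) (hzp : z ^ p = 1) (hz : z ^ n ∈ W) : z ∈ W := by
  obtain ⟨m, -, hm⟩ := Nat.exists_mul_mod_eq_one_of_coprime hn hp.out.one_lt
  have h1 : n * m = p * (n * m / p) + 1 := by
    conv_lhs => rw [← Nat.div_add_mod (n * m) p, hm]
  have h2 : z ^ (n * m) = z := by
    rw [h1, pow_succ, pow_mul, hzp, one_pow, one_mul]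
  rw [← h2, pow_mul]
  exact pow_mem hz m

/-- **Transfer argument.** Let `R` normalize the elementary abelian `p`-subgroup `V` and let `S` be a
Sylow `p`-subgroup of `R`. Every element of `V` centralized by `S` lies in `[V, R] C_V(R)`. -/
theorem mem_commutator_sup_centralizer_of_sylow {G : Type*} [Group G] [Finite G] {p : ℕ}
    [Fact p.Prime] (V R : Subgroup G) (hV : Cfsg.IsElementaryAbelian p V)
    (hRN : R ≤ Subgroup.normalizer (V : Set G)) (S : Sylow p ↥R) {z : G} (hzV : z ∈ V)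
    (hzS : ∀ t ∈ S, (t : G) * z = z * (t : G)) :
    z ∈ ⁅V, R⁆ ⊔ (V ⊓ Subgroup.centralizer (R : Set G)) := by
  classical
  let _ : CommGroup ↥V :=
    { (inferInstance : Group ↥V) with
      mul_comm := fun a b => isMulCommutative_iff.mp hV.1 a b }
  let φ : ↥R →* MulAut ↥V := (Subgroup.normalizerMonoidHom V).comp (Subgroup.inclusion hRN)
  have hφ : ∀ (r : ↥R) (v : ↥V), ((φ r v : ↥V) : G) = (r : G) * (v : G) * (r : G)⁻¹ := by
    intro r v
    rfl
  have : Fintype (↥R ⧸ (S : Subgroup ↥R)) := Fintype.ofFinite _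
  set z' : ↥V := ⟨z, hzV⟩ with hz'
  have hzfix : ∀ t ∈ (S : Subgroup ↥R), φ t z' = z' := by
    intro t ht
    apply Subtype.ext
    rw [hφ]
    show (t : G) * z * (t : G)⁻¹ = z
    rw [hzS t ht]; group
  set N : ↥V := ∏ q : ↥R ⧸ (S : Subgroup ↥R), φ q.out z' with hN
  set c : ↥V := ∏ q : ↥R ⧸ (S : Subgroup ↥R), φ q.out z' / z' with hc
  have hNfix : ∀ r : ↥R, φ r N = N := fun r => norm_fixed φ (S : Subgroup ↥R) z' hzfix r
  have hNeq : N = c * z' ^ Fintype.card (↥R ⧸ (S : Subgroup ↥R)) := norm_eq φ (S : Subgroup ↥R) z'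
  -- N is centralized by R
  have hNcent : (N : G) ∈ V ⊓ Subgroup.centralizer (R : Set G) := by
    refine Subgroup.mem_inf.mpr ⟨N.2, ?_⟩
    rw [Subgroup.mem_centralizer_iff]
    intro r hr
    have h1 := congrArg Subtype.val (hNfix ⟨r, hr⟩)
    rw [hφ] at h1
    calc r * (N : G) = (r * (N : G) * r⁻¹) * r := by group
      _ = (N : G) * r := by rw [h1]
  -- c lies in [V, R]
  have hcmem : c ∈ (⁅V, R⁆ : Subgroup G).subgroupOf V := by
    apply Subgroup.prod_mem
    intro q _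
    rw [Subgroup.mem_subgroupOf]
    have h1 : ((φ q.out z' / z' : ↥V) : G) = ⁅((q.out : ↥R) : G), z⁆ := by
      rw [div_eq_mul_inv, Subgroup.coe_mul, hφ, Subgroup.coe_inv, commutatorElement_def]
    rw [h1, ← commutatorElement_inv]
    exact inv_mem (Subgroup.commutator_mem_commutator hzV (q.out).2)
  have hcmem' : (c : G) ∈ ⁅V, R⁆ := Subgroup.mem_subgroupOf.mp hcmem
  -- so z ^ index lies in the product
  have hpow : z ^ Fintype.card (↥R ⧸ (S : Subgroup ↥R)) ∈
      ⁅V, R⁆ ⊔ (V ⊓ Subgroup.centralizer (R : Set G)) := by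
    have h1 : z' ^ Fintype.card (↥R ⧸ (S : Subgroup ↥R)) = c⁻¹ * N := by
      rw [hNeq]; group
    have h2 := congrArg Subtype.val h1
    rw [Subgroup.coe_pow, Subgroup.coe_mul, Subgroup.coe_inv] at h2
    rw [show z = (z' : G) from rfl, h2]
    exact Subgroup.mul_mem_sup (inv_mem hcmem') hNcent
  have hcop : (Fintype.card (↥R ⧸ (S : Subgroup ↥R))).Coprime p := by
    have h1 : Fintype.card (↥R ⧸ (S : Subgroup ↥R)) = (S : Subgroup ↥R).index := by
      rw [Subgroup.index_eq_card, Nat.card_eq_fintype_card]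
    rw [h1]
    exact (Nat.Coprime.symm ((Nat.Prime.coprime_iff_not_dvd Fact.out).mpr S.not_dvd_index))
  exact mem_of_pow_mem_of_coprime hcop (hV.2 z hzV) hpow

end Cfsg.Agent.Lib.helper52
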