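import Mathlib
import Cfsg.Agent.Lib.helper52.Transfer

set_option autoImplicit false

namespace Cfsg.Agent.Lib.helper52

open Cfsg
open scoped commutatorElement

/-- **Transfer argument, refined.** Let `R` normalize the elementary abelian `p`-subgroup `V`, let
`S` have index prime to `p` in `R`, and let `z ∈ V` be centralized by `S`. If `X` contains all
commutators `[r, z]` with `r ∈ R`, then `z = w c` with `w ∈ X ∩ V` and `c ∈ C_V(R)`. -/
theorem exists_mul_of_centralized_of_coprime_relIndex {G : Type*} [Group G] [Finite G] {p : ℕ}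
    [hp : Fact p.Prime] (V R S X : Subgroup G) (hV : Cfsg.IsElementaryAbelian p V)
    (hRN : R ≤ Subgroup.normalizer (V : Set G)) (hidx : (S.relIndex R).Coprime p) {z : G}
    (hzV : z ∈ V) (hzS : ∀ t ∈ S, t * z = z * t) (hX : ∀ r ∈ R, ⁅r, z⁆ ∈ X) :
    ∃ w ∈ X, ∃ c ∈ V ⊓ Subgroup.centralizer (R : Set G), w ∈ V ∧ z = w * c := by
  classical
  let _ : CommGroup ↥V :=
    { (inferInstance : Group ↥V) with
      mul_comm := fun a b => isMulCommutative_iff.mp hV.1 a b }
  let φ : ↥R →* MulAut ↥V := (Subgroup.normalizerMonoidHom V).comp (Subgroup.inclusion hRN)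
  have hφ : ∀ (r : ↥R) (v : ↥V), ((φ r v : ↥V) : G) = (r : G) * (v : G) * (r : G)⁻¹ := by
    intro r v
    rfl
  have : Fintype (↥R ⧸ (S.subgroupOf R)) := Fintype.ofFinite _
  set z' : ↥V := ⟨z, hzV⟩ with hz'
  have hzfix : ∀ t ∈ S.subgroupOf R, φ t z' = z' := by
    intro t ht
    apply Subtype.ext
    rw [hφ]
    show (t : G) * z * (t : G)⁻¹ = z
    rw [hzS (t : G) (Subgroup.mem_subgroupOf.mp ht)]; group
  set N : ↥V := ∏ q : ↥R ⧸ (S.subgroupOf R), φ q.out z' with hN
  set c : ↥V := ∏ q : ↥R ⧸ (S.subgroupOf R), φ q.out z' / z' with hc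
  have hNfix : ∀ r : ↥R, φ r N = N := fun r => norm_fixed φ (S.subgroupOf R) z' hzfix r
  have hNeq : N = c * z' ^ Fintype.card (↥R ⧸ (S.subgroupOf R)) := norm_eq φ (S.subgroupOf R) z'
  have hNcent : (N : G) ∈ V ⊓ Subgroup.centralizer (R : Set G) := by
    refine Subgroup.mem_inf.mpr ⟨N.2, ?_⟩
    rw [Subgroup.mem_centralizer_iff]
    intro r hr
    have h1 := congrArg Subtype.val (hNfix ⟨r, hr⟩)
    rw [hφ] at h1
    calc r * (N : G) = (r * (N : G) * r⁻¹) * r := by group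
      _ = (N : G) * r := by rw [h1]
  have hcmem : c ∈ X.subgroupOf V := by
    apply Subgroup.prod_mem
    intro q _
    rw [Subgroup.mem_subgroupOf]
    have h1 : ((φ q.out z' / z' : ↥V) : G) = ⁅((q.out : ↥R) : G), z⁆ := by
      rw [div_eq_mul_inv, Subgroup.coe_mul, hφ, Subgroup.coe_inv, commutatorElement_def]
    rw [h1]
    exact hX _ (q.out).2
  have hcop : (Fintype.card (↥R ⧸ (S.subgroupOf R))).Coprime p := by
    have h1 : Fintype.card (↥R ⧸ (S.subgroupOf R)) = (S.subgroupOf R).index := by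
      rw [Subgroup.index_eq_card, Nat.card_eq_fintype_card]
    rw [h1]
    exact hidx
  obtain ⟨m, -, hm⟩ := Nat.exists_mul_mod_eq_one_of_coprime hcop hp.out.one_lt
  have h1 : Fintype.card (↥R ⧸ (S.subgroupOf R)) * m
      = p * (Fintype.card (↥R ⧸ (S.subgroupOf R)) * m / p) + 1 := by
    conv_lhs => rw [← Nat.div_add_mod (Fintype.card (↥R ⧸ (S.subgroupOf R)) * m) p, hm]
  have hz'p : z' ^ p = 1 := Subtype.ext (by simpa using hV.2 z hzV)
  have h2 : z' ^ (Fintype.card (↥R ⧸ (S.subgroupOf R)) * m) = z' := by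
    rw [h1, pow_succ, pow_mul, hz'p, one_pow, one_mul]
  have h3 : z' ^ Fintype.card (↥R ⧸ (S.subgroupOf R)) = c⁻¹ * N := by
    rw [hNeq]; group
  have h4 : z' = (c⁻¹) ^ m * N ^ m := by
    conv_lhs => rw [← h2, pow_mul, h3, mul_pow]
  refine ⟨(((c⁻¹) ^ m : ↥V) : G), ?_, ((N ^ m : ↥V) : G), ?_, ((c⁻¹) ^ m : ↥V).2, ?_⟩
  · have : (c⁻¹) ^ m ∈ X.subgroupOf V := pow_mem (inv_mem hcmem) m
    exact Subgroup.mem_subgroupOf.mp this
  · rw [Subgroup.coe_pow]
    exact pow_mem hNcent m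
  · have := congrArg Subtype.val h4
    rw [Subgroup.coe_mul] at this
    exact this

end Cfsg.Agent.Lib.helper52
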