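import Mathlib
import Cfsg.Agent.Lib.helper52.RelPRed
import Cfsg.Agent.Lib.helper52.Transfer2
import Cfsg.Agent.Lib.helper12.SylowNormal

set_option autoImplicit false

namespace Cfsg.Agent.Lib.helper52

open Cfsg
open scoped Pointwise commutatorElement

/-- **Relative fixed points.** Let the `p`-group `T` normalize `L`, both normalizing the elementary
abelian `p`-group `U`, with `T ∩ L` of index prime to `p` in `L`. If `L` centralizes `C_U(T)`, then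
`L` centralizes `C_U(T ∩ L)`. -/
theorem inf_centralizer_inf_le_centralizer {H : Type*} [Group H] [Finite H] {p : ℕ}
    [hp : Fact p.Prime] {U L T : Subgroup H} (hU : Cfsg.IsElementaryAbelian p U)
    (hLU : L ≤ Subgroup.normalizer (U : Set H)) (hTU : T ≤ Subgroup.normalizer (U : Set H))
    (hTL : T ≤ Subgroup.normalizer (L : Set H)) (hT : IsPGroup p ↥T)
    (hidx : ((T ⊓ L).relIndex L).Coprime p)
    (hfix : U ⊓ Subgroup.centralizer (T : Set H) ≤ Subgroup.centralizer (L : Set H)) :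
    U ⊓ Subgroup.centralizer ((T ⊓ L : Subgroup H) : Set H) ≤
      Subgroup.centralizer (L : Set H) := by
  classical
  let _ : CommGroup ↥U :=
    { (inferInstance : Group ↥U) with
      mul_comm := fun a b => isMulCommutative_iff.mp hU.1 a b }
  have hGU : L ⊔ T ≤ Subgroup.normalizer (U : Set H) := sup_le hLU hTU
  let φ : ↥(L ⊔ T) →* MulAut ↥U :=
    (Subgroup.normalizerMonoidHom U).comp (Subgroup.inclusion hGU)
  have hφ : ∀ (r : ↥(L ⊔ T)) (v : ↥U), ((φ r v : ↥U) : H) = (r : H) * (v : H) * (r : H)⁻¹ :=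
    fun r v => rfl
  have : Fintype (↥(L ⊔ T) ⧸ T.subgroupOf (L ⊔ T)) := Fintype.ofFinite _
  -- representatives in `L`
  have hrep : ∀ q : ↥(L ⊔ T) ⧸ T.subgroupOf (L ⊔ T), ∃ l : ↥(L ⊔ T), (l : H) ∈ L ∧
      (l : ↥(L ⊔ T) ⧸ T.subgroupOf (L ⊔ T)) = q := by
    intro q
    obtain ⟨g, rfl⟩ := QuotientGroup.mk_surjective q
    have hg : (g : H)⁻¹ ∈ T ⊔ L := by rw [sup_comm]; exact inv_mem g.2
    obtain ⟨t, ht, l, hl, hgtl⟩ := exists_mul_of_mem_sup hTL hg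
    refine ⟨⟨l⁻¹, le_sup_left (b := T) (inv_mem hl)⟩, inv_mem hl, ?_⟩
    rw [QuotientGroup.eq, Subgroup.mem_subgroupOf]
    simp only [Subgroup.coe_mul, Subgroup.coe_inv, inv_inv]
    have h1 : (g : H) = (t * l)⁻¹ := by rw [← hgtl, inv_inv]
    have h2 : l * (g : H) = t⁻¹ := by rw [h1]; group
    rw [h2]; exact inv_mem ht
  choose ℓ hℓL hℓq using hrep
  have hkey : ∀ (a : ↥U), (a : H) ∈ Subgroup.centralizer ((T ⊓ L : Subgroup H) : Set H) →
      ∀ l : ↥(L ⊔ T), (l : H) ∈ L →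
        φ (ℓ (l : ↥(L ⊔ T) ⧸ T.subgroupOf (L ⊔ T))) a = φ l a := by
    intro a ha l hl
    have h1 : (ℓ (l : ↥(L ⊔ T) ⧸ T.subgroupOf (L ⊔ T)))⁻¹ * l ∈ T.subgroupOf (L ⊔ T) :=
      QuotientGroup.eq.mp (hℓq _)
    have h2 : (((ℓ (l : ↥(L ⊔ T) ⧸ T.subgroupOf (L ⊔ T)))⁻¹ * l : ↥(L ⊔ T)) : H) ∈ T ⊓ L := by
      refine Subgroup.mem_inf.mpr ⟨Subgroup.mem_subgroupOf.mp h1, ?_⟩
      simp only [Subgroup.coe_mul, Subgroup.coe_inv]
      exact mul_mem (inv_mem (hℓL _)) hl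
    have h3 : φ ((ℓ (l : ↥(L ⊔ T) ⧸ T.subgroupOf (L ⊔ T)))⁻¹ * l) a = a := by
      apply Subtype.ext
      rw [hφ]
      have := Subgroup.mem_centralizer_iff.mp ha _ h2
      rw [this]; group
    calc φ (ℓ (l : ↥(L ⊔ T) ⧸ T.subgroupOf (L ⊔ T))) a
        = φ (ℓ (l : ↥(L ⊔ T) ⧸ T.subgroupOf (L ⊔ T)))
            (φ ((ℓ (l : ↥(L ⊔ T) ⧸ T.subgroupOf (L ⊔ T)))⁻¹ * l) a) := by rw [h3]
      _ = φ (ℓ (l : ↥(L ⊔ T) ⧸ T.subgroupOf (L ⊔ T)) *
            ((ℓ (l : ↥(L ⊔ T) ⧸ T.subgroupOf (L ⊔ T)))⁻¹ * l)) a := by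
          rw [← MulAut.mul_apply, ← map_mul]
      _ = φ l a := by rw [mul_inv_cancel_left]
  -- the norm
  let N : ↥U →* ↥U := MonoidHom.mk'
    (fun a => ∏ q : ↥(L ⊔ T) ⧸ T.subgroupOf (L ⊔ T), φ (ℓ q) a) (by
      intro a b
      simp only [map_mul]
      exact Finset.prod_mul_distrib)
  have hN : ∀ a : ↥U, N a = ∏ q : ↥(L ⊔ T) ⧸ T.subgroupOf (L ⊔ T), φ (ℓ q) a := fun a => rfl
  have hNL : ∀ a : ↥U, (a : H) ∈ Subgroup.centralizer ((T ⊓ L : Subgroup H) : Set H) →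
      ∀ l : ↥(L ⊔ T), (l : H) ∈ L → φ l (N a) = N a := by
    intro a ha l hl
    rw [hN, map_prod]
    have h1 : ∀ q : ↥(L ⊔ T) ⧸ T.subgroupOf (L ⊔ T), φ l (φ (ℓ q) a) = φ (ℓ (l • q)) a := by
      intro q
      have e : l • q = ((l * ℓ q : ↥(L ⊔ T)) : ↥(L ⊔ T) ⧸ T.subgroupOf (L ⊔ T)) := by
        conv_lhs => rw [← hℓq q]
        rfl
      rw [e, hkey a ha (l * ℓ q) (by
        simp only [Subgroup.coe_mul]; exact mul_mem hl (hℓL q)), map_mul, MulAut.mul_apply]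
    simp_rw [h1]
    exact Equiv.prod_comp (MulAction.toPerm l : Equiv.Perm (↥(L ⊔ T) ⧸ T.subgroupOf (L ⊔ T)))
      (fun q => φ (ℓ q) a)
  have hAt : ∀ a : ↥U, (a : H) ∈ Subgroup.centralizer ((T ⊓ L : Subgroup H) : Set H) →
      ∀ t : ↥(L ⊔ T), (t : H) ∈ T →
        ((φ t a : ↥U) : H) ∈ Subgroup.centralizer ((T ⊓ L : Subgroup H) : Set H) := by
    intro a ha t ht
    rw [hφ, Subgroup.mem_centralizer_iff]
    rintro s ⟨hsT, hsL⟩
    have hs' : (t : H)⁻¹ * s * (t : H) ∈ T ⊓ L := by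
      refine Subgroup.mem_inf.mpr ⟨mul_mem (mul_mem (inv_mem ht) hsT) ht, ?_⟩
      have := (Subgroup.mem_normalizer_iff.mp (hTL (inv_mem ht)) s).mp hsL
      rwa [inv_inv] at this
    have h1 := Subgroup.mem_centralizer_iff.mp ha _ hs'
    calc s * ((t : H) * (a : H) * (t : H)⁻¹)
        = (t : H) * (((t : H)⁻¹ * s * (t : H)) * (a : H)) * (t : H)⁻¹ := by group
      _ = (t : H) * ((a : H) * ((t : H)⁻¹ * s * (t : H))) * (t : H)⁻¹ := by rw [h1]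
      _ = (t : H) * (a : H) * (t : H)⁻¹ * s := by group
  have hNT : ∀ a : ↥U, (a : H) ∈ Subgroup.centralizer ((T ⊓ L : Subgroup H) : Set H) →
      ∀ t : ↥(L ⊔ T), (t : H) ∈ T → φ t (N a) = N (φ t a) := by
    intro a ha t ht
    rw [hN, hN, map_prod]
    have h1 : ∀ q : ↥(L ⊔ T) ⧸ T.subgroupOf (L ⊔ T),
        φ t (φ (ℓ q) a) = φ (ℓ (t • q)) (φ t a) := by
      intro q
      have e : t • q = ((t * ℓ q * t⁻¹ : ↥(L ⊔ T)) : ↥(L ⊔ T) ⧸ T.subgroupOf (L ⊔ T)) := by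
        have e0 : t • q = ((t * ℓ q : ↥(L ⊔ T)) : ↥(L ⊔ T) ⧸ T.subgroupOf (L ⊔ T)) := by
          conv_lhs => rw [← hℓq q]
          rfl
        rw [e0, QuotientGroup.eq, Subgroup.mem_subgroupOf]
        have : (t * ℓ q)⁻¹ * (t * ℓ q * t⁻¹) = t⁻¹ := by group
        rw [this, Subgroup.coe_inv]
        exact inv_mem ht
      have hmem : ((t * ℓ q * t⁻¹ : ↥(L ⊔ T)) : H) ∈ L := by
        simp only [Subgroup.coe_mul, Subgroup.coe_inv]
        exact (Subgroup.mem_normalizer_iff.mp (hTL ht) _).mp (hℓL q)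
      rw [e, hkey (φ t a) (hAt a ha t ht) (t * ℓ q * t⁻¹) hmem, ← MulAut.mul_apply, ← map_mul,
        ← MulAut.mul_apply, ← map_mul]
      congr 2
      group
    simp_rw [h1]
    exact Equiv.prod_comp (MulAction.toPerm t : Equiv.Perm (↥(L ⊔ T) ⧸ T.subgroupOf (L ⊔ T)))
      (fun q => φ (ℓ q) (φ t a))
  have hNC : ∀ a : ↥U, (a : H) ∈ Subgroup.centralizer (L : Set H) →
      N a = a ^ Fintype.card (↥(L ⊔ T) ⧸ T.subgroupOf (L ⊔ T)) := by
    intro a ha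
    rw [hN]
    have h1 : ∀ q : ↥(L ⊔ T) ⧸ T.subgroupOf (L ⊔ T), φ (ℓ q) a = a := by
      intro q
      apply Subtype.ext
      rw [hφ]
      have := Subgroup.mem_centralizer_iff.mp ha _ (hℓL q)
      rw [this]; group
    simp_rw [h1]
    rw [Finset.prod_const, Finset.card_univ]
  -- `N a` is centralized by `L`
  have hNcent : ∀ a : ↥U, (a : H) ∈ Subgroup.centralizer ((T ⊓ L : Subgroup H) : Set H) →
      ((N a : ↥U) : H) ∈ Subgroup.centralizer (L : Set H) := by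
    intro a ha
    rw [Subgroup.mem_centralizer_iff]
    intro l hl
    have h1 := congrArg Subtype.val (hNL a ha ⟨l, le_sup_left (b := T) hl⟩ hl)
    rw [hφ] at h1
    calc l * ((N a : ↥U) : H) = (l * ((N a : ↥U) : H) * l⁻¹) * l := by group
      _ = ((N a : ↥U) : H) * l := by rw [h1]
  -- the index is prime to `p`
  have hcop : (Fintype.card (↥(L ⊔ T) ⧸ T.subgroupOf (L ⊔ T))).Coprime p := by
    have hLn : (L.subgroupOf (L ⊔ T)).Normal :=
      (Subgroup.normal_subgroupOf_iff_le_normalizer le_sup_left).mpr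
        (sup_le Subgroup.le_normalizer hTL)
    have e1 := Cfsg.Agent.Lib.helper12.relIndex_eq_relIndex_sup_of_normal
      (T.subgroupOf (L ⊔ T)) (L.subgroupOf (L ⊔ T))
    have e2 : T.subgroupOf (L ⊔ T) ⊔ L.subgroupOf (L ⊔ T) = ⊤ := by
      rw [← Subgroup.subgroupOf_sup le_sup_right le_sup_left, Subgroup.subgroupOf_eq_top, sup_comm]
    rw [e2, Subgroup.relIndex_top_right, Subgroup.relIndex_subgroupOf le_sup_left] at e1
    have e3 : Fintype.card (↥(L ⊔ T) ⧸ T.subgroupOf (L ⊔ T)) = (T.subgroupOf (L ⊔ T)).index := by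
      rw [Subgroup.index_eq_card, Nat.card_eq_fintype_card]
    rw [e3, ← e1, ← Subgroup.inf_relIndex_right]
    exact hidx
  -- the complement
  let XU : Subgroup ↥U :=
    { carrier := {a | (a : H) ∈ Subgroup.centralizer ((T ⊓ L : Subgroup H) : Set H) ∧ N a = 1}
      one_mem' := ⟨by simp, map_one N⟩
      mul_mem' := by
        rintro a b ⟨ha, hNa⟩ ⟨hb, hNb⟩
        refine ⟨?_, by rw [map_mul, hNa, hNb, one_mul]⟩
        rw [Subgroup.coe_mul]; exact mul_mem ha hb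
      inv_mem' := by
        rintro a ⟨ha, hNa⟩
        refine ⟨?_, by rw [map_inv, hNa, inv_one]⟩
        rw [Subgroup.coe_inv]; exact inv_mem ha }
  have hXU : ∀ a : ↥U, a ∈ XU ↔
      (a : H) ∈ Subgroup.centralizer ((T ⊓ L : Subgroup H) : Set H) ∧ N a = 1 := fun a => Iff.rfl
  have hXp : IsPGroup p ↥(XU.map U.subtype) :=
    (IsElementaryAbelian.isPGroup hU).to_le (Subgroup.map_subtype_le XU)
  have hTX : T ≤ Subgroup.normalizer ((XU.map U.subtype : Subgroup H) : Set H) := by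
    apply le_normalizer_of_forall_conj_mem
    rintro t ht _ ⟨a, ha, rfl⟩
    obtain ⟨hac, hNa⟩ := (hXU a).mp ha
    refine ⟨φ ⟨t, le_sup_right (a := L) ht⟩ a, ?_, rfl⟩
    rw [SetLike.mem_coe, hXU]
    refine ⟨hAt a hac ⟨t, le_sup_right (a := L) ht⟩ ht, ?_⟩
    rw [← hNT a hac ⟨t, le_sup_right (a := L) ht⟩ ht, hNa, map_one]
  have hXL : ∀ x ∈ XU.map U.subtype, x ∈ Subgroup.centralizer (L : Set H) → x = 1 := by
    rintro _ ⟨a, ha, rfl⟩ hx
    obtain ⟨hac, hNa⟩ := (hXU a).mp ha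
    rw [hNC a hx] at hNa
    have h1 : (orderOf a).Coprime p :=
      Nat.Coprime.coprime_dvd_left (orderOf_dvd_of_pow_eq_one hNa) hcop
    have h2 : a ^ p ^ 1 = 1 := by
      rw [pow_one]; exact Subtype.ext (by simpa using hU.2 (a : H) a.2)
    have h3 : a = 1 := eq_one_of_coprime_of_pow h1 h2
    rw [h3]; rfl
  have hXbot : XU.map U.subtype = ⊥ := by
    by_contra hX
    obtain ⟨m, hmX, hm1, hmT⟩ := exists_ne_one_mem_centralized_of_p_acts (D := T) hXp hTX (by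
      intro d hd
      obtain ⟨k, hk⟩ := hT ⟨d, hd⟩
      refine ⟨k, ?_⟩
      have : d ^ p ^ k = 1 := by simpa using congrArg Subtype.val hk
      rw [this]; exact one_mem _) hX
    apply hm1
    apply hXL m hmX
    apply hfix
    refine Subgroup.mem_inf.mpr ⟨Subgroup.map_subtype_le XU hmX, ?_⟩
    rw [Subgroup.mem_centralizer_iff]
    intro t ht
    exact hmT t ht
  -- conclusion
  rintro z ⟨hzU, hzc⟩
  have hx : (⟨z, hzU⟩ : ↥U) ^ Fintype.card (↥(L ⊔ T) ⧸ T.subgroupOf (L ⊔ T)) *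
      (N ⟨z, hzU⟩)⁻¹ ∈ XU := by
    rw [hXU]
    refine ⟨?_, ?_⟩
    · rw [Subgroup.coe_mul, Subgroup.coe_pow, Subgroup.coe_inv]
      refine mul_mem (pow_mem hzc _) (inv_mem ?_)
      exact Subgroup.centralizer_le (fun x hx => hx.2) (hNcent ⟨z, hzU⟩ hzc)
    · rw [map_mul, map_pow, map_inv, hNC (N ⟨z, hzU⟩) (hNcent ⟨z, hzU⟩ hzc), mul_inv_cancel]
  have hx1 : ((⟨z, hzU⟩ : ↥U) ^ Fintype.card (↥(L ⊔ T) ⧸ T.subgroupOf (L ⊔ T)) *
      (N ⟨z, hzU⟩)⁻¹ : ↥U) = 1 := by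
    have h1 : (((⟨z, hzU⟩ : ↥U) ^ Fintype.card (↥(L ⊔ T) ⧸ T.subgroupOf (L ⊔ T)) *
      (N ⟨z, hzU⟩)⁻¹ : ↥U) : H) ∈ XU.map U.subtype := ⟨_, hx, rfl⟩
    rw [hXbot, Subgroup.mem_bot] at h1
    exact Subtype.ext h1
  have hzn : z ^ Fintype.card (↥(L ⊔ T) ⧸ T.subgroupOf (L ⊔ T)) ∈
      Subgroup.centralizer (L : Set H) := by
    have h1 : (⟨z, hzU⟩ : ↥U) ^ Fintype.card (↥(L ⊔ T) ⧸ T.subgroupOf (L ⊔ T)) = N ⟨z, hzU⟩ :=
      mul_inv_eq_one.mp hx1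
    have h2 := congrArg Subtype.val h1
    rw [Subgroup.coe_pow] at h2
    rw [show z = ((⟨z, hzU⟩ : ↥U) : H) from rfl, h2]
    exact hNcent ⟨z, hzU⟩ hzc
  exact mem_of_pow_mem_of_coprime hcop (hU.2 z hzU) hzn

end Cfsg.Agent.Lib.helper52
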