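import Mathlib
import Cfsg.Agent.Lib.helper52.Kieler
import Cfsg.Agent.Lib.helper54.AxB
import Cfsg.Agent.Lib.helper27.Radical
import Cfsg.Agent.Lib.helper40.PResidual

set_option autoImplicit false

namespace Cfsg.Agent.Lib.helper52

open Cfsg
open scoped Pointwise commutatorElement

/-- `N(P)` normalizes `Ω₁Z(P)`. -/
theorem normalizer_le_normalizer_omegaZ {G : Type*} [Group G] (p : ℕ) (P : Subgroup G) :
    Subgroup.normalizer (P : Set G) ≤ Subgroup.normalizer ((omegaZ p P : Subgroup G) : Set G) :=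
  le_normalizer_of_forall_conj_mem (fun _ hg _ hx => conj_mem_omegaZ hg hx)

/-- Characteristic `p` passes to subgroups containing `O_p`. -/
theorem charPIn_of_pCoreOf_le {G : Type*} [Group G] {p : ℕ} {Y X : Subgroup G}
    (hY : Cfsg.Agent.Lib.helper54.CharPIn p Y) (hX : X ≤ Y) (hQ : Cfsg.pCoreOf p Y ≤ X) :
    Cfsg.Agent.Lib.helper54.CharPIn p X :=
  ⟨Cfsg.pCoreOf p Y, hQ, hX.trans (Cfsg.Agent.Lib.helper53.le_normalizer_pCoreOf p Y),
    Cfsg.Agent.Lib.helper53.pCoreOf_isPGroup p Y,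
    (inf_le_inf_right _ hX).trans hY.pCoreOf_spec⟩

/-- **Kieler Lemma, normal step.** -/
theorem kieler_normal_step {H : Type*} [Group H] [Finite H] {p : ℕ} [Fact p.Prime]
    (hH : Subgroup.centralizer (Cfsg.pCore p H : Set H) ≤ Cfsg.pCore p H) (T : Sylow p H)
    {M L : Subgroup H} (hM : M.IsSubnormal) (hLM : L ≤ M)
    (hML : M ≤ Subgroup.normalizer (L : Set H)) :
    L ⊓ Subgroup.centralizer ((omegaZ p ((T : Subgroup H) ⊓ M) : Subgroup H) : Set H) ≤
      Subgroup.centralizer ((omegaZ p ((T : Subgroup H) ⊓ L) : Subgroup H) : Set H) := by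
  have hL : L.IsSubnormal := isSubnormal_of_le_of_le_normalizer hM hLM hML
  have hSMcent : (T : Subgroup H) ⊓ M ≤
      Subgroup.centralizer ((omegaZ p ((T : Subgroup H) ⊓ M) : Subgroup H) : Set H) :=
    Subgroup.le_centralizer_iff.mp (fun x hx => hx.2.1)
  have hSSM : (T : Subgroup H) ⊓ L ≤ (T : Subgroup H) ⊓ M := inf_le_inf_left _ hLM
  have hSD : (T : Subgroup H) ⊓ L ≤
      L ⊓ Subgroup.centralizer ((omegaZ p ((T : Subgroup H) ⊓ M) : Subgroup H) : Set H) :=
    le_inf inf_le_right (hSSM.trans hSMcent)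
  have hSMD : (T : Subgroup H) ⊓ M ≤ Subgroup.normalizer
      ((L ⊓ Subgroup.centralizer ((omegaZ p ((T : Subgroup H) ⊓ M) : Subgroup H) : Set H) :
        Subgroup H) : Set H) :=
    le_normalizer_inf ((inf_le_right : (T : Subgroup H) ⊓ M ≤ M).trans hML)
      (hSMcent.trans Subgroup.le_normalizer)
  -- characteristic `p`
  have hcM : Cfsg.Agent.Lib.helper54.CharPIn p M :=
    Cfsg.Agent.Lib.helper54.CharPIn.of_subnormal hM (Cfsg.Agent.Lib.helper54.charPIn_top hH)
  have hQM : Cfsg.pCoreOf p M ≤ (T : Subgroup H) ⊓ M := by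
    refine le_inf ?_ (Cfsg.Agent.Lib.helper53.pCoreOf_le p M)
    have hsub : (Cfsg.pCoreOf p M).IsSubnormal :=
      isSubnormal_of_le_of_le_normalizer hM (Cfsg.Agent.Lib.helper53.pCoreOf_le p M)
        (Cfsg.Agent.Lib.helper53.le_normalizer_pCoreOf p M)
    exact (Cfsg.Agent.Lib.helper27.subnormal_pGroup_le_pCore p _ hsub
      (Cfsg.Agent.Lib.helper53.pCoreOf_isPGroup p M)).trans
        (Cfsg.Agent.Lib.helper53.pCore_le_sylow T)
  have hcM' : Cfsg.Agent.Lib.helper54.CharPIn p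
      (M ⊓ Subgroup.centralizer ((omegaZ p ((T : Subgroup H) ⊓ M) : Subgroup H) : Set H)) :=
    charPIn_of_pCoreOf_le hcM inf_le_left (le_inf (hQM.trans inf_le_right) (hQM.trans hSMcent))
  have hcD : Cfsg.Agent.Lib.helper54.CharPIn p
      (L ⊓ Subgroup.centralizer ((omegaZ p ((T : Subgroup H) ⊓ M) : Subgroup H) : Set H)) :=
    Cfsg.Agent.Lib.helper54.CharPIn.of_normal (inf_le_inf_right _ hLM)
      (le_normalizer_inf (inf_le_left.trans hML) (inf_le_right.trans Subgroup.le_normalizer)) hcM'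
  -- `S` has index prime to `p` in `D`
  have hidxL : ¬ p ∣ ((T : Subgroup H) ⊓ L).relIndex L := by
    rw [Subgroup.inf_relIndex_right]
    exact Cfsg.Agent.Lib.helper12.not_dvd_relIndex_of_isSubnormal T L hL
  have hidxD : (((T : Subgroup H) ⊓ L).relIndex
      (L ⊓ Subgroup.centralizer ((omegaZ p ((T : Subgroup H) ⊓ M) : Subgroup H) : Set H))).Coprime
        p := by
    have h1 : ((T : Subgroup H) ⊓ L).relIndex
        (L ⊓ Subgroup.centralizer ((omegaZ p ((T : Subgroup H) ⊓ M) : Subgroup H) : Set H)) ∣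
          ((T : Subgroup H) ⊓ L).relIndex L :=
      Dvd.intro _ (Subgroup.relIndex_mul_relIndex _ _ L hSD inf_le_left)
    exact Nat.Coprime.coprime_dvd_left h1
      (Nat.Coprime.symm ((Nat.Prime.coprime_iff_not_dvd Fact.out).mpr hidxL))
  -- `O_p(D) ≤ S`
  have hQS : Cfsg.pCoreOf p
      (L ⊓ Subgroup.centralizer ((omegaZ p ((T : Subgroup H) ⊓ M) : Subgroup H) : Set H)) ≤
        (T : Subgroup H) ⊓ L := by
    have h1 : IsPGroup p ↥(((T : Subgroup H) ⊓ L).subgroupOf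
        (L ⊓ Subgroup.centralizer ((omegaZ p ((T : Subgroup H) ⊓ M) : Subgroup H) : Set H))) :=
      (T.isPGroup'.to_le inf_le_left).comap_subtype
    have h2 : ¬ p ∣ (((T : Subgroup H) ⊓ L).subgroupOf
        (L ⊓ Subgroup.centralizer
          ((omegaZ p ((T : Subgroup H) ⊓ M) : Subgroup H) : Set H))).index := by
      intro hd
      have h3 : p ∣ Nat.gcd (((T : Subgroup H) ⊓ L).relIndex
        (L ⊓ Subgroup.centralizer ((omegaZ p ((T : Subgroup H) ⊓ M) : Subgroup H) : Set H))) p :=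
        Nat.dvd_gcd hd dvd_rfl
      rw [hidxD.gcd_eq_one] at h3
      exact (Fact.out : p.Prime).one_lt.ne' (Nat.dvd_one.mp h3)
    have hn : (Cfsg.pCore p ↥(L ⊓ Subgroup.centralizer
        ((omegaZ p ((T : Subgroup H) ⊓ M) : Subgroup H) : Set H))).Normal := Cfsg.pCore_normal p _
    have h3 := (pCore_isPGroup p ↥(L ⊓ Subgroup.centralizer
        ((omegaZ p ((T : Subgroup H) ⊓ M) : Subgroup H) : Set H))).le_sylow_of_normal
          (h1.toSylow h2)
    rintro x ⟨x', hx', rfl⟩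
    exact Subgroup.mem_subgroupOf.mp ((IsPGroup.mem_toSylow h1 h2).mp (h3 hx'))
  -- the module `U = Ω₁Z(O_p(D))`
  have hUE : Cfsg.IsElementaryAbelian p (omegaZ p (Cfsg.pCoreOf p
      (L ⊓ Subgroup.centralizer ((omegaZ p ((T : Subgroup H) ⊓ M) : Subgroup H) : Set H)))) :=
    omegaZ_isElementaryAbelian p _
  have hDU := (Cfsg.Agent.Lib.helper53.le_normalizer_pCoreOf p
      (L ⊓ Subgroup.centralizer ((omegaZ p ((T : Subgroup H) ⊓ M) : Subgroup H) : Set H))).trans
        (normalizer_le_normalizer_omegaZ p _)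
  have hSMU := hSMD.trans ((Cfsg.Agent.Lib.helper54.normalizer_le_normalizer_pCoreOf p
      (L ⊓ Subgroup.centralizer ((omegaZ p ((T : Subgroup H) ⊓ M) : Subgroup H) : Set H))).trans
        (normalizer_le_normalizer_omegaZ p _))
  have hSMp : IsPGroup p ↥((T : Subgroup H) ⊓ M) := T.isPGroup'.to_le inf_le_left
  have hinf : ((T : Subgroup H) ⊓ M) ⊓
      (L ⊓ Subgroup.centralizer ((omegaZ p ((T : Subgroup H) ⊓ M) : Subgroup H) : Set H))
        = (T : Subgroup H) ⊓ L := by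
    apply le_antisymm
    · exact le_inf (inf_le_left.trans inf_le_left) (inf_le_right.trans inf_le_left)
    · exact le_inf hSSM hSD
  have hfix : omegaZ p (Cfsg.pCoreOf p
      (L ⊓ Subgroup.centralizer ((omegaZ p ((T : Subgroup H) ⊓ M) : Subgroup H) : Set H))) ⊓
        Subgroup.centralizer (((T : Subgroup H) ⊓ M : Subgroup H) : Set H) ≤
      Subgroup.centralizer ((L ⊓ Subgroup.centralizer
        ((omegaZ p ((T : Subgroup H) ⊓ M) : Subgroup H) : Set H) : Subgroup H) : Set H) := by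
    intro u hu0
    obtain ⟨huU, huC⟩ := Subgroup.mem_inf.mp hu0
    have hu : u ∈ omegaZ p ((T : Subgroup H) ⊓ M) :=
      mem_omegaZ.mpr ⟨hSSM (hQS (mem_omegaZ.mp huU).1), huC, (mem_omegaZ.mp huU).2.2⟩
    rw [Subgroup.mem_centralizer_iff]
    intro d hd
    exact (Subgroup.mem_centralizer_iff.mp hd.2 u hu).symm
  have hB := inf_centralizer_inf_le_centralizer hUE hDU hSMU hSMD hSMp
    (by rw [hinf]; exact hidxD) hfix
  rw [hinf] at hB
  have hZ0 : omegaZ p ((T : Subgroup H) ⊓ L) ≤ omegaZ p (Cfsg.pCoreOf p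
      (L ⊓ Subgroup.centralizer ((omegaZ p ((T : Subgroup H) ⊓ M) : Subgroup H) : Set H))) ⊓
        Subgroup.centralizer (((T : Subgroup H) ⊓ L : Subgroup H) : Set H) := by
    intro z hz
    obtain ⟨hzS, hzC, hzp⟩ := mem_omegaZ.mp hz
    refine Subgroup.mem_inf.mpr ⟨?_, hzC⟩
    have hzQc : z ∈ Subgroup.centralizer ((Cfsg.pCoreOf p
        (L ⊓ Subgroup.centralizer ((omegaZ p ((T : Subgroup H) ⊓ M) : Subgroup H) : Set H)) :
          Subgroup H) : Set H) :=
      Subgroup.centralizer_le (SetLike.coe_subset_coe.mpr hQS) hzC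
    have hzQ := hcD.pCoreOf_spec (Subgroup.mem_inf.mpr ⟨hSD hzS, hzQc⟩)
    exact mem_omegaZ.mpr ⟨hzQ, hzQc, hzp⟩
  exact Subgroup.le_centralizer_iff.mp (hZ0.trans hB)

/-- **Kieler Lemma, first half**: `C_L(Ω₁Z(T ∩ L)) ≤ C_L(Ω₁Z(T))`. -/
theorem kieler_partA {H : Type*} [Group H] [Finite H] {p : ℕ} [Fact p.Prime]
    (hH : Subgroup.centralizer (Cfsg.pCore p H : Set H) ≤ Cfsg.pCore p H) (T : Sylow p H)
    {L : Subgroup H} (hL : L.IsSubnormal) :
    L ⊓ Subgroup.centralizer ((omegaZ p ((T : Subgroup H) ⊓ L) : Subgroup H) : Set H) ≤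
      Subgroup.centralizer ((omegaZ p (T : Subgroup H) : Subgroup H) : Set H) := by
  have hQn : (Cfsg.pCore p H).Normal := Cfsg.pCore_normal p H
  have hVn : (omegaZ p (Cfsg.pCore p H)).Normal := omegaZ_normal p (Cfsg.pCore p H)
  have hVE : Cfsg.IsElementaryAbelian p (omegaZ p (Cfsg.pCore p H)) :=
    omegaZ_isElementaryAbelian p _
  have hQT : Cfsg.pCore p H ≤ (T : Subgroup H) := Cfsg.Agent.Lib.helper53.pCore_le_sylow T
  have hVT : omegaZ p (Cfsg.pCore p H) ≤ (T : Subgroup H) := (omegaZ_le p _).trans hQT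
  have hKL : (Cfsg.pResidual p ↥L).map L.subtype ≤ L := map_pResidual_subtype_le p L
  have hWK : ⁅omegaZ p (Cfsg.pCore p H), (Cfsg.pResidual p ↥L).map L.subtype⁆ ≤
      (Cfsg.pResidual p ↥L).map L.subtype :=
    commutator_pResidual_le_of_isSubnormal hVn (IsElementaryAbelian.isPGroup hVE) hL
  intro x hx
  obtain ⟨hxL, hxC⟩ := Subgroup.mem_inf.mp hx
  rw [Subgroup.mem_centralizer_iff] at hxC ⊢
  intro z hz
  obtain ⟨hzT, hzC, hzp⟩ := mem_omegaZ.mp hz
  have hzQc : z ∈ Subgroup.centralizer (Cfsg.pCore p H : Set H) :=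
    Subgroup.centralizer_le (SetLike.coe_subset_coe.mpr hQT) hzC
  have hzV : z ∈ omegaZ p (Cfsg.pCore p H) := mem_omegaZ.mpr ⟨hH hzQc, hzQc, hzp⟩
  have hidx : (((T : Subgroup H) ⊓ L).relIndex L).Coprime p := by
    rw [Subgroup.inf_relIndex_right]
    exact Nat.Coprime.symm ((Nat.Prime.coprime_iff_not_dvd Fact.out).mpr
      (Cfsg.Agent.Lib.helper12.not_dvd_relIndex_of_isSubnormal T L hL))
  have hzS : ∀ t ∈ (T : Subgroup H) ⊓ L, t * z = z * t :=
    fun t ht => Subgroup.mem_centralizer_iff.mp hzC t ht.1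
  have hX : ∀ r ∈ L, ⁅r, z⁆ ∈
      ⁅omegaZ p (Cfsg.pCore p H), (Cfsg.pResidual p ↥L).map L.subtype⁆ := by
    intro r hr
    obtain ⟨Q, hQ⟩ := Cfsg.Agent.Lib.helper12.exists_sylow_eq_subgroupOf_of_isSubnormal T L hL
    have hrn : (Cfsg.pResidual p ↥L).Normal := Cfsg.Agent.Lib.helper40.pResidual_normal p ↥L
    have hr' : (⟨r, hr⟩ : ↥L) ∈ (Q : Subgroup ↥L) ⊔ Cfsg.pResidual p ↥L := by
      rw [sup_comm, Cfsg.Agent.Lib.helper53.pResidual_sup_sylow Q]; exact Subgroup.mem_top _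
    obtain ⟨s, hs, k, hk, hsk⟩ := exists_mul_of_mem_sup
      (by rw [Subgroup.normalizer_eq_top]; exact le_top) hr'
    have hrsk : r = (s : H) * (k : H) := by simpa using congrArg Subtype.val hsk
    have hsT : (s : H) ∈ (T : Subgroup H) := by
      rw [hQ] at hs; exact Subgroup.mem_subgroupOf.mp hs
    have hkK : (k : H) ∈ (Cfsg.pResidual p ↥L).map L.subtype := ⟨k, hk, rfl⟩
    have e : ⁅(s : H) * (k : H), z⁆ = (s : H) * ⁅(k : H), z⁆ * (s : H)⁻¹ * ⁅(s : H), z⁆ := by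
      simp only [commutatorElement_def]; group
    have e2 : ⁅(s : H), z⁆ = 1 :=
      commutatorElement_eq_one_iff_mul_comm.mpr (Subgroup.mem_centralizer_iff.mp hzC _ hsT)
    rw [hrsk, e, e2, mul_one]
    have h1 : ⁅(k : H), z⁆ ∈
        ⁅omegaZ p (Cfsg.pCore p H), (Cfsg.pResidual p ↥L).map L.subtype⁆ := by
      rw [Subgroup.commutator_comm]; exact Subgroup.commutator_mem_commutator hkK hzV
    have hsN : (s : H) ∈ Subgroup.normalizer
        ((⁅omegaZ p (Cfsg.pCore p H), (Cfsg.pResidual p ↥L).map L.subtype⁆ : Subgroup H) :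
          Set H) :=
      Cfsg.Agent.Lib.helper53.mem_normalizer_commutator
        (by rw [Subgroup.normalizer_eq_top]; trivial) (le_normalizer_map_subtype L _ s.2)
    exact (Subgroup.mem_normalizer_iff.mp hsN _).mp h1
  obtain ⟨w, hwX, c, hc, hwV, hzwc⟩ := exists_mul_of_centralized_of_coprime_relIndex
    (omegaZ p (Cfsg.pCore p H)) L ((T : Subgroup H) ⊓ L)
    ⁅omegaZ p (Cfsg.pCore p H), (Cfsg.pResidual p ↥L).map L.subtype⁆ hVE
    (by rw [Subgroup.normalizer_eq_top]; exact le_top) hidx hzV hzS hX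
  have hcS : c ∈ Subgroup.centralizer (((T : Subgroup H) ⊓ L : Subgroup H) : Set H) :=
    Subgroup.centralizer_le (fun y hy => hy.2) hc.2
  have hwC : w ∈ Subgroup.centralizer (((T : Subgroup H) ⊓ L : Subgroup H) : Set H) := by
    have : w = z * c⁻¹ := by rw [hzwc]; group
    rw [this]
    exact mul_mem (Subgroup.centralizer_le (fun y hy => hy.1) hzC) (inv_mem hcS)
  have hw : w ∈ omegaZ p ((T : Subgroup H) ⊓ L) :=
    mem_omegaZ.mpr ⟨Subgroup.mem_inf.mpr ⟨hVT hwV, hKL (hWK hwX)⟩, hwC, hVE.2 w hwV⟩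
  have h1 : w * x = x * w := hxC w hw
  have h2 : x * c = c * x := Subgroup.mem_centralizer_iff.mp hc.2 x hxL
  rw [hzwc]
  calc w * c * x = w * (c * x) := by group
    _ = w * (x * c) := by rw [h2]
    _ = (w * x) * c := by group
    _ = (x * w) * c := by rw [h1]
    _ = x * (w * c) := by group

end Cfsg.Agent.Lib.helper52
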