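import Mathlib
import Cfsg.Agent.S2805
import Cfsg.Agent.S3028
import Cfsg.Agent.S0538

set_option autoImplicit false

namespace Cfsg.Agent.Lib.helper52

open Cfsg
open scoped Pointwise commutatorElement

/-- `T ∩ L` is a maximal `p`-subgroup of the subnormal subgroup `L`. -/
theorem eq_sylow_inf_of_isSubnormal {H : Type*} [Group H] [Finite H] {p : ℕ} [hp : Fact p.Prime]
    (T : Sylow p H) {L : Subgroup H} (hL : L.IsSubnormal) {Q : Subgroup H} (hQ : IsPGroup p ↥Q)
    (hTQ : (T : Subgroup H) ⊓ L ≤ Q) (hQL : Q ≤ L) : Q = (T : Subgroup H) ⊓ L := by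
  have h1 : ¬ p ∣ ((T : Subgroup H) ⊓ L).relIndex L := by
    rw [Subgroup.inf_relIndex_right]
    exact Cfsg.Agent.Lib.helper12.not_dvd_relIndex_of_isSubnormal T L hL
  have h2 : ((T : Subgroup H) ⊓ L).relIndex Q * Q.relIndex L = ((T : Subgroup H) ⊓ L).relIndex L :=
    Subgroup.relIndex_mul_relIndex _ _ _ hTQ hQL
  obtain ⟨n, hn⟩ := hQ.index (((T : Subgroup H) ⊓ L).subgroupOf Q)
  have h3 : ((T : Subgroup H) ⊓ L).relIndex Q = p ^ n := hn
  have hn0 : n = 0 := by
    by_contra hne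
    apply h1
    rw [← h2, h3]
    exact Dvd.dvd.mul_right (dvd_pow_self p hne) _
  rw [hn0, pow_zero] at h3
  exact le_antisymm (Subgroup.relIndex_eq_one.mp h3) hTQ

/-- The intersections of a subnormal subgroup with two Sylow `p`-subgroups have the same
order. -/
theorem card_sylow_inf_eq {G : Type*} [Group G] [Finite G] {p : ℕ} [hp : Fact p.Prime]
    (S S' : Sylow p G) {M : Subgroup G} (hM : M.IsSubnormal) :
    Nat.card ↥((S : Subgroup G) ⊓ M) = Nat.card ↥((S' : Subgroup G) ⊓ M) := by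
  obtain ⟨Q₁, hQ₁⟩ := Cfsg.Agent.Lib.helper12.exists_sylow_eq_subgroupOf_of_isSubnormal S M hM
  obtain ⟨Q₂, hQ₂⟩ := Cfsg.Agent.Lib.helper12.exists_sylow_eq_subgroupOf_of_isSubnormal S' M hM
  have key : ∀ X : Subgroup G, Nat.card ↥(X.subgroupOf M) = Nat.card ↥(X ⊓ M) := by
    intro X
    rw [← Subgroup.inf_subgroupOf_right]
    exact Nat.card_congr (Subgroup.subgroupOfEquivOfLe inf_le_right).toEquiv
  rw [← key, ← key, ← hQ₁, ← hQ₂, Sylow.card_eq_multiplicity, Sylow.card_eq_multiplicity]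

/-- A `p`-element of the subnormal subgroup `M` lies in every subnormal subgroup `N ≤ M`
containing `T ∩ M`. -/
theorem mem_of_isSubnormal_of_sylow_inf_le {G : Type*} [Group G] [Finite G] {p : ℕ}
    [hp : Fact p.Prime] (T : Sylow p G) {N M : Subgroup G} (hN : N.IsSubnormal)
    (hM : M.IsSubnormal) (hNM : N ≤ M) (hT : (T : Subgroup G) ⊓ M ≤ N) {x : G} (hxM : x ∈ M)
    (hx : ∃ k : ℕ, orderOf x = p ^ k) : x ∈ N := by
  obtain ⟨k, hk⟩ := hx
  have hz : IsPGroup p ↥(Subgroup.zpowers x) :=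
    IsPGroup.of_card (n := k) (by rw [Nat.card_zpowers, hk])
  obtain ⟨Q, hQ⟩ := hz.exists_le_sylow
  have hxQ : x ∈ (Q : Subgroup G) := hQ (Subgroup.mem_zpowers x)
  have h1 : (T : Subgroup G) ⊓ N = (T : Subgroup G) ⊓ M :=
    le_antisymm (inf_le_inf_left _ hNM) (le_inf inf_le_left hT)
  have h2 : Nat.card ↥((Q : Subgroup G) ⊓ M) ≤ Nat.card ↥((Q : Subgroup G) ⊓ N) := by
    rw [card_sylow_inf_eq Q T hM, card_sylow_inf_eq Q T hN, h1]
  have h3 : (Q : Subgroup G) ⊓ N = (Q : Subgroup G) ⊓ M :=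
    Subgroup.eq_of_le_of_card_ge (inf_le_inf_left _ hNM) h2
  have h4 : x ∈ (Q : Subgroup G) ⊓ N := by rw [h3]; exact ⟨hxQ, hxM⟩
  exact h4.2

/-- `Ω₁Z` commutes with the inclusion of a subgroup. -/
theorem omegaZ_map_subtype {H : Type*} [Group H] (p : ℕ) (M : Subgroup H) (X : Subgroup ↥M) :
    omegaZ p (X.map M.subtype) = (omegaZ p X).map M.subtype := by
  ext z
  constructor
  · rintro ⟨⟨z', hz', rfl⟩, hzc, hzp⟩
    refine ⟨z', ⟨hz', ?_, ?_⟩, rfl⟩
    · rw [Subgroup.mem_centralizer_iff]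
      intro y hy
      have := Subgroup.mem_centralizer_iff.mp hzc (M.subtype y) (Subgroup.mem_map_of_mem _ hy)
      exact Subtype.ext this
    · exact Subtype.ext (by simpa using hzp)
  · rintro ⟨z', ⟨hz', hzc, hzp⟩, rfl⟩
    refine ⟨Subgroup.mem_map_of_mem _ hz', ?_, ?_⟩
    · rw [Subgroup.mem_centralizer_iff]
      rintro _ ⟨y, hy, rfl⟩
      have := Subgroup.mem_centralizer_iff.mp hzc y hy
      exact congrArg Subtype.val this
    · have := congrArg Subtype.val hzp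
      simpa using this

/-- Kieler's Lemma inside a subgroup `M` of characteristic `p`. -/
theorem kieler_in_subgroup {H : Type*} [Group H] [Finite H] {p : ℕ} [Fact p.Prime]
    {M : Subgroup H}
    (hM : Subgroup.centralizer (Cfsg.pCore p ↥M : Set ↥M) ≤ Cfsg.pCore p ↥M) (T' : Sylow p ↥M)
    {D : Subgroup H} (hDM : D ≤ M) (hD : (D.subgroupOf M).IsSubnormal) :
    D ⊓ Subgroup.centralizer
        ((omegaZ p ((T' : Subgroup ↥M).map M.subtype) : Subgroup H) : Set H) =
      D ⊓ Subgroup.centralizer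
        ((omegaZ p ((T' : Subgroup ↥M).map M.subtype ⊓ D) : Subgroup H) : Set H) := by
  have key := Cfsg.Agent.S2805.result hM T' (D.subgroupOf M) hD
  rw [omegaOne_center_eq, omegaOne_center_eq] at key
  have hmap : ((T' : Subgroup ↥M) ⊓ D.subgroupOf M).map M.subtype =
      (T' : Subgroup ↥M).map M.subtype ⊓ D := by
    rw [Subgroup.map_inf _ _ _ M.subtype_injective, Subgroup.map_subgroupOf_eq_of_le hDM]
  have tr : ∀ (X : Subgroup ↥M) (x : ↥M),
      x ∈ Subgroup.centralizer ((omegaZ p X : Subgroup ↥M) : Set ↥M) ↔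
        (x : H) ∈ Subgroup.centralizer ((omegaZ p (X.map M.subtype) : Subgroup H) : Set H) := by
    intro X x
    rw [omegaZ_map_subtype, Subgroup.mem_centralizer_iff, Subgroup.mem_centralizer_iff]
    constructor
    · rintro h _ ⟨z, hz, rfl⟩
      exact congrArg Subtype.val (h z hz)
    · intro h z hz
      exact Subtype.ext (h _ (Subgroup.mem_map_of_mem _ hz))
  ext x
  constructor
  · rintro ⟨hxD, hxC⟩
    refine ⟨hxD, ?_⟩
    have h1 : (⟨x, hDM hxD⟩ : ↥M) ∈ D.subgroupOf M ⊓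
        Subgroup.centralizer ((omegaZ p (T' : Subgroup ↥M) : Subgroup ↥M) : Set ↥M) :=
      Subgroup.mem_inf.mpr ⟨Subgroup.mem_subgroupOf.mpr hxD, (tr _ _).mpr hxC⟩
    rw [key] at h1
    have h2 := (tr _ _).mp (Subgroup.mem_inf.mp h1).2
    rw [hmap] at h2
    exact h2
  · rintro ⟨hxD, hxC⟩
    refine ⟨hxD, ?_⟩
    have h1 : (⟨x, hDM hxD⟩ : ↥M) ∈ D.subgroupOf M ⊓
        Subgroup.centralizer ((omegaZ p ((T' : Subgroup ↥M) ⊓ D.subgroupOf M) : Subgroup ↥M) :
          Set ↥M) := by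
      refine Subgroup.mem_inf.mpr ⟨Subgroup.mem_subgroupOf.mpr hxD, (tr _ _).mpr ?_⟩
      rw [hmap]
      exact hxC
    rw [← key] at h1
    exact (tr _ _).mp (Subgroup.mem_inf.mp h1).2

/-- `Ω₁Z(P) ≠ 1` for a nontrivial `p`-group `P`. -/
theorem omegaZ_ne_bot {H : Type*} [Group H] [Finite H] {p : ℕ} [Fact p.Prime] {P : Subgroup H}
    (hP : IsPGroup p ↥P) (hne : P ≠ ⊥) : omegaZ p P ≠ ⊥ := by
  have hnt : Nontrivial ↥P := (Subgroup.nontrivial_iff_ne_bot P).mpr hne
  have hc : Nontrivial ↥(Subgroup.center ↥P) := hP.center_nontrivial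
  obtain ⟨z, hz⟩ := exists_ne (1 : ↥(Subgroup.center ↥P))
  have hQne : P ⊓ Subgroup.centralizer (P : Set H) ≠ ⊥ := by
    intro h
    apply hz
    have hmem : ((z : ↥P) : H) ∈ P ⊓ Subgroup.centralizer (P : Set H) := by
      refine Subgroup.mem_inf.mpr ⟨(z : ↥P).2, ?_⟩
      rw [Subgroup.mem_centralizer_iff]
      intro y hy
      have := Subgroup.mem_center_iff.mp z.2 ⟨y, hy⟩
      exact congrArg Subtype.val this
    rw [h, Subgroup.mem_bot] at hmem
    exact Subtype.ext (Subtype.ext hmem)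
  obtain ⟨x, hx, hxo⟩ := Cfsg.Agent.Lib.helper53.exists_orderOf_eq_prime_of_ne_bot
    (hP.to_le inf_le_left) hQne
  intro h
  have hxm : x ∈ omegaZ p P :=
    ⟨(Subgroup.mem_inf.mp hx).1, (Subgroup.mem_inf.mp hx).2, by rw [← hxo, pow_orderOf_eq_one]⟩
  rw [h, Subgroup.mem_bot] at hxm
  rw [hxm, orderOf_one] at hxo
  exact (Fact.out : p.Prime).one_lt.ne hxo

/-- Kieler's Lemma through the `p`-local subgroup `N(U)`. -/
theorem kieler_via_local {H : Type*} [Group H] [Finite H] {p : ℕ} [Fact p.Prime]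
    (hH : Cfsg.IsOfLocalCharacteristic p H) (T : Sylow p H) {U : Subgroup H} (hU : IsPGroup p ↥U)
    (hUne : U ≠ ⊥) {L₀ : Subgroup H}
    (hTL₀ : (T : Subgroup H) ⊓ L₀ ≤ Subgroup.normalizer (U : Set H)) :
    ∃ TM : Subgroup H, ∀ D : Subgroup H, D.IsSubnormal → D ≤ L₀ →
      (D ⊓ Subgroup.normalizer (U : Set H)) ⊓
          Subgroup.centralizer ((omegaZ p TM : Subgroup H) : Set H) =
        (D ⊓ Subgroup.normalizer (U : Set H)) ⊓
          Subgroup.centralizer ((omegaZ p ((T : Subgroup H) ⊓ D) : Subgroup H) : Set H) := by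
  have hM := hH.2 U hU hUne
  have hP : IsPGroup p ↥(((T : Subgroup H) ⊓ L₀).subgroupOf (Subgroup.normalizer (U : Set H))) :=
    (T.isPGroup'.to_le inf_le_left).comap_subtype
  obtain ⟨T', hT'⟩ := hP.exists_le_sylow
  refine ⟨(T' : Subgroup ↥(Subgroup.normalizer (U : Set H))).map
    (Subgroup.normalizer (U : Set H)).subtype, ?_⟩
  intro D hD hDL
  have hTM : (T : Subgroup H) ⊓ L₀ ≤ (T' : Subgroup ↥(Subgroup.normalizer (U : Set H))).map
      (Subgroup.normalizer (U : Set H)).subtype := by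
    intro x hx
    exact ⟨⟨x, hTL₀ hx⟩, hT' (Subgroup.mem_subgroupOf.mpr hx), rfl⟩
  have hTMp : IsPGroup p ↥((T' : Subgroup ↥(Subgroup.normalizer (U : Set H))).map
      (Subgroup.normalizer (U : Set H)).subtype) := T'.isPGroup'.map _
  have hTD : (T' : Subgroup ↥(Subgroup.normalizer (U : Set H))).map
      (Subgroup.normalizer (U : Set H)).subtype ⊓ D = (T : Subgroup H) ⊓ D :=
    eq_sylow_inf_of_isSubnormal T hD (hTMp.to_le inf_le_left)
      (le_inf ((inf_le_inf_left _ hDL).trans hTM) inf_le_right) inf_le_right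
  have key := kieler_in_subgroup hM T' (D := D ⊓ Subgroup.normalizer (U : Set H)) inf_le_right
    (by rw [Subgroup.inf_subgroupOf_right]; exact hD.subgroupOf)
  have e : (T' : Subgroup ↥(Subgroup.normalizer (U : Set H))).map
      (Subgroup.normalizer (U : Set H)).subtype ⊓ (D ⊓ Subgroup.normalizer (U : Set H)) =
        (T : Subgroup H) ⊓ D := by
    rw [← inf_assoc, hTD]
    exact inf_eq_left.mpr ((inf_le_inf_left _ hDL).trans hTL₀)
  rw [e] at key
  exact key

/-- **Kieler's Lemma for groups of local characteristic `p`**: for `L` subnormal with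
`T ∩ L ≠ 1`, `C_L(Ω₁Z(T)) = C_L(Ω₁Z(T ∩ L))`. -/
theorem kieler_local {H : Type*} [Group H] [Finite H] {p : ℕ} [Fact p.Prime]
    (hH : Cfsg.IsOfLocalCharacteristic p H) (T : Sylow p H) {L : Subgroup H} (hL : L.IsSubnormal)
    (hTL : (T : Subgroup H) ⊓ L ≠ ⊥) :
    L ⊓ Subgroup.centralizer ((omegaZ p (T : Subgroup H) : Subgroup H) : Set H) =
      L ⊓ Subgroup.centralizer ((omegaZ p ((T : Subgroup H) ⊓ L) : Subgroup H) : Set H) := by
  have hTne : (T : Subgroup H) ≠ ⊥ := fun h => hTL (by rw [h, bot_inf_eq])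
  apply le_antisymm
  · intro x hx
    obtain ⟨hxL, hxC⟩ := Subgroup.mem_inf.mp hx
    refine Subgroup.mem_inf.mpr ⟨hxL, ?_⟩
    have hU : IsPGroup p ↥(omegaZ p (T : Subgroup H)) := T.isPGroup'.to_le (omegaZ_le p _)
    have hUne := omegaZ_ne_bot T.isPGroup' hTne
    have hTN : (T : Subgroup H) ⊓ ⊤ ≤
        Subgroup.normalizer ((omegaZ p (T : Subgroup H) : Subgroup H) : Set H) :=
      inf_le_left.trans (Subgroup.le_normalizer.trans (normalizer_le_normalizer_omegaZ p _))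
    obtain ⟨TM, hTM⟩ := kieler_via_local hH T hU hUne hTN
    have hxN : x ∈ Subgroup.normalizer ((omegaZ p (T : Subgroup H) : Subgroup H) : Set H) :=
      Subgroup.centralizer_le_normalizer _ hxC
    have h1 := hTM ⊤ Subgroup.IsSubnormal.top le_rfl
    have h2 := hTM L hL le_top
    have h3 : x ∈ (⊤ ⊓ Subgroup.normalizer ((omegaZ p (T : Subgroup H) : Subgroup H) : Set H)) ⊓
        Subgroup.centralizer ((omegaZ p TM : Subgroup H) : Set H) := by
      rw [h1, inf_top_eq]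
      exact ⟨⟨Subgroup.mem_top x, hxN⟩, hxC⟩
    have h4 : x ∈ (L ⊓ Subgroup.normalizer ((omegaZ p (T : Subgroup H) : Subgroup H) : Set H)) ⊓
        Subgroup.centralizer ((omegaZ p TM : Subgroup H) : Set H) := ⟨⟨hxL, hxN⟩, h3.2⟩
    rw [h2] at h4
    exact h4.2
  · have key : ∀ K : Subgroup H, K.IsSubnormal → (T : Subgroup H) ⊓ K ≠ ⊥ →
        K ⊓ Subgroup.centralizer ((omegaZ p ((T : Subgroup H) ⊓ K) : Subgroup H) : Set H) ≤
          Subgroup.centralizer ((omegaZ p (T : Subgroup H) : Subgroup H) : Set H) := by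
      intro K hK
      induction hK with
      | top => intro _; rw [inf_top_eq]; exact inf_le_right
      | step K M' hle hM' hN ih =>
        intro hTK
        have hTM' : (T : Subgroup H) ⊓ M' ≠ ⊥ :=
          fun h => hTK (le_bot_iff.mp (h ▸ inf_le_inf_left _ hle))
        have hM'K : M' ≤ Subgroup.normalizer (K : Set H) :=
          (Subgroup.normal_subgroupOf_iff_le_normalizer hle).mp hN
        have hKsn : K.IsSubnormal := isSubnormal_of_le_of_le_normalizer hM' hle hM'K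
        intro x hx
        obtain ⟨hxK, hxC⟩ := Subgroup.mem_inf.mp hx
        apply ih hTM'
        refine Subgroup.mem_inf.mpr ⟨hle hxK, ?_⟩
        have hU : IsPGroup p ↥(omegaZ p ((T : Subgroup H) ⊓ K)) :=
          T.isPGroup'.to_le ((omegaZ_le p _).trans inf_le_left)
        have hUne := omegaZ_ne_bot (T.isPGroup'.to_le inf_le_left) hTK
        have hTN : (T : Subgroup H) ⊓ M' ≤
            Subgroup.normalizer ((omegaZ p ((T : Subgroup H) ⊓ K) : Subgroup H) : Set H) :=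
          (le_normalizer_inf (inf_le_left.trans Subgroup.le_normalizer)
            (inf_le_right.trans hM'K)).trans (normalizer_le_normalizer_omegaZ p _)
        obtain ⟨TM, hTMeq⟩ := kieler_via_local hH T hU hUne hTN
        have hxN := Subgroup.centralizer_le_normalizer _ hxC
        have h1 := hTMeq K hKsn hle
        have h2 := hTMeq M' hM' le_rfl
        have h3 : x ∈ (K ⊓ Subgroup.normalizer
            ((omegaZ p ((T : Subgroup H) ⊓ K) : Subgroup H) : Set H)) ⊓
            Subgroup.centralizer ((omegaZ p TM : Subgroup H) : Set H) := by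
          rw [h1]
          exact ⟨⟨hxK, hxN⟩, hxC⟩
        have h4 : x ∈ (M' ⊓ Subgroup.normalizer
            ((omegaZ p ((T : Subgroup H) ⊓ K) : Subgroup H) : Set H)) ⊓
            Subgroup.centralizer ((omegaZ p TM : Subgroup H) : Set H) :=
          ⟨⟨hle hxK, hxN⟩, h3.2⟩
        rw [h2] at h4
        exact h4.2
    exact le_inf inf_le_left (key L hL hTL)

/-- `O^{p'}(A) ≤ A`. -/
theorem pElementClosure_le_self {G : Type*} [Group G] (p : ℕ) (A : Subgroup G) :
    Cfsg.pElementClosure p A ≤ A := by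
  unfold Cfsg.pElementClosure
  rw [Subgroup.closure_le]
  exact fun x hx => hx.1

/-- `A` normalizes `O^{p'}(A)`. -/
theorem le_normalizer_pElementClosure_self {G : Type*} [Group G] (p : ℕ) (A : Subgroup G) :
    A ≤ Subgroup.normalizer ((Cfsg.pElementClosure p A : Subgroup G) : Set G) := by
  apply le_normalizer_of_forall_conj_mem
  intro g hg x hx
  unfold Cfsg.pElementClosure at hx ⊢
  induction hx using Subgroup.closure_induction with
  | mem y hy =>
    refine Subgroup.subset_closure ⟨mul_mem (mul_mem hg hy.1) (inv_mem hg), ?_⟩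
    obtain ⟨k, hk⟩ := hy.2
    refine ⟨k, ?_⟩
    rw [← hk]
    exact orderOf_injective (MulAut.conj g).toMonoidHom (MulAut.conj g).injective y
  | one => simp
  | mul a b _ _ ha hb =>
    have e : g * (a * b) * g⁻¹ = (g * a * g⁻¹) * (g * b * g⁻¹) := by group
    rw [e]
    exact mul_mem ha hb
  | inv a _ ha =>
    have e : g * a⁻¹ * g⁻¹ = (g * a * g⁻¹)⁻¹ := by group
    rw [e]
    exact inv_mem ha

/-- `O^{p'}` of a subnormal subgroup is subnormal. -/
theorem pElementClosure_isSubnormal {G : Type*} [Group G] (p : ℕ) {A : Subgroup G}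
    (hA : A.IsSubnormal) : (Cfsg.pElementClosure p A).IsSubnormal :=
  isSubnormal_of_le_of_le_normalizer hA (pElementClosure_le_self p A)
    (le_normalizer_pElementClosure_self p A)

/-- For `T ≤ C` and `L₁, L₂` subnormal: every `p`-element of `C ∩ ⟨L₁, L₂⟩` lies in
`⟨O^{p'}(C ∩ L₁), O^{p'}(C ∩ L₂)⟩`. -/
theorem mem_sup_pElementClosure_of_mem_sup {H : Type*} [Group H] [Finite H] {p : ℕ}
    [Fact p.Prime] (T : Sylow p H) {C : Subgroup H} (hTC : (T : Subgroup H) ≤ C)
    {L₁ L₂ : Subgroup H} (h₁ : L₁.IsSubnormal) (h₂ : L₂.IsSubnormal) {x : H} (hxC : x ∈ C)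
    (hxL : x ∈ L₁ ⊔ L₂) (hx : ∃ k : ℕ, orderOf x = p ^ k) :
    x ∈ Cfsg.pElementClosure p (C ⊓ L₁) ⊔ Cfsg.pElementClosure p (C ⊓ L₂) := by
  have hA₁ : (L₁.subgroupOf C).IsSubnormal := h₁.subgroupOf
  have hA₂ : (L₂.subgroupOf C).IsSubnormal := h₂.subgroupOf
  have hA : ((L₁ ⊔ L₂).subgroupOf C).IsSubnormal :=
    (Cfsg.Agent.S0538.result L₁ L₂ h₁ h₂).subgroupOf
  have hN : (Cfsg.pElementClosure p (L₁.subgroupOf C) ⊔
      Cfsg.pElementClosure p (L₂.subgroupOf C)).IsSubnormal :=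
    Cfsg.Agent.S0538.result _ _ (pElementClosure_isSubnormal p hA₁)
      (pElementClosure_isSubnormal p hA₂)
  have hNM : Cfsg.pElementClosure p (L₁.subgroupOf C) ⊔
      Cfsg.pElementClosure p (L₂.subgroupOf C) ≤ (L₁ ⊔ L₂).subgroupOf C :=
    sup_le ((pElementClosure_le_self p _).trans (Subgroup.comap_mono le_sup_left))
      ((pElementClosure_le_self p _).trans (Subgroup.comap_mono le_sup_right))
  have himg : ∀ L : Subgroup H, (Cfsg.pElementClosure p (L.subgroupOf C)).map C.subtype ≤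
      Cfsg.pElementClosure p (C ⊓ L) := by
    intro L
    rw [Subgroup.map_le_iff_le_comap]
    unfold Cfsg.pElementClosure
    rw [Subgroup.closure_le]
    rintro y ⟨hyL, k, hk⟩
    show (y : H) ∈ Subgroup.closure _
    apply Subgroup.subset_closure
    exact ⟨⟨y.2, Subgroup.mem_subgroupOf.mp hyL⟩, k, by rw [← hk]; exact Subgroup.orderOf_coe y⟩
  have hpre : ∀ L : Subgroup H, (T : Subgroup H) ⊓ L ≤
      (Cfsg.pElementClosure p (L.subgroupOf C)).map C.subtype := by
    intro L z hz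
    obtain ⟨hzT, hzL⟩ := Subgroup.mem_inf.mp hz
    refine ⟨⟨z, hTC hzT⟩, Subgroup.subset_closure ⟨Subgroup.mem_subgroupOf.mpr hzL, ?_⟩, rfl⟩
    obtain ⟨k, hk⟩ := (IsPGroup.iff_orderOf.mp T.isPGroup') ⟨z, hzT⟩
    refine ⟨k, ?_⟩
    rw [Subgroup.orderOf_mk] at hk ⊢
    exact hk
  have hT : ((T.subtype hTC : Sylow p ↥C) : Subgroup ↥C) ⊓ (L₁ ⊔ L₂).subgroupOf C ≤
      Cfsg.pElementClosure p (L₁.subgroupOf C) ⊔ Cfsg.pElementClosure p (L₂.subgroupOf C) := by
    intro y hy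
    obtain ⟨hyT, hyL⟩ := Subgroup.mem_inf.mp hy
    have hyT' : (y : H) ∈ (T : Subgroup H) := by
      rw [Sylow.coe_subtype] at hyT
      exact Subgroup.mem_subgroupOf.mp hyT
    have h1 : (y : H) ∈ (L₁ ⊔ L₂) ⊓ (T : Subgroup H) :=
      ⟨Subgroup.mem_subgroupOf.mp hyL, hyT'⟩
    rw [Cfsg.Agent.S3028.result T L₁ L₂ h₁ h₂] at h1
    have h2 : (L₁ ⊓ (T : Subgroup H)) ⊔ (L₂ ⊓ (T : Subgroup H)) ≤
        (Cfsg.pElementClosure p (L₁.subgroupOf C) ⊔
          Cfsg.pElementClosure p (L₂.subgroupOf C)).map C.subtype := by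
      rw [Subgroup.map_sup]
      exact sup_le_sup (by rw [inf_comm]; exact hpre L₁) (by rw [inf_comm]; exact hpre L₂)
    obtain ⟨y', hy', hyy⟩ := h2 h1
    have : y' = y := Subtype.ext hyy
    rwa [← this]
  have hxN := mem_of_isSubnormal_of_sylow_inf_le (T.subtype hTC) hN hA hNM hT
    (x := ⟨x, hxC⟩) (Subgroup.mem_subgroupOf.mpr hxL)
    (by obtain ⟨k, hk⟩ := hx; exact ⟨k, by rw [Subgroup.orderOf_mk]; exact hk⟩)
  have h3 : x ∈ (Cfsg.pElementClosure p (L₁.subgroupOf C) ⊔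
      Cfsg.pElementClosure p (L₂.subgroupOf C)).map C.subtype := ⟨⟨x, hxC⟩, hxN, rfl⟩
  rw [Subgroup.map_sup] at h3
  exact (sup_le_sup (himg L₁) (himg L₂)) h3

/-- In a group of local characteristic `p`, the point stabilizer of a subnormal subgroup `L`
with respect to `T ∩ L` is `O^{p'}(C_L(Ω₁Z(T)))`. -/
theorem pointStabilizer_eq_of_isSubnormal {H : Type*} [Group H] [Finite H] {p : ℕ}
    [Fact p.Prime] (hH : Cfsg.IsOfLocalCharacteristic p H) (T : Sylow p H) {L : Subgroup H}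
    (hL : L.IsSubnormal) :
    Cfsg.pointStabilizer p L ((T : Subgroup H) ⊓ L) =
      Cfsg.pElementClosure p
        (Subgroup.centralizer ((omegaZ p (T : Subgroup H) : Subgroup H) : Set H) ⊓ L) := by
  unfold Cfsg.pointStabilizer Cfsg.pElementClosure
  rw [omegaOne_center_eq]
  congr 1
  ext x
  simp only [Set.mem_setOf_eq]
  by_cases hTL : (T : Subgroup H) ⊓ L = ⊥
  · have htriv : ∀ y ∈ L, (∃ k : ℕ, orderOf y = p ^ k) → y = 1 := by
      intro y hy hyp
      have := mem_of_isSubnormal_of_sylow_inf_le T (N := ⊥) (M := L) Subgroup.IsSubnormal.bot hL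
        bot_le (by rw [hTL]) hy hyp
      exact Subgroup.mem_bot.mp this
    constructor
    · rintro ⟨hxm, hxp⟩
      have hx1 := htriv x (Subgroup.mem_inf.mp hxm).1 hxp
      subst hx1
      exact ⟨one_mem _, hxp⟩
    · rintro ⟨hxm, hxp⟩
      have hx1 := htriv x (Subgroup.mem_inf.mp hxm).2 hxp
      subst hx1
      exact ⟨one_mem _, hxp⟩
  · rw [← kieler_local hH T hL hTL, inf_comm]

/-- **Point stabilizers of joins of subnormal subgroups** (local characteristic `p`). -/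
theorem pointStabilizer_sup {H : Type*} [Group H] [Finite H] {p : ℕ} [Fact p.Prime]
    (hH : Cfsg.IsOfLocalCharacteristic p H) (T : Sylow p H) {L₁ L₂ : Subgroup H}
    (h₁ : L₁.IsSubnormal) (h₂ : L₂.IsSubnormal) :
    Cfsg.pointStabilizer p (L₁ ⊔ L₂) ((T : Subgroup H) ⊓ (L₁ ⊔ L₂)) =
      Cfsg.pointStabilizer p L₁ ((T : Subgroup H) ⊓ L₁) ⊔
        Cfsg.pointStabilizer p L₂ ((T : Subgroup H) ⊓ L₂) := by
  have hL := Cfsg.Agent.S0538.result L₁ L₂ h₁ h₂
  rw [pointStabilizer_eq_of_isSubnormal hH T hL, pointStabilizer_eq_of_isSubnormal hH T h₁,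
    pointStabilizer_eq_of_isSubnormal hH T h₂]
  have hTC : (T : Subgroup H) ≤
      Subgroup.centralizer ((omegaZ p (T : Subgroup H) : Subgroup H) : Set H) :=
    Subgroup.le_centralizer_iff.mp (fun x hx => hx.2.1)
  apply le_antisymm
  · refine (Subgroup.closure_le _).mpr ?_
    rintro x ⟨⟨hxC, hxL⟩, hxp⟩
    exact mem_sup_pElementClosure_of_mem_sup T hTC h₁ h₂ hxC hxL hxp
  · exact sup_le
      (Subgroup.closure_mono (fun x hx => ⟨⟨hx.1.1, le_sup_left (a := L₁) hx.1.2⟩, hx.2⟩))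
      (Subgroup.closure_mono (fun x hx => ⟨⟨hx.1.1, le_sup_right (b := L₂) hx.1.2⟩, hx.2⟩))

end Cfsg.Agent.Lib.helper52
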