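import Cfsg.Agent.Lib.helper52.ZL

set_option autoImplicit false

namespace Cfsg.Agent.Lib.helper52

open Cfsg

/-- If `L C_H(Y_M) = M C_H(Y_M)` for subgroups `L`, `M` containing a Sylow `p`-subgroup `T`, then
`Y_M ≤ Y_L` (no characteristic hypothesis needed). -/
theorem largestPReducedOf_le_of_sup_eq {H : Type*} [Group H] [Finite H] {p : ℕ} [Fact p.Prime]
    (T : Sylow p H) (L M : Subgroup H) (hTL : (T : Subgroup H) ≤ L) (hTM : (T : Subgroup H) ≤ M) :
    L ⊔ Subgroup.centralizer (((Cfsg.largestPReducedOf p M) : Subgroup H) : Set H) =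
      M ⊔ Subgroup.centralizer (((Cfsg.largestPReducedOf p M) : Subgroup H) : Set H) →
    (Cfsg.largestPReducedOf p M) ≤ (Cfsg.largestPReducedOf p L) := by
  intro hfac
  set Y : Subgroup H := Cfsg.largestPReducedOf p M with hY
  set C : Subgroup H := Subgroup.centralizer (Y : Set H) with hC
  have hYT : Y ≤ (T : Subgroup H) := largestPReducedOf_le_sylow T M hTM
  have hYL : Y ≤ L := hYT.trans hTL
  have hMN : M ≤ Subgroup.normalizer (Y : Set H) := le_normalizer_largestPReducedOf p M
  have hCN : C ≤ Subgroup.normalizer (Y : Set H) := Subgroup.centralizer_le_normalizer _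
  have hLN : L ≤ Subgroup.normalizer (Y : Set H) :=
    le_sup_left.trans (hfac ▸ sup_le hMN hCN)
  have hNC : Subgroup.normalizer (Y : Set H) ≤ Subgroup.normalizer (C : Set H) :=
    normalizer_le_normalizer_centralizer Y
  have hY₀ := largestPReduced_isPReducedNormal p ↥M
  obtain ⟨hY₀n, hY₀e, hY₀pr⟩ := (isPReducedNormal_iff p _).mp hY₀
  have hmemY : ∀ y₀ : ↥M, y₀ ∈ Cfsg.largestPReduced p ↥M → (y₀ : H) ∈ Y := fun y₀ h =>
    Subgroup.mem_map_of_mem M.subtype h
  -- the key claim
  have hW : Cfsg.IsPReducedNormal p (Y.subgroupOf L) := by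
    rw [isPReducedNormal_iff]
    refine ⟨(Subgroup.normal_subgroupOf_iff_le_normalizer hYL).mpr hLN,
      isElementaryAbelian_subgroupOf (largestPReducedOf_isElementaryAbelian p M) L, ?_⟩
    intro D hD hDp
    set D' : Subgroup H := D.map L.subtype with hD'
    have hD'L : D' ≤ L := by
      rintro d hd
      obtain ⟨d₀, _, rfl⟩ := Subgroup.mem_map.mp hd
      exact d₀.2
    have h1 : ∀ d ∈ D', ∃ k : ℕ, d ^ (p ^ k) ∈ C := by
      intro d hd
      obtain ⟨d₀, hd₀, rfl⟩ := Subgroup.mem_map.mp hd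
      obtain ⟨k, hk⟩ := hDp d₀ hd₀
      refine ⟨k, ?_⟩
      rw [hC, Subgroup.mem_centralizer_iff]
      intro y hy
      have h3 := Subgroup.mem_centralizer_iff.mp hk ⟨y, hYL hy⟩ (Subgroup.mem_subgroupOf.mpr hy)
      simpa using congrArg Subtype.val h3
    have hD'N : L ≤ Subgroup.normalizer (D' : Set H) := le_normalizer_map_subtype L D
    set E : Subgroup H := D' ⊔ C with hE
    have hLE : L ≤ Subgroup.normalizer (E : Set H) := le_normalizer_sup hD'N (hLN.trans hNC)
    have hCE : C ≤ Subgroup.normalizer (E : Set H) := le_sup_right.trans Subgroup.le_normalizer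
    have hME : M ≤ Subgroup.normalizer (E : Set H) :=
      le_sup_left.trans (hfac ▸ sup_le hLE hCE)
    have hEn : (E.subgroupOf M).Normal := Subgroup.normal_subgroupOf_of_le_normalizer hME
    have h2 : E.subgroupOf M ≤ Subgroup.centralizer ((Cfsg.largestPReduced p ↥M : Subgroup ↥M) : Set ↥M) := by
      apply hY₀pr _ hEn
      intro e he
      obtain ⟨k, hk⟩ := exists_pow_mem_of_mem_sup' ((hD'L.trans hLN).trans hNC) h1 (e : H)
        (Subgroup.mem_subgroupOf.mp he)
      refine ⟨k, ?_⟩
      rw [Subgroup.mem_centralizer_iff]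
      intro y₀ hy₀
      have := Subgroup.mem_centralizer_iff.mp hk (y₀ : H) (hmemY y₀ hy₀)
      exact Subtype.ext (by simpa using this)
    have h3 : ∀ e ∈ E, e ∈ M → e ∈ C := by
      intro e he heM
      rw [hC, Subgroup.mem_centralizer_iff]
      intro y hy
      obtain ⟨y₀, hy₀, rfl⟩ := Subgroup.mem_map.mp hy
      have h4 : (⟨e, heM⟩ : ↥M) ∈ Subgroup.centralizer ((Cfsg.largestPReduced p ↥M : Subgroup ↥M) : Set ↥M) :=
        h2 (Subgroup.mem_subgroupOf.mpr he)
      have := Subgroup.mem_centralizer_iff.mp h4 y₀ hy₀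
      simpa using congrArg Subtype.val this
    have h4 : D' ≤ C := by
      intro d hd
      have hdMC : d ∈ M ⊔ C := hfac ▸ (le_sup_left : L ≤ L ⊔ C) (hD'L hd)
      obtain ⟨m, hm, c, hc, rfl⟩ := exists_mul_of_mem_sup (hMN.trans hNC) hdMC
      have hmE : m ∈ E := by
        have : m = (m * c) * c⁻¹ := by group
        rw [this]
        exact mul_mem ((le_sup_left : D' ≤ E) hd) (inv_mem ((le_sup_right : C ≤ E) hc))
      exact mul_mem (h3 m hmE hm) hc
    intro d hd
    rw [Subgroup.mem_centralizer_iff]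
    intro w hw
    have h5 : (d : H) ∈ C := h4 (Subgroup.mem_map_of_mem _ hd)
    have := Subgroup.mem_centralizer_iff.mp h5 (w : H) (Subgroup.mem_subgroupOf.mp hw)
    exact Subtype.ext (by simpa using this)
  have h6 : Y.subgroupOf L ≤ Cfsg.largestPReduced p ↥L := le_largestPReduced hW
  have h7 := Subgroup.map_mono (f := L.subtype) h6
  rwa [Subgroup.map_subgroupOf_eq_of_le hYL] at h7

end Cfsg.Agent.Lib.helper52
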