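import Cfsg.Prelude.Def_Amalgam
import Cfsg.Agent.Lib.helper52.SupTools

set_option autoImplicit false

namespace Cfsg.Agent.Lib.helper52

open Cfsg
open scoped Pointwise

/-- Conjugation carries `Ω₁Z(P)` to `Ω₁Z` of the conjugate. -/
theorem conj_mem_omegaZ_of_iff {G : Type*} [Group G] {p : ℕ} {P P' : Subgroup G} {g : G}
    (h : ∀ y, y ∈ P' ↔ g⁻¹ * y * g ∈ P) {x : G} (hx : x ∈ omegaZ p P) :
    g * x * g⁻¹ ∈ omegaZ p P' := by
  obtain ⟨hxP, hxc, hxp⟩ := hx
  refine ⟨(h _).mpr (by simpa [mul_assoc] using hxP), ?_, ?_⟩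
  · rw [Subgroup.mem_centralizer_iff]
    intro y hy
    have := Subgroup.mem_centralizer_iff.mp hxc _ ((h y).mp hy)
    calc y * (g * x * g⁻¹) = g * ((g⁻¹ * y * g) * x) * g⁻¹ := by group
      _ = g * (x * (g⁻¹ * y * g)) * g⁻¹ := by rw [this]
      _ = g * x * g⁻¹ * y := by group
  · rw [conj_pow, hxp, mul_one, mul_inv_cancel]

/-- Membership in the image of a conjugated Sylow subgroup of a subgroup. -/
theorem mem_smul_sylow_map {H : Type*} [Group H] {p : ℕ} (L : Subgroup H) (g : ↥L)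
    (S : Sylow p ↥L) (y : H) :
    y ∈ ((g • S : Sylow p ↥L) : Subgroup ↥L).map L.subtype ↔
      (g : H)⁻¹ * y * (g : H) ∈ (S : Subgroup ↥L).map L.subtype := by
  constructor
  · intro hy
    obtain ⟨y', hy', rfl⟩ := Subgroup.mem_map.mp hy
    rw [Sylow.coe_subgroup_smul, Subgroup.mem_pointwise_smul_iff_inv_smul_mem, MulAut.smul_def,
      MulAut.conj_inv_apply] at hy'
    exact Subgroup.mem_map.mpr ⟨_, hy', by simp⟩
  · intro hy
    obtain ⟨y', hy', hy''⟩ := Subgroup.mem_map.mp hy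
    have hyL : y ∈ L := by
      have h1 : y = (g : H) * (L.subtype y') * (g : H)⁻¹ := by rw [hy'']; group
      rw [h1]
      exact mul_mem (mul_mem g.2 y'.2) (inv_mem g.2)
    refine Subgroup.mem_map.mpr ⟨⟨y, hyL⟩, ?_, rfl⟩
    rw [Sylow.coe_subgroup_smul, Subgroup.mem_pointwise_smul_iff_inv_smul_mem, MulAut.smul_def,
      MulAut.conj_inv_apply]
    have h2 : g⁻¹ * (⟨y, hyL⟩ : ↥L) * g = y' := Subtype.ext (by simpa using hy''.symm)
    rw [h2]
    exact hy'

/-- `Z_L` as a join of the explicit subgroups `Ω₁Z(S)`. -/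
theorem sylowCenterClosure_eq {H : Type*} [Group H] (p : ℕ) (L : Subgroup H) :
    Cfsg.sylowCenterClosure p L =
      ⨆ S : Sylow p ↥L, omegaZ p ((S : Subgroup ↥L).map L.subtype) := by
  unfold Cfsg.sylowCenterClosure
  exact iSup_congr (fun S => omegaOne_center_eq p _)

theorem omegaZ_sylow_le_sylowCenterClosure {H : Type*} [Group H] (p : ℕ) (L : Subgroup H)
    (S : Sylow p ↥L) :
    omegaZ p ((S : Subgroup ↥L).map L.subtype) ≤ Cfsg.sylowCenterClosure p L := by
  rw [sylowCenterClosure_eq]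
  exact le_iSup (fun S : Sylow p ↥L => omegaZ p ((S : Subgroup ↥L).map L.subtype)) S

theorem sylowCenterClosure_le {H : Type*} [Group H] (p : ℕ) (L : Subgroup H) :
    Cfsg.sylowCenterClosure p L ≤ L := by
  rw [sylowCenterClosure_eq]
  refine iSup_le (fun S => (omegaZ_le p _).trans ?_)
  rintro y hy
  obtain ⟨y', _, rfl⟩ := Subgroup.mem_map.mp hy
  exact y'.2

/-- `L` normalizes `Z_L`. -/
theorem le_normalizer_sylowCenterClosure {H : Type*} [Group H] (p : ℕ) (L : Subgroup H) :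
    L ≤ Subgroup.normalizer ((Cfsg.sylowCenterClosure p L : Subgroup H) : Set H) := by
  rw [Subgroup.le_normalizer_iff]
  intro g hg
  have key : Cfsg.sylowCenterClosure p L ≤
      (Cfsg.sylowCenterClosure p L).comap (MulAut.conj g).toMonoidHom := by
    conv_lhs => rw [sylowCenterClosure_eq]
    refine iSup_le (fun S => ?_)
    intro x hx
    rw [Subgroup.mem_comap]
    have h1 : g * x * g⁻¹ ∈ omegaZ p ((((⟨g, hg⟩ : ↥L) • S : Sylow p ↥L) : Subgroup ↥L).map L.subtype) :=
      conj_mem_omegaZ_of_iff (fun y => mem_smul_sylow_map L ⟨g, hg⟩ S y) hx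
    exact omegaZ_sylow_le_sylowCenterClosure p L _ h1
  intro k hk
  exact key hk

/-- In characteristic `p`, `Ω₁Z(S) ≤ Ω₁Z(O_p(L))` for a Sylow `p`-subgroup `S` of `L`. -/
theorem omegaZ_sylow_le_omegaZ_pCoreOf {H : Type*} [Group H] {p : ℕ} [Fact p.Prime] (L : Subgroup H)
    (hL : Subgroup.centralizer (Cfsg.pCore p ↥L : Set ↥L) ≤ Cfsg.pCore p ↥L) (S : Sylow p ↥L) :
    omegaZ p ((S : Subgroup ↥L).map L.subtype) ≤ omegaZ p (Cfsg.pCoreOf p L) := by
  have hQS : Cfsg.pCore p ↥L ≤ (S : Subgroup ↥L) := (pCore_isPGroup p ↥L).le_sylow_of_normal S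
  rintro x ⟨hxS, hxc, hxp⟩
  obtain ⟨x', hx', rfl⟩ := Subgroup.mem_map.mp hxS
  have hxc' : x' ∈ Subgroup.centralizer (Cfsg.pCore p ↥L : Set ↥L) := by
    rw [Subgroup.mem_centralizer_iff]
    intro q hq
    have := Subgroup.mem_centralizer_iff.mp hxc (L.subtype q) (Subgroup.mem_map_of_mem _ (hQS hq))
    exact Subtype.ext (by simpa using this)
  refine ⟨Subgroup.mem_map_of_mem _ (hL hxc'), ?_, hxp⟩
  rw [Subgroup.mem_centralizer_iff]
  intro q hq
  obtain ⟨q', hq', rfl⟩ := Subgroup.mem_map.mp hq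
  exact Subgroup.mem_centralizer_iff.mp hxc _ (Subgroup.mem_map_of_mem _ (hQS hq'))

theorem sylowCenterClosure_le_omegaZ_pCoreOf {H : Type*} [Group H] {p : ℕ} [Fact p.Prime]
    (L : Subgroup H) (hL : Subgroup.centralizer (Cfsg.pCore p ↥L : Set ↥L) ≤ Cfsg.pCore p ↥L) :
    Cfsg.sylowCenterClosure p L ≤ omegaZ p (Cfsg.pCoreOf p L) := by
  rw [sylowCenterClosure_eq]
  exact iSup_le (fun S => omegaZ_sylow_le_omegaZ_pCoreOf L hL S)

/-- In characteristic `p`, `Z_L` (viewed in `L`) is a `p`-reduced normal subgroup of `L`. -/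
theorem sylowCenterClosure_isPReducedNormal {H : Type*} [Group H] [Finite H] {p : ℕ} [Fact p.Prime]
    (L : Subgroup H) (hL : Subgroup.centralizer (Cfsg.pCore p ↥L : Set ↥L) ≤ Cfsg.pCore p ↥L) :
    Cfsg.IsPReducedNormal p ((Cfsg.sylowCenterClosure p L).subgroupOf L) := by
  rw [isPReducedNormal_iff]
  have hn : ((Cfsg.sylowCenterClosure p L).subgroupOf L).Normal :=
    (Subgroup.normal_subgroupOf_iff_le_normalizer (sylowCenterClosure_le p L)).mpr
      (le_normalizer_sylowCenterClosure p L)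
  refine ⟨hn, isElementaryAbelian_subgroupOf (isElementaryAbelian_of_le
    (sylowCenterClosure_le_omegaZ_pCoreOf L hL) (omegaZ_isElementaryAbelian p _)) L, ?_⟩
  intro D hD hDp
  have hCn : (Subgroup.centralizer (((Cfsg.sylowCenterClosure p L).subgroupOf L : Subgroup ↥L) : Set ↥L)).Normal :=
    Subgroup.normal_centralizer
  -- it suffices that D centralizes each Ω₁Z(S)
  have key : ∀ S : Sylow p ↥L, omegaZ p ((S : Subgroup ↥L).map L.subtype) ≤
      Subgroup.centralizer ((D.map L.subtype : Subgroup H) : Set H) := by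
    intro S
    rw [Subgroup.le_centralizer_iff]
    rintro d hd
    obtain ⟨d', hd', rfl⟩ := Subgroup.mem_map.mp hd
    have h1 := le_inf_sup_inf_sylow S D _ hDp hd'
    have h2 : (D ⊓ Subgroup.centralizer (((Cfsg.sylowCenterClosure p L).subgroupOf L : Subgroup ↥L) : Set ↥L)) ⊔
        (D ⊓ (S : Subgroup ↥L)) ≤
        (Subgroup.centralizer ((omegaZ p ((S : Subgroup ↥L).map L.subtype) : Subgroup H) : Set H)).comap L.subtype := by
      refine sup_le ?_ ?_
      · rintro e ⟨_, he⟩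
        rw [Subgroup.mem_comap, Subgroup.mem_centralizer_iff]
        intro x hx
        have hxZ : x ∈ Cfsg.sylowCenterClosure p L := omegaZ_sylow_le_sylowCenterClosure p L S hx
        have := Subgroup.mem_centralizer_iff.mp he ⟨x, sylowCenterClosure_le p L hxZ⟩
          (Subgroup.mem_subgroupOf.mpr hxZ)
        simpa using congrArg Subtype.val this
      · rintro e ⟨_, he⟩
        rw [Subgroup.mem_comap, Subgroup.mem_centralizer_iff]
        intro x hx
        exact (Subgroup.mem_centralizer_iff.mp hx.2.1 _ (Subgroup.mem_map_of_mem _ he)).symm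
    exact h2 h1
  have key2 : Cfsg.sylowCenterClosure p L ≤
      Subgroup.centralizer ((D.map L.subtype : Subgroup H) : Set H) := by
    rw [sylowCenterClosure_eq]
    exact iSup_le key
  intro d hd
  rw [Subgroup.mem_centralizer_iff]
  intro z hz
  have := Subgroup.mem_centralizer_iff.mp (key2 (Subgroup.mem_subgroupOf.mp hz)) _
    (Subgroup.mem_map_of_mem L.subtype hd)
  exact Subtype.ext (by simpa using this.symm)

/-- In characteristic `p`, `Z_L ≤ Y_L`. -/
theorem sylowCenterClosure_le_largestPReducedOf {H : Type*} [Group H] [Finite H] {p : ℕ}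
    [Fact p.Prime] (L : Subgroup H)
    (hL : Subgroup.centralizer (Cfsg.pCore p ↥L : Set ↥L) ≤ Cfsg.pCore p ↥L) :
    Cfsg.sylowCenterClosure p L ≤ Cfsg.largestPReducedOf p L := by
  have h1 := le_largestPReduced (sylowCenterClosure_isPReducedNormal L hL)
  have h2 := Subgroup.map_mono (f := L.subtype) h1
  rwa [Subgroup.map_subgroupOf_eq_of_le (sylowCenterClosure_le p L)] at h2

end Cfsg.Agent.Lib.helper52
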