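import Mathlib
import Cfsg.Prelude.Def_LocalStructure
import Cfsg.Agent.Lib.helper52.YL
import Cfsg.Agent.Lib.helper52.RelPRed
import Cfsg.Agent.Lib.helper52.PointStab
import Cfsg.Agent.S2802
import Cfsg.Agent.S2821
import Cfsg.Agent.S2824
import Cfsg.Agent.Lib.helper53.LH
import Cfsg.Agent.Lib.helper53.PCore
import Cfsg.Agent.Lib.helper53.SylowExtra

set_option autoImplicit false

/-!
The basic property (Meierfrankenfeld–Stellmacher–Stroth): every `L ∈ 𝓛_H` containing a Sylow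
`p`-subgroup `T` can be pushed into a member `M` of `𝔐_H`.
-/

namespace Cfsg.Agent.Lib.helper52

open Cfsg

section

variable {H : Type*} [Group H] {p : ℕ}

/-- `O_p(X)` lies in every Sylow `p`-subgroup of the ambient group contained in `X`. -/
theorem pCoreOf_le_sylow [Fact p.Prime] (T : Sylow p H) {X : Subgroup H}
    (hTX : (T : Subgroup H) ≤ X) : Cfsg.pCoreOf p X ≤ (T : Subgroup H) := by
  have hN : IsPGroup p ↥(Cfsg.pCoreOf p X) := Cfsg.Agent.Lib.helper53.pCoreOf_isPGroup p X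
  have hnorm : (T : Subgroup H) ≤ Subgroup.normalizer (Cfsg.pCoreOf p X : Set H) :=
    hTX.trans (Cfsg.Agent.Lib.helper53.le_normalizer_pCoreOf p X)
  have hsup : IsPGroup p ↥(Cfsg.pCoreOf p X ⊔ (T : Subgroup H)) :=
    IsPGroup.to_sup_of_normal_left' hN T.2 hnorm
  have h1 := T.is_maximal' hsup le_sup_right
  exact le_sup_left.trans h1.le

/-- Members of `𝓛_H` have characteristic `p` internally. -/
theorem charP_internal {X : Subgroup H} (hX : X ∈ Cfsg.charPSubgroups p H) :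
    Subgroup.centralizer (Cfsg.pCore p ↥X : Set ↥X) ≤ Cfsg.pCore p ↥X := by
  intro x hx
  have h2 := hX.2
  have h3 : (x : H) ∈ Subgroup.centralizer
      (((Cfsg.pCore p ↥X).map X.subtype : Subgroup H) : Set H) := by
    rw [Subgroup.mem_centralizer_iff]
    rintro _ ⟨y, hy, rfl⟩
    have h4 := Subgroup.mem_centralizer_iff.mp hx y hy
    exact congrArg Subtype.val h4
  obtain ⟨y, hy, hyx⟩ := h2 h3
  have h5 : y = x := Subtype.ext hyx
  exact h5 ▸ hy

/-- Subgroups of a member of `𝓛_H` containing a Sylow subgroup are in `𝓛_H`. -/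
theorem charP_of_le [Fact p.Prime] (T : Sylow p H) {X X' : Subgroup H}
    (hX : X ∈ Cfsg.charPSubgroups p H) (hTX' : (T : Subgroup H) ≤ X') (hX'X : X' ≤ X) :
    X' ∈ Cfsg.charPSubgroups p H := by
  rw [Cfsg.Agent.Lib.helper53.mem_charPSubgroups_iff] at hX ⊢
  have h1 : Cfsg.pCoreOf p X ≤ Cfsg.pCoreOf p X' :=
    Cfsg.Agent.Lib.helper53.le_pCoreOf ((pCoreOf_le_sylow T (hTX'.trans hX'X)).trans hTX')
      (hX'X.trans (Cfsg.Agent.Lib.helper53.le_normalizer_pCoreOf p X))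
      (Cfsg.Agent.Lib.helper53.pCoreOf_isPGroup p X)
  refine ⟨fun h => hX.1 (le_bot_iff.mp (h ▸ h1)), ?_⟩
  exact (Subgroup.centralizer_le (SetLike.coe_subset_coe.mpr h1)).trans (hX.2.trans h1)

/-- Restriction of a relative `p`-reduced subgroup to an intermediate ambient group. -/
theorem RelPRed.restrict {A B W : Subgroup H} (hAB : A ≤ B) (h : RelPRed p A W) :
    RelPRed p (A.subgroupOf B) (W.subgroupOf B) := by
  obtain ⟨hWA, hAW, hE, hD⟩ := h
  have hWB : W ≤ B := hWA.trans hAB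
  refine ⟨fun x hx => hWA hx, ?_, isElementaryAbelian_subgroupOf hE B, ?_⟩
  · intro a ha
    have ha' : (a : H) ∈ Subgroup.normalizer (W : Set H) := hAW ha
    rw [Subgroup.mem_normalizer_iff] at ha' ⊢
    intro x
    exact ha' (x : H)
  · intro D hDA hAD hDp
    have h1 := hD (D.map B.subtype) (by
        rintro _ ⟨d, hd, rfl⟩
        exact hDA hd) (by
        intro a ha
        have haB : a ∈ B := hAB ha
        have ha' : (⟨a, haB⟩ : ↥B) ∈ Subgroup.normalizer (D : Set ↥B) := hAD ha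
        rw [Subgroup.mem_normalizer_iff] at ha' ⊢
        intro x
        constructor
        · rintro ⟨d, hd, rfl⟩
          exact ⟨⟨a, haB⟩ * d * ⟨a, haB⟩⁻¹, (ha' d).mp hd, rfl⟩
        · rintro ⟨d, hd, hdx⟩
          have hxB : x ∈ B := by
            have h2 : x = a⁻¹ * (d : H) * a := by
              have h3 : (d : H) = a * x * a⁻¹ := hdx
              rw [h3]; group
            rw [h2]
            exact B.mul_mem (B.mul_mem (B.inv_mem haB) d.2) haB
          refine ⟨⟨x, hxB⟩, (ha' ⟨x, hxB⟩).mpr ?_, rfl⟩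
          have h4 : (⟨a, haB⟩ * ⟨x, hxB⟩ * ⟨a, haB⟩⁻¹ : ↥B) = d := Subtype.ext hdx.symm
          rw [h4]
          exact hd) (by
        rintro _ ⟨d, hd, rfl⟩
        obtain ⟨k, hk⟩ := hDp d hd
        refine ⟨k, ?_⟩
        rw [mem_centralizer_subgroupOf_iff hWB] at hk
        simpa using hk)
    intro d hd
    rw [mem_centralizer_subgroupOf_iff hWB]
    exact h1 ⟨d, hd, rfl⟩

/-- `Y_A ≤ Y_B` for `T ≤ A ≤ B` with `B` of characteristic `p`. -/
theorem largestPReducedOf_mono [Finite H] [Fact p.Prime] (T : Sylow p H) {A B : Subgroup H}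
    (hTA : (T : Subgroup H) ≤ A) (hAB : A ≤ B)
    (hB : Subgroup.centralizer (Cfsg.pCore p ↥B : Set ↥B) ≤ Cfsg.pCore p ↥B) :
    Cfsg.largestPReducedOf p A ≤ Cfsg.largestPReducedOf p B := by
  have hW := relPRed_largestPReducedOf p A
  have hW' := RelPRed.restrict hAB hW
  have hX := (relPRed_iff hW'.1).mp hW'
  have hTR : ((T.subtype (hTA.trans hAB) : Sylow p ↥B) : Subgroup ↥B) ≤ A.subgroupOf B := by
    rw [Sylow.coe_subtype]
    intro x hx
    exact hTA hx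
  have h := Cfsg.Agent.S2802.result hB (T.subtype (hTA.trans hAB)) (A.subgroupOf B) hTR _ hX
  rw [Subgroup.map_subgroupOf_eq_of_le hW'.1] at h
  have h1 : (Cfsg.largestPReducedOf p A).subgroupOf B ≤ Cfsg.largestPReduced p ↥B :=
    Subgroup.subset_normalClosure.trans (le_largestPReduced h)
  have h2 := Subgroup.map_mono (f := B.subtype) h1
  rwa [Subgroup.map_subgroupOf_eq_of_le ((largestPReducedOf_le p A).trans hAB)] at h2

/-- `Y_X ≠ 1` for `X ∈ 𝓛_H` containing a Sylow `p`-subgroup. -/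
theorem largestPReducedOf_ne_bot [Finite H] [Fact p.Prime] (T : Sylow p H) {X : Subgroup H}
    (hTX : (T : Subgroup H) ≤ X) (hX : X ∈ Cfsg.charPSubgroups p H) :
    Cfsg.largestPReducedOf p X ≠ ⊥ := by
  have hchar := charP_internal hX
  obtain ⟨-, -, -, h4, h5, -⟩ := Cfsg.Agent.S2821.result T X hTX hchar _ rfl
  have hT1 : (T : Subgroup H) ≠ ⊥ := fun h =>
    (Cfsg.Agent.Lib.helper53.mem_charPSubgroups_iff.mp hX).1
      (le_bot_iff.mp (h ▸ pCoreOf_le_sylow T hTX))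
  have h6 : omegaZ p (T : Subgroup H) ≠ ⊥ := omegaZ_ne_bot T.2 hT1
  rw [← omegaOne_center_eq] at h6
  intro hbot
  exact h6 (le_bot_iff.mp (hbot ▸ (h4.trans h5)))

/-- Relative Frattini argument: if `C ≤ M` is normalized by `M ≥ T`, every element of `M` is a
product of an element normalizing `T ∩ C` and an element of `C`. -/
theorem exists_mul_mem_normalizer_sylow_inf [Finite H] [Fact p.Prime] (T : Sylow p H)
    {C M : Subgroup H} (hTM : (T : Subgroup H) ≤ M) (hCM : C ≤ M)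
    (hMC : M ≤ Subgroup.normalizer (C : Set H)) {x : H} (hx : x ∈ M) :
    ∃ a ∈ M ⊓ Subgroup.normalizer (((T : Subgroup H) ⊓ C : Subgroup H) : Set H),
      ∃ c ∈ C, x = a * c := by
  have hCn : (C.subgroupOf M).Normal := (Subgroup.normal_subgroupOf_iff_le_normalizer hCM).mpr hMC
  obtain ⟨P, hP⟩ := exists_sylow_inf_normal (T.subtype hTM) (C.subgroupOf M)
  have hfr := Sylow.normalizer_sup_eq_top P
  have hmap : (P : Subgroup ↥(C.subgroupOf M)).map (C.subgroupOf M).subtype =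
      ((T : Subgroup H) ⊓ C).subgroupOf M := by
    rw [hP, Subgroup.map_subgroupOf_eq_of_le inf_le_right, Sylow.coe_subtype]
    ext y
    simp [Subgroup.mem_subgroupOf]
  rw [hmap] at hfr
  obtain ⟨a, ha, c, hc, hac⟩ := exists_mul_of_sup_eq_top _ _ hfr ⟨x, hx⟩
  refine ⟨a, Subgroup.mem_inf.mpr ⟨a.2, ?_⟩, c, hc, congrArg Subtype.val hac⟩
  rw [Subgroup.mem_normalizer_iff] at ha ⊢
  intro y
  constructor
  · intro hy
    have hyM : y ∈ M := hTM hy.1
    exact (ha ⟨y, hyM⟩).mp hy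
  · intro hy
    have hyM : y ∈ M := by
      have h1 : y = (a : H)⁻¹ * ((a : H) * y * (a : H)⁻¹) * (a : H) := by group
      rw [h1]
      exact M.mul_mem (M.mul_mem (M.inv_mem a.2) (hTM hy.1)) a.2
    exact (ha ⟨y, hyM⟩).mpr hy

/-- If `M ≥ T` is minimal with `M ≤ M' C` forcing `M' = M`, then `M` normalizes `T ∩ C_M`. -/
theorem le_normalizer_sylow_inf_of_minimal [Finite H] [Fact p.Prime] (T : Sylow p H)
    {M Ct : Subgroup H} (hTM : (T : Subgroup H) ≤ M)
    (hMCt : M ≤ Subgroup.normalizer (Ct : Set H))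
    (hmin : ∀ M' : Subgroup H, (T : Subgroup H) ≤ M' → M' ≤ M → M ≤ M' ⊔ Ct → M' = M) :
    M ≤ Subgroup.normalizer (((T : Subgroup H) ⊓ (M ⊓ Ct) : Subgroup H) : Set H) := by
  have hMC : M ≤ Subgroup.normalizer ((M ⊓ Ct : Subgroup H) : Set H) :=
    le_normalizer_inf Subgroup.le_normalizer hMCt
  have hTN : (T : Subgroup H) ≤ Subgroup.normalizer
      (((T : Subgroup H) ⊓ (M ⊓ Ct) : Subgroup H) : Set H) :=
    le_normalizer_inf Subgroup.le_normalizer (hTM.trans hMC)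
  have h1 := hmin (M ⊓ Subgroup.normalizer (((T : Subgroup H) ⊓ (M ⊓ Ct) : Subgroup H) : Set H))
    (le_inf hTM hTN) inf_le_left (by
      intro x hx
      obtain ⟨a, ha, c, hc, rfl⟩ := exists_mul_mem_normalizer_sylow_inf T hTM inf_le_left hMC hx
      exact Subgroup.mul_mem_sup ha (Subgroup.mem_inf.mp hc).2)
  exact (inf_eq_left.mp h1)

/-- `M ∩ C` is `p`-closed when `M` normalizes `T ∩ (M ∩ C)`. -/
theorem isPClosed_inf_of_le_normalizer [Finite H] [Fact p.Prime] (T : Sylow p H)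
    {M Ct : Subgroup H} (hTM : (T : Subgroup H) ≤ M)
    (hMCt : M ≤ Subgroup.normalizer (Ct : Set H))
    (hMN : M ≤ Subgroup.normalizer (((T : Subgroup H) ⊓ (M ⊓ Ct) : Subgroup H) : Set H)) :
    Cfsg.IsPClosed p ↥(M ⊓ Ct) := by
  have hMC : M ≤ Subgroup.normalizer ((M ⊓ Ct : Subgroup H) : Set H) :=
    le_normalizer_inf Subgroup.le_normalizer hMCt
  obtain ⟨P', hP'⟩ := exists_sylow_inf_of_le_normalizer T (M ⊓ Ct) (hTM.trans hMC)
  have hP'n : (P' : Subgroup ↥(M ⊓ Ct)).Normal := by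
    rw [hP']
    exact (Subgroup.normal_subgroupOf_iff_le_normalizer inf_le_right).mpr (inf_le_left.trans hMN)
  intro P
  obtain ⟨x, hx⟩ := MulAction.exists_smul_eq ↥(M ⊓ Ct) P' P
  rw [Sylow.smul_eq_of_normal] at hx
  rw [← hx]
  exact hP'n

/-- The image of `C_M` in `M / O_p(M)` lies in the Frattini subgroup, for minimal `M`. -/
theorem map_inf_le_frattini_of_minimal [Finite H] [Fact p.Prime] (T : Sylow p H)
    {M Ct : Subgroup H} (hTM : (T : Subgroup H) ≤ M)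
    (hMCt : M ≤ Subgroup.normalizer (Ct : Set H))
    (hmin : ∀ M' : Subgroup H, (T : Subgroup H) ≤ M' → M' ≤ M → M ≤ M' ⊔ Ct → M' = M) :
    ((M ⊓ Ct).subgroupOf M).map (QuotientGroup.mk' (Cfsg.pCore p ↥M)) ≤
      frattini (↥M ⧸ Cfsg.pCore p ↥M) := by
  have hMN := le_normalizer_sylow_inf_of_minimal T hTM hMCt hmin
  have hMC : M ≤ Subgroup.normalizer ((M ⊓ Ct : Subgroup H) : Set H) :=
    le_normalizer_inf Subgroup.le_normalizer hMCt
  set C : Subgroup H := M ⊓ Ct with hC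
  have hCn : (C.subgroupOf M).Normal :=
    (Subgroup.normal_subgroupOf_iff_le_normalizer inf_le_left).mpr hMC
  set π := QuotientGroup.mk' (Cfsg.pCore p ↥M) with hπ
  have hP₁n : (((T : Subgroup H) ⊓ C).subgroupOf M).Normal :=
    (Subgroup.normal_subgroupOf_iff_le_normalizer (inf_le_right.trans inf_le_left)).mpr hMN
  have hP₁p : IsPGroup p ↥(((T : Subgroup H) ⊓ C).subgroupOf M) :=
    (T.2.to_le inf_le_left).comap_subtype
  have hP₁O : ((T : Subgroup H) ⊓ C).subgroupOf M ≤ Cfsg.pCore p ↥M := le_pCore hP₁n hP₁p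
  unfold frattini Order.radical
  apply le_iInf₂
  intro Ab hAb
  by_contra hnot
  have hAb' : IsCoatom Ab := hAb
  have hsup : Ab ⊔ (C.subgroupOf M).map π = ⊤ :=
    hAb'.2 _ (lt_of_le_of_ne le_sup_left (fun h => hnot (h ▸ le_sup_right)))
  set A : Subgroup ↥M := Ab.comap π with hA
  have hπs : Function.Surjective π := QuotientGroup.mk'_surjective _
  have hker : π.ker = Cfsg.pCore p ↥M := QuotientGroup.ker_mk' _
  have hOA : Cfsg.pCore p ↥M ≤ A := by
    rw [← hker]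
    exact MonoidHom.ker_le_comap π Ab
  have hAne : A ≠ ⊤ := by
    intro h
    apply hAb'.1
    rw [eq_top_iff]
    intro x _
    obtain ⟨y, rfl⟩ := hπs x
    have h1 : y ∈ A := h ▸ Subgroup.mem_top y
    exact h1
  have hAC : C.subgroupOf M ⊔ A = ⊤ := by
    have h1 : (Ab ⊔ (C.subgroupOf M).map π).comap π = ⊤ := by
      rw [hsup]; exact Subgroup.comap_top π
    rw [← Subgroup.comap_sup_eq _ _ _ hπs, Subgroup.comap_map_eq, hker] at h1
    rw [eq_top_iff, ← h1]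
    exact sup_le le_sup_right (sup_le le_sup_left (hOA.trans le_sup_right))
  have hidx : ¬ p ∣ A.index := by
    rw [Cfsg.Agent.Lib.helper53.index_eq_relIndex_of_sup_eq_top hAC, ← Subgroup.inf_relIndex_right]
    intro hdvd
    have h2 : (A ⊓ C.subgroupOf M).relIndex (C.subgroupOf M) ∣
        (((T : Subgroup H) ⊓ C).subgroupOf M).relIndex (C.subgroupOf M) :=
      Subgroup.relIndex_dvd_of_le_left _
        (le_inf (hP₁O.trans hOA) (fun x hx => (Subgroup.mem_inf.mp hx).2))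
    have h3 := hdvd.trans h2
    rw [Subgroup.relIndex_subgroupOf inf_le_left, Subgroup.inf_relIndex_right] at h3
    exact sylow_relIndex_of_le_normalizer T C (hTM.trans hMC) h3
  obtain ⟨g, hg⟩ :=
    Cfsg.Agent.Lib.helper53.exists_conj_sylow_le_of_not_dvd_index (T.subtype hTM) hidx
  set A' : Subgroup ↥M := A.map (MulAut.conj g⁻¹).toMonoidHom with hA'
  have hTA' : ((T.subtype hTM : Sylow p ↥M) : Subgroup ↥M) ≤ A' := by
    intro t ht
    refine ⟨g * t * g⁻¹, hg ⟨t, ht, rfl⟩, ?_⟩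
    simp [mul_assoc]
  have h5 := hmin (A'.map M.subtype) (by
      intro t ht
      exact ⟨⟨t, hTM ht⟩, hTA' (by rw [Sylow.coe_subtype]; exact ht), rfl⟩)
    (Subgroup.map_subtype_le _) (by
      intro x hx
      obtain ⟨a, ha, c, hc, hac⟩ := exists_mul_of_sup_eq_top A (C.subgroupOf M)
        (by rw [sup_comm]; exact hAC) (g * ⟨x, hx⟩ * g⁻¹)
      have hx' : x = ((g⁻¹ * a * g⁻¹⁻¹ : ↥M) : H) * ((g⁻¹ * c * g⁻¹⁻¹ : ↥M) : H) := by
        have h6 : (⟨x, hx⟩ : ↥M) = (g⁻¹ * a * g⁻¹⁻¹) * (g⁻¹ * c * g⁻¹⁻¹) := by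
          have h7 : (g⁻¹ * a * g⁻¹⁻¹) * (g⁻¹ * c * g⁻¹⁻¹) = g⁻¹ * (a * c) * g := by group
          rw [h7, ← hac]
          group
        exact congrArg Subtype.val h6
      rw [hx']
      refine Subgroup.mul_mem_sup ⟨g⁻¹ * a * g⁻¹⁻¹, ⟨a, ha, rfl⟩, rfl⟩ ?_
      have h8 : g⁻¹ * c * g⁻¹⁻¹ ∈ C.subgroupOf M := hCn.conj_mem c hc g⁻¹
      exact (Subgroup.mem_inf.mp (Subgroup.mem_subgroupOf.mp h8)).2)
  apply hAne
  rw [eq_top_iff]
  intro y _
  have h9 : ((MulAut.conj g⁻¹) y : ↥M) ∈ A' := by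
    have h10 : (((MulAut.conj g⁻¹) y : ↥M) : H) ∈ A'.map M.subtype := by
      rw [h5]; exact ((MulAut.conj g⁻¹) y).2
    obtain ⟨z, hz, hzy⟩ := h10
    have h11 : z = (MulAut.conj g⁻¹) y := Subtype.ext hzy
    exact h11 ▸ hz
  obtain ⟨a, ha, hay⟩ := h9
  have h12 : a = y := (MulAut.conj g⁻¹).injective hay
  exact h12 ▸ ha

/-- **The basic property.** -/
theorem exists_frakM [Finite H] [Fact p.Prime] (T : Sylow p H)
    (hpar : ∀ R : Subgroup H, IsPGroup p R → R ≠ ⊥ →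
      (T : Subgroup H) ≤ Subgroup.normalizer (R : Set H) →
      Subgroup.normalizer (R : Set H) ∈ Cfsg.charPSubgroups p H)
    (L : Subgroup H) (hTL : (T : Subgroup H) ≤ L) (hL : L ∈ Cfsg.charPSubgroups p H) :
    ∃ M Ls : Subgroup H, (T : Subgroup H) ≤ M ∧ Cfsg.IsInFrakM p M ∧ (T : Subgroup H) ≤ Ls ∧
      Ls ≤ M ∧ Ls ∈ Cfsg.charPSubgroups p H ∧
      Cfsg.largestPReducedOf p L = Cfsg.largestPReducedOf p Ls ∧
      Cfsg.largestPReducedOf p L ≤ Cfsg.largestPReducedOf p M ∧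
      L ⊔ Subgroup.centralizer ((Cfsg.largestPReducedOf p L : Subgroup H) : Set H) =
        Ls ⊔ Subgroup.centralizer ((Cfsg.largestPReducedOf p L : Subgroup H) : Set H) := by
  classical
  set YL : Subgroup H := Cfsg.largestPReducedOf p L with hYL
  set CL : Subgroup H := Subgroup.centralizer (YL : Set H) with hCL
  let 𝒮 : Set (Subgroup H) := {X | X ∈ Cfsg.charPSubgroups p H ∧ (T : Subgroup H) ≤ X ∧
    YL ≤ Cfsg.largestPReducedOf p X ∧ ∀ l ∈ L, ∃ x ∈ X, ∃ c ∈ CL, l = x * c}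
  have hLS : L ∈ 𝒮 := ⟨hL, hTL, le_rfl, fun l hl => ⟨l, hl, 1, CL.one_mem, (mul_one l).symm⟩⟩
  have hup : ∀ X ∈ 𝒮, ∀ X' ∈ Cfsg.charPSubgroups p H, X ≤ X' → X' ∈ 𝒮 := by
    intro X hX X' hX' hXX'
    refine ⟨hX', hX.2.1.trans hXX',
      hX.2.2.1.trans (largestPReducedOf_mono T hX.2.1 hXX' (charP_internal hX')), ?_⟩
    intro l hl
    obtain ⟨x, hx, c, hc, rfl⟩ := hX.2.2.2 l hl
    exact ⟨x, hXX' hx, c, hc, rfl⟩
  have : Nonempty 𝒮 := ⟨⟨L, hLS⟩⟩
  obtain ⟨⟨X₀, hX₀⟩, hmax⟩ :=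
    Finite.exists_max (fun X : 𝒮 => Nat.card ↥(Cfsg.largestPReducedOf p (X : Subgroup H)))
  set Yt : Subgroup H := Cfsg.largestPReducedOf p X₀ with hYt
  set Mt : Subgroup H := Subgroup.normalizer (Yt : Set H) with hMt
  have hYtp : IsPGroup p ↥Yt := IsElementaryAbelian.isPGroup (largestPReducedOf_isElementaryAbelian p X₀)
  have hYt1 : Yt ≠ ⊥ := largestPReducedOf_ne_bot T hX₀.2.1 hX₀.1
  have hX₀Mt : X₀ ≤ Mt := le_normalizer_largestPReducedOf p X₀
  have hTMt : (T : Subgroup H) ≤ Mt := hX₀.2.1.trans hX₀Mt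
  have hMtL : Mt ∈ Cfsg.charPSubgroups p H := hpar Yt hYtp hYt1 hTMt
  have hMtS : Mt ∈ 𝒮 := hup X₀ hX₀ Mt hMtL hX₀Mt
  have hYeq : ∀ X ∈ 𝒮, Yt ≤ Cfsg.largestPReducedOf p X → Cfsg.largestPReducedOf p X = Yt := by
    intro X hX hle
    have hcard := hmax ⟨X, hX⟩
    exact (Subgroup.eq_of_le_of_card_ge hle hcard).symm
  have hYMt : Cfsg.largestPReducedOf p Mt = Yt :=
    hYeq Mt hMtS (largestPReducedOf_mono T hX₀.2.1 hX₀Mt (charP_internal hMtL))
  have hYLYt : YL ≤ Yt := hX₀.2.2.1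
  set Ct : Subgroup H := Subgroup.centralizer (Yt : Set H) with hCt
  have hCtMt : Ct ≤ Mt := Subgroup.centralizer_le_normalizer _
  have hCtCL : Ct ≤ CL := Subgroup.centralizer_le (SetLike.coe_subset_coe.mpr hYLYt)
  have hMtCt : Mt ≤ Subgroup.normalizer (Ct : Set H) := normalizer_le_normalizer_centralizer Yt
  have hMtmax : Mt ∈ Cfsg.maxCharPSubgroups p H := by
    refine ⟨hMtL, fun X hX hMtX => ?_⟩
    have hXS := hup Mt hMtS X hX hMtX
    have hYX : Cfsg.largestPReducedOf p X = Yt :=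
      hYeq X hXS (hYMt ▸ largestPReducedOf_mono T hTMt hMtX (charP_internal hX))
    have hXMt : X ≤ Mt := by
      rw [hMt, ← hYX]; exact le_normalizer_largestPReducedOf p X
    exact le_antisymm hXMt hMtX
  let 𝒯 : Set (Subgroup H) := {M | (T : Subgroup H) ≤ M ∧ M ≤ Mt ∧ M ⊔ Ct = Mt}
  have hMt𝒯 : Mt ∈ 𝒯 := ⟨hTMt, le_rfl, sup_eq_left.mpr hCtMt⟩
  have : Nonempty 𝒯 := ⟨⟨Mt, hMt𝒯⟩⟩
  obtain ⟨⟨M, hM⟩, hmin⟩ := Finite.exists_min (fun X : 𝒯 => Nat.card ↥(X : Subgroup H))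
  obtain ⟨hTM, hMMt, hMC⟩ := hM
  have hMmin : ∀ M' : Subgroup H, (T : Subgroup H) ≤ M' → M' ≤ M → M ≤ M' ⊔ Ct → M' = M := by
    intro M' hTM' hle hsup
    have hM'𝒯 : M' ∈ 𝒯 := ⟨hTM', hle.trans hMMt,
      le_antisymm (sup_le (hle.trans hMMt) hCtMt) (hMC ▸ sup_le hsup le_sup_right)⟩
    exact Subgroup.eq_of_le_of_card_ge hle (hmin ⟨M', hM'𝒯⟩)
  have hML : M ∈ Cfsg.charPSubgroups p H := charP_of_le T hMtL hTM hMMt
  have hYM : Cfsg.largestPReducedOf p M = Yt := by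
    apply le_antisymm
    · rw [← hYMt]; exact largestPReducedOf_mono T hTM hMMt (charP_internal hMtL)
    · have h1 := largestPReducedOf_le_of_sup_eq T M Mt hTM hTMt (by
        rw [hYMt, ← hCt, hMC]; exact (sup_eq_left.mpr hCtMt).symm)
      rwa [hYMt] at h1
  have hMCt : M ≤ Subgroup.normalizer (Ct : Set H) := hMMt.trans hMtCt
  -- every element of `L` is in `M · C_H(Y_L)`
  have hLM : ∀ l ∈ L, ∃ m ∈ M, ∃ c ∈ CL, l = m * c := by
    intro l hl
    obtain ⟨x, hx, c, hc, rfl⟩ := hMtS.2.2.2 l hl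
    have hx' : x ∈ M ⊔ Ct := hMC ▸ hx
    obtain ⟨m, hm, c', hc', rfl⟩ := exists_mul_of_mem_sup hMCt hx'
    exact ⟨m, hm, c' * c, CL.mul_mem (hCtCL hc') hc, mul_assoc m c' c⟩
  have hfrakM : Cfsg.IsInFrakM p M := by
    refine ⟨hML, ?_, ?_, ?_, ?_, ?_⟩
    · rw [hYM, ← hCt, hMC]; exact hMtmax
    · intro X hX hMX
      rw [hYM, ← hCt, hMC]
      have hYX' : Yt ≤ Cfsg.largestPReducedOf p X :=
        hYM ▸ largestPReducedOf_mono T hTM hMX (charP_internal hX.1)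
      have hXS : X ∈ 𝒮 := by
        refine ⟨hX.1, hTM.trans hMX, hYLYt.trans hYX', ?_⟩
        intro l hl
        obtain ⟨m, hm, c, hc, rfl⟩ := hLM l hl
        exact ⟨m, hMX hm, c, hc, rfl⟩
      have hYX : Cfsg.largestPReducedOf p X = Yt := hYeq X hXS hYX'
      have hXMt : X ≤ Mt := by
        rw [hMt, ← hYX]; exact le_normalizer_largestPReducedOf p X
      exact (hX.2 Mt hMtL hXMt).symm
    · rw [hYM, ← hCt, hMC, hYMt]
    · rw [hYM, ← hCt]
      exact isPClosed_inf_of_le_normalizer T hTM hMCt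
        (le_normalizer_sylow_inf_of_minimal T hTM hMCt hMmin)
    · rw [hYM, ← hCt]
      exact map_inf_le_frattini_of_minimal T hTM hMCt hMmin
  -- the subgroup `L*`
  have hLNY : L ≤ Subgroup.normalizer (YL : Set H) := le_normalizer_largestPReducedOf p L
  have hLNC : L ≤ Subgroup.normalizer (CL : Set H) :=
    hLNY.trans (normalizer_le_normalizer_centralizer YL)
  set M' : Subgroup H := M ⊓ (L ⊔ CL) with hM'
  have hTM' : (T : Subgroup H) ≤ M' := le_inf hTM (hTL.trans le_sup_left)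
  have hM'L : M' ∈ Cfsg.charPSubgroups p H := charP_of_le T hML hTM' inf_le_left
  have hfac : M' ⊔ CL = L ⊔ CL := by
    apply le_antisymm (sup_le inf_le_right le_sup_right)
    refine sup_le ?_ le_sup_right
    intro l hl
    obtain ⟨m, hm, c, hc, rfl⟩ := hLM l hl
    have hmL : m ∈ L ⊔ CL := by
      have h1 : m = (m * c) * c⁻¹ := by group
      rw [h1]
      exact Subgroup.mul_mem_sup hl (CL.inv_mem hc)
    exact Subgroup.mul_mem_sup (Subgroup.mem_inf.mpr ⟨hm, hmL⟩) hc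
  set T₀ : Subgroup H := (T : Subgroup H) ⊓ CL with hT₀
  obtain ⟨hY1, hY2⟩ := Cfsg.Agent.S2824.result T L M' hTL hTM' (charP_internal hL)
    (charP_internal hM'L) T₀ hT₀ hfac (M' ⊓ Subgroup.normalizer (T₀ : Set H)) rfl
  have hTLs : (T : Subgroup H) ≤ M' ⊓ Subgroup.normalizer (T₀ : Set H) :=
    le_inf hTM' (le_normalizer_inf Subgroup.le_normalizer (hTL.trans hLNC))
  refine ⟨M, M' ⊓ Subgroup.normalizer (T₀ : Set H), hTM, hfrakM, hTLs,
    inf_le_left.trans inf_le_left, charP_of_le T hML hTLs (inf_le_left.trans inf_le_left),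
    hY1.symm, ?_, hY2⟩
  rw [hYM]
  exact hYLYt

end

end Cfsg.Agent.Lib.helper52
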