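import Mathlib

set_option autoImplicit false

namespace Cfsg.Agent.Lib.helper74.TB

/-- The quotient of a lattice by a sublattice containing `pU` is an `F_p`-space. -/
noncomputable def tbspanZModModule (p : ℕ) {U : Type*} [AddCommGroup U]
    (V : Submodule ℤ U) (hpV : ∀ u : U, (p : ℤ) • u ∈ V) : Module (ZMod p) (U ⧸ V) :=
  AddCommGroup.zmodModule (n := p) (by
    intro x
    induction x using Submodule.Quotient.induction_on with
    | _ u =>
      rw [← Submodule.Quotient.mk_smul, Submodule.Quotient.mk_eq_zero]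
      have := hpV u
      simpa using this)

/-- PIECE SPAN.  Every endomorphism of `(U,V)` is, modulo `V`, a finite sum of rank-one maps
`u ↦ φ_j(u) • w_j` with `φ_j(V) ≤ pℤ`. -/
theorem tb_span (p : ℕ) [Fact p.Prime] {U : Type*} [AddCommGroup U] [Module.Free ℤ U]
    [Module.Finite ℤ U] (V : Submodule ℤ U) (hpV : ∀ u : U, (p : ℤ) • u ∈ V)
    (τ : U →ₗ[ℤ] U) (hτ : ∀ u ∈ V, τ u ∈ V) :
    ∃ (n : ℕ) (w : Fin n → U) (φ : Fin n → (U →ₗ[ℤ] ℤ)),
      (∀ j, ∀ v ∈ V, (p : ℤ) ∣ φ j v) ∧ ∀ u : U, τ u - ∑ j, φ j u • w j ∈ V := by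
  classical
  letI : Module (ZMod p) (U ⧸ V) := tbspanZModModule p V hpV
  haveI : Module.Finite (ZMod p) (U ⧸ V) := Module.Finite.of_restrictScalars_finite ℤ (ZMod p) (U ⧸ V)
  set n := Module.finrank (ZMod p) (U ⧸ V) with hn
  let b : Module.Basis (Fin n) (ZMod p) (U ⧸ V) := Module.finBasis (ZMod p) (U ⧸ V)
  -- lifts of the basis vectors
  have hw : ∀ j : Fin n, ∃ u : U, V.mkQ u = b j := fun j => V.mkQ_surjective (b j)
  choose w hw using hw
  -- the coordinate functionals, as `ℤ`-linear maps into `ZMod p`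
  let ψ : Fin n → (U →ₗ[ℤ] ZMod p) := fun j =>
    (((b.coord j).toAddMonoidHom.comp (V.mkQ.toAddMonoidHom)).comp
      τ.toAddMonoidHom).toIntLinearMap
  have hψ : ∀ j u, ψ j u = b.repr (V.mkQ (τ u)) j := fun j u => rfl
  let c : ℤ →ₗ[ℤ] ZMod p := (Int.castAddHom (ZMod p)).toIntLinearMap
  have hc : Function.Surjective c := ZMod.intCast_surjective
  have hφ : ∀ j : Fin n, ∃ φ : U →ₗ[ℤ] ℤ, c ∘ₗ φ = ψ j :=
    fun j => Module.projective_lifting_property c (ψ j) hc
  choose φ hφ using hφ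
  have hφ' : ∀ j u, ((φ j u : ℤ) : ZMod p) = b.repr (V.mkQ (τ u)) j := by
    intro j u
    have := congrArg (fun f => f u) (hφ j)
    simpa [c, hψ] using this
  refine ⟨n, w, φ, ?_, ?_⟩
  · intro j v hv
    have h0 : V.mkQ (τ v) = 0 := by
      simpa using hτ v hv
    have := hφ' j v
    rw [h0] at this
    simp only [map_zero, Finsupp.coe_zero, Pi.zero_apply] at this
    exact (ZMod.intCast_zmod_eq_zero_iff_dvd _ p).1 this
  · intro u
    rw [← Submodule.Quotient.mk_eq_zero, Submodule.Quotient.mk_sub, sub_eq_zero]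
    have h1 : (Submodule.Quotient.mk (∑ j, φ j u • w j) : U ⧸ V)
        = ∑ j, (b.repr (V.mkQ (τ u)) j) • b j := by
      have : (Submodule.Quotient.mk (∑ j, φ j u • w j) : U ⧸ V)
          = V.mkQ (∑ j, φ j u • w j) := rfl
      rw [this, map_sum]
      refine Finset.sum_congr rfl (fun j _ => ?_)
      rw [map_smul, hw j, ← hφ' j u, Int.cast_smul_eq_zsmul]
    rw [h1, b.sum_repr]
    rfl

end Cfsg.Agent.Lib.helper74.TB
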