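import Mathlib
import Cfsg.Agent.Lib.helper52.TB_SPAN
import Cfsg.Agent.Lib.helper72.TB_J1
import Cfsg.Agent.Lib.helper72.TB_J2

set_option autoImplicit false

namespace Cfsg.Agent.Lib.helper74.TB

/-- PIECE DIM.  `U` a lattice, `V ≤ U` with `pU ≤ V`, `s` an endomorphism of `(U,V)` with
`s^(p-1) = 1` on `U/V`.  If every endomorphism `τ` of `(U,V)` commuting with `s` modulo `V` satisfies
a polynomial identity `q(τ) U ≤ V` with `q` of degree `≤ D`, nonzero mod `p`, then `|U/V| = p^d`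
with `d ≤ D`. -/
theorem tb_dim_bound (p : ℕ) [Fact p.Prime] {U : Type*} [AddCommGroup U] [Module.Free ℤ U]
    [Module.Finite ℤ U] (V : Submodule ℤ U) (hpV : ∀ u : U, (p : ℤ) • u ∈ V)
    (s : U →ₗ[ℤ] U) (hsV : ∀ u ∈ V, s u ∈ V) (hs : ∀ u : U, (s ^ (p - 1)) u - u ∈ V) (D : ℕ)
    (h : ∀ τ : U →ₗ[ℤ] U, (∀ u ∈ V, τ u ∈ V) → (∀ u : U, τ (s u) - s (τ u) ∈ V) →
      ∃ q : Polynomial ℤ, q.natDegree ≤ D ∧ (∃ k, ¬ (p : ℤ) ∣ q.coeff k) ∧
        ∀ u : U, Polynomial.aeval τ q u ∈ V) :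
    ∃ d : ℕ, d ≤ D ∧ V.toAddSubgroup.index = p ^ d := by
  classical
  letI : Module (ZMod p) (U ⧸ V) := tbspanZModModule p V hpV
  haveI : Module.Finite (ZMod p) (U ⧸ V) := Module.Finite.of_restrictScalars_finite ℤ (ZMod p) _
  have hidx : V.toAddSubgroup.index = p ^ Module.finrank (ZMod p) (U ⧸ V) := by
    have h1 := Module.natCard_eq_pow_finrank (K := ZMod p) (V := U ⧸ V)
    rw [Nat.card_zmod] at h1
    exact h1
  refine ⟨Module.finrank (ZMod p) (U ⧸ V), ?_, hidx⟩
  by_contra hlt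
  rw [not_le] at hlt
  -- the map induced by `s`
  let S0 : (U ⧸ V) →ₗ[ℤ] (U ⧸ V) := V.mapQ V s (fun u hu => hsV u hu)
  let S : (U ⧸ V) →ₗ[ZMod p] (U ⧸ V) := AddMonoidHom.toZModLinearMap p S0.toAddMonoidHom
  have hSmk : ∀ u, S (V.mkQ u) = V.mkQ (s u) := fun u => rfl
  have hSpow : ∀ k u, (S ^ k) (V.mkQ u) = V.mkQ ((s ^ k) u) := by
    intro k
    induction k with
    | zero => intro u; simp
    | succ k ih =>
      intro u
      rw [pow_succ, pow_succ, Module.End.mul_apply, Module.End.mul_apply, hSmk, ih]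
  have hS : S ^ (p - 1) = 1 := by
    apply LinearMap.ext
    intro x
    obtain ⟨u, rfl⟩ := V.mkQ_surjective x
    rw [hSpow, Module.End.one_apply]
    exact (Submodule.Quotient.eq V).2 (hs u)
  obtain ⟨n, b, a, hb⟩ := tb_eigenbasis p S hS
  have hn : n = Module.finrank (ZMod p) (U ⧸ V) := by
    have := Module.finrank_eq_card_basis b
    simpa using this.symm
  obtain ⟨T, hTS, hT⟩ := tb_jordan b a S hb D (by omega)
  -- lift `T`
  let T0 : U →ₗ[ℤ] (U ⧸ V) := (T.toAddMonoidHom.comp V.mkQ.toAddMonoidHom).toIntLinearMap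
  obtain ⟨τ, hτ⟩ := Module.projective_lifting_property V.mkQ T0 V.mkQ_surjective
  have hτ' : ∀ u, V.mkQ (τ u) = T (V.mkQ u) := fun u => congrArg (fun f => f u) hτ
  have hτV : ∀ u ∈ V, τ u ∈ V := by
    intro u hu
    have h0 : V.mkQ u = 0 := by simpa using hu
    have := hτ' u
    rw [h0, map_zero] at this
    simpa using this
  have hτs : ∀ u : U, τ (s u) - s (τ u) ∈ V := by
    intro u
    have h1 : V.mkQ (τ (s u)) = V.mkQ (s (τ u)) := by
      rw [hτ', ← hSmk, ← hSmk, hτ']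
      exact congrArg (fun f => f (V.mkQ u)) hTS
    exact (Submodule.Quotient.eq V).1 h1
  have hpow : ∀ k u, V.mkQ ((τ ^ k) u) = (T ^ k) (V.mkQ u) := by
    intro k
    induction k with
    | zero => intro u; simp
    | succ k ih =>
      intro u
      rw [pow_succ', pow_succ', Module.End.mul_apply, Module.End.mul_apply, hτ', ih]
  obtain ⟨q, hqD, ⟨k, hk⟩, hqV⟩ := h τ hτV hτs
  have hq'ne : q.map (Int.castRingHom (ZMod p)) ≠ 0 := by
    intro h0
    have := congrArg (fun f => f.coeff k) h0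
    simp only [Polynomial.coeff_map, Polynomial.coeff_zero, eq_intCast] at this
    exact hk ((ZMod.intCast_zmod_eq_zero_iff_dvd _ p).1 this)
  have hq'D : (q.map (Int.castRingHom (ZMod p))).natDegree ≤ D :=
    le_trans Polynomial.natDegree_map_le hqD
  have key : Polynomial.aeval T (q.map (Int.castRingHom (ZMod p))) = 0 := by
    apply LinearMap.ext
    intro x
    obtain ⟨u, rfl⟩ := V.mkQ_surjective x
    have h1 := hqV u
    have hle : (q.map (Int.castRingHom (ZMod p))).natDegree ≤ q.natDegree :=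
      Polynomial.natDegree_map_le
    rw [Polynomial.aeval_eq_sum_range' (n := q.natDegree + 1) (by omega)]
    rw [Polynomial.aeval_eq_sum_range] at h1
    have h2 : V.mkQ ((∑ i ∈ Finset.range (q.natDegree + 1), q.coeff i • τ ^ i) u) = 0 :=
      (Submodule.Quotient.mk_eq_zero V).2 h1
    rw [LinearMap.sum_apply, map_sum] at h2
    rw [LinearMap.sum_apply, LinearMap.zero_apply, ← h2]
    refine Finset.sum_congr rfl (fun i _ => ?_)
    rw [LinearMap.smul_apply, LinearMap.smul_apply, map_smul, hpow, Polynomial.coeff_map]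
    simp [Int.cast_smul_eq_zsmul]
  exact hT _ hq'ne hq'D key

end Cfsg.Agent.Lib.helper74.TB
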