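import Mathlib
import Cfsg.Prelude.Def_LieExceptional

/-!
S0996 sub-pieces ALPHA-A, ALPHA-B, ALPHA-C, ALPHA-E (helper68's sub-split of ALPHA): `al_fix`,
`al_reg`, `al_two`, `al_three`, verbatim statements of `tools/S0996_ALPHA_Skel.lean.txt`.
-/

set_option autoImplicit false

namespace Cfsg.Agent.Lib.helper52.BrAl

open MulAction

variable {G : Type*} [Group G] [Finite G] {p : ℕ} [Fact p.Prime] (P : Sylow p G)

/-- a subgroup of prime order is generated by each of its non-identity elements -/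
theorem h52al_eq_zpowers (H : Subgroup G) (hH : Nat.card H = p) {c : G} (hc : c ∈ H)
    (hc1 : c ≠ 1) : H = Subgroup.zpowers c := by
  have hle : Subgroup.zpowers c ≤ H := by rw [Subgroup.zpowers_le]; exact hc
  have h1 : orderOf c ∣ p := hH ▸ Subgroup.orderOf_dvd_natCard H hc
  have h2 : orderOf c = p := by
    rcases (Nat.dvd_prime (Fact.out : p.Prime)).mp h1 with h | h
    · exact absurd (orderOf_eq_one_iff.mp h) hc1
    · exact h
  exact (Subgroup.eq_of_le_of_card_ge hle (by rw [hH, Nat.card_zpowers, h2])).symm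

/-- ALPHA-A: a non-identity element of `P` fixes only the point `P`. -/
theorem al_fix (hP : Nat.card P = p) (x : G) (hx : x ∈ (P : Subgroup G)) (hx1 : x ≠ 1)
    (Q : Sylow p G) (hQ : x • Q = Q) : Q = P := by
  have hP' : Nat.card (P : Subgroup G) = p := hP
  have hxQ : x ∈ (Q : Subgroup G) := by
    have h1 : x ∈ (P : Subgroup G) ⊓ Subgroup.normalizer ((Q : Subgroup G) : Set G) :=
      ⟨hx, Sylow.smul_eq_iff_mem_normalizer.mp hQ⟩
    have h1' : x ∈ (P : Subgroup G) ⊓ (Q : Subgroup G) := by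
      rw [← IsPGroup.inf_normalizer_sylow P.isPGroup' Q]; exact h1
    exact h1'.2
  have hQc : Nat.card (Q : Subgroup G) = p :=
    (Q.card_eq_multiplicity.trans P.card_eq_multiplicity.symm).trans hP'
  apply Sylow.ext
  rw [h52al_eq_zpowers (Q : Subgroup G) hQc hxQ hx1, h52al_eq_zpowers (P : Subgroup G) hP' hx hx1]

/-- ALPHA-B: `P` is regular on the other points. -/
theorem al_reg (hP : Nat.card P = p) (hn : Nat.card (Sylow p G) = 1 + p) (Q R : Sylow p G)
    (hQ : Q ≠ P) (hR : R ≠ P) : ∃! u : (P : Subgroup G), (u : G) • Q = R := by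
  classical
  have hP' : Nat.card (P : Subgroup G) = p := hP
  have hne : ∀ u : (P : Subgroup G), (u : G) • Q ≠ P := by
    intro u h
    apply hQ
    have h2 : (u : G) • P = P :=
      Sylow.smul_eq_iff_mem_normalizer.mpr (Subgroup.le_normalizer u.2)
    exact smul_left_cancel (u : G) (h.trans h2.symm)
  let f : ↥(P : Subgroup G) → {S : Sylow p G // S ≠ P} := fun u => ⟨(u : G) • Q, hne u⟩
  have hinj : Function.Injective f := by
    intro u v huv
    have h3 : (u : G) • Q = (v : G) • Q := congrArg Subtype.val huv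
    have h4 : ((v : G)⁻¹ * (u : G)) • Q = Q := by rw [mul_smul, h3, inv_smul_smul]
    by_contra hne'
    have h5 : (v : G)⁻¹ * (u : G) ≠ 1 := by
      intro h6
      apply hne'
      apply Subtype.ext
      exact (inv_mul_eq_one.mp h6).symm
    exact hQ (al_fix P hP _ (mul_mem (inv_mem v.2) u.2) h5 Q h4)
  have hcard : Nat.card (P : Subgroup G) = Nat.card {S : Sylow p G // S ≠ P} := by
    have h7 : Nat.card {S : Sylow p G // S ≠ P} = p := by
      have h8 := Nat.card_congr (Equiv.optionSubtypeNe P)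
      rw [Finite.card_option] at h8
      omega
    rw [h7]
    exact hP'
  have hbij : Function.Bijective f := (Nat.bijective_iff_injective_and_card f).mpr ⟨hinj, hcard⟩
  obtain ⟨u, hu⟩ := hbij.2 ⟨R, hR⟩
  have hu' : (u : G) • Q = R := congrArg Subtype.val hu
  refine ⟨u, hu', ?_⟩
  intro v hv
  exact hinj (Subtype.ext (hv.trans hu'.symm))

/-- ALPHA-C: double transitivity. -/
theorem al_two
    (hreg : ∀ Q R : Sylow p G, Q ≠ P → R ≠ P → ∃ u : (P : Subgroup G), (u : G) • Q = R) :
    IsMultiplyPretransitive G (Sylow p G) 2 := by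
  rw [MulAction.is_two_pretransitive_iff]
  intro a b c d hab hcd
  obtain ⟨g1, hg1⟩ := MulAction.exists_smul_eq G a P
  obtain ⟨g2, hg2⟩ := MulAction.exists_smul_eq G c P
  have h1 : g1 • b ≠ P := by
    intro h
    apply hab
    exact smul_left_cancel g1 (hg1.trans h.symm)
  have h2 : g2 • d ≠ P := by
    intro h
    apply hcd
    exact smul_left_cancel g2 (hg2.trans h.symm)
  obtain ⟨u, hu⟩ := hreg _ _ h1 h2
  have huP : (u : G) • P = P :=
    Sylow.smul_eq_iff_mem_normalizer.mpr (Subgroup.le_normalizer u.2)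
  refine ⟨g2⁻¹ * (u : G) * g1, ?_, ?_⟩
  · rw [mul_smul, mul_smul, hg1, huP, ← hg2, inv_smul_smul]
  · rw [mul_smul, mul_smul, hu, inv_smul_smul]

/-- `al_three` when one of the three points is `P`. -/
theorem h52al_three_P (hP : Nat.card P = p)
    (hC : Subgroup.centralizer ((P : Subgroup G) : Set G) = (P : Subgroup G))
    (hn : Nat.card (Sylow p G) = 1 + p) (g : G) (b c : Sylow p G) (hbP : b ≠ P) (hcP : c ≠ P)
    (hbc : b ≠ c) (ha : g • P = P) (hb : g • b = b) (hc : g • c = c) : g = 1 := by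
  have hP' : Nat.card (P : Subgroup G) = p := hP
  obtain ⟨u, hu, huniq⟩ := al_reg P hP hn b c hbP hcP
  have hu1 : (u : G) ≠ 1 := by
    intro h
    rw [h, one_smul] at hu
    exact hbc hu
  have hgN : g ∈ Subgroup.normalizer ((P : Subgroup G) : Set G) :=
    Sylow.smul_eq_iff_mem_normalizer.mp ha
  have hconj : g * (u : G) * g⁻¹ ∈ (P : Subgroup G) :=
    (Subgroup.mem_normalizer_iff.mp hgN (u : G)).mp u.2
  have h1 : (g * (u : G) * g⁻¹) • b = c := by
    rw [mul_smul, mul_smul, inv_smul_eq_iff.mpr hb.symm, hu, hc]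
  have h2 := huniq ⟨g * (u : G) * g⁻¹, hconj⟩ h1
  have h3 : g * (u : G) * g⁻¹ = (u : G) := congrArg Subtype.val h2
  have h4 : g * (u : G) = (u : G) * g := by
    calc g * (u : G) = g * (u : G) * g⁻¹ * g := by group
      _ = (u : G) * g := by rw [h3]
  have hgP : g ∈ (P : Subgroup G) := by
    rw [← hC, Subgroup.mem_centralizer_iff]
    intro y hy
    have hy' : y ∈ Subgroup.zpowers (u : G) := by
      rw [← h52al_eq_zpowers (P : Subgroup G) hP' u.2 hu1]
      exact hy
    obtain ⟨k, rfl⟩ := Subgroup.mem_zpowers_iff.mp hy'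
    have h5 : Commute g (u : G) := h4
    exact (h5.zpow_right k).eq.symm
  by_contra hg1
  exact hbP (al_fix P hP g hgP hg1 b hb)

/-- ALPHA-E: an element fixing three points is the identity. -/
theorem al_three (hP : Nat.card P = p)
    (hC : Subgroup.centralizer ((P : Subgroup G) : Set G) = (P : Subgroup G))
    (hn : Nat.card (Sylow p G) = 1 + p) (g : G) (a b c : Sylow p G) (hab : a ≠ b) (hbc : b ≠ c)
    (hac : a ≠ c) (ha : g • a = a) (hb : g • b = b) (hc : g • c = c) : g = 1 := by
  obtain ⟨h, hh⟩ := MulAction.exists_smul_eq G a P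
  have h1 : (h * g * h⁻¹) • P = P := by
    rw [mul_smul, mul_smul, ← hh, inv_smul_smul, ha]
  have h2 : (h * g * h⁻¹) • (h • b) = h • b := by
    rw [mul_smul, mul_smul, inv_smul_smul, hb]
  have h3 : (h * g * h⁻¹) • (h • c) = h • c := by
    rw [mul_smul, mul_smul, inv_smul_smul, hc]
  have hbP : h • b ≠ P := by
    intro h4
    apply hab
    exact smul_left_cancel h (hh.trans h4.symm)
  have hcP : h • c ≠ P := by
    intro h4
    apply hac
    exact smul_left_cancel h (hh.trans h4.symm)
  have hbc' : h • b ≠ h • c := fun h4 => hbc (smul_left_cancel h h4)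
  have h5 := h52al_three_P P hP hC hn (h * g * h⁻¹) (h • b) (h • c) hbP hcP hbc' h1 h2 h3
  have h6 : g = h⁻¹ * (h * g * h⁻¹) * h := by group
  rw [h6, h5]
  group

end Cfsg.Agent.Lib.helper52.BrAl
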