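import Mathlib
import Cfsg.Prelude.Def_Characters
import Cfsg.Prelude.Def_Blocks
import Cfsg.Agent.Lib.helper84.BrDefs

/-!
S0996 piece G5 (helper84's split): `invol_count`, with reusable group-theoretic lemmas (prefix `h52_`).
-/

set_option autoImplicit false

namespace Cfsg.Agent.Lib.helper52.Br

open Cfsg Cfsg.Agent.Lib.helper81 Cfsg.Agent.Lib.helper84.Br

universe u

section lemmas

variable {G : Type u} [Group G] [Finite G] {p : ℕ} [Fact p.Prime]

/-- a subgroup of prime order is generated by each of its non-identity elements -/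
theorem h52_eq_zpowers (H : Subgroup G) (hH : Nat.card H = p) {c : G} (hc : c ∈ H) (hc1 : c ≠ 1) :
    H = Subgroup.zpowers c := by
  have hle : Subgroup.zpowers c ≤ H := by rw [Subgroup.zpowers_le]; exact hc
  have h1 : orderOf c ∣ p := hH ▸ Subgroup.orderOf_dvd_natCard H hc
  have h2 : orderOf c = p := by
    rcases (Nat.dvd_prime (Fact.out : p.Prime)).mp h1 with h | h
    · exact absurd (orderOf_eq_one_iff.mp h) hc1
    · exact h
  exact (Subgroup.eq_of_le_of_card_ge hle (by rw [hH, Nat.card_zpowers, h2])).symm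

/-- an element commuting with a non-identity element of `P` lies in `P` -/
theorem h52_cent_le {P : Sylow p G} (hP : Nat.card (P : Subgroup G) = p)
    (hC : Subgroup.centralizer ((P : Subgroup G) : Set G) = (P : Subgroup G))
    {x c : G} (hx : x ∈ (P : Subgroup G)) (hx1 : x ≠ 1) (hcx : c * x = x * c) :
    c ∈ (P : Subgroup G) := by
  rw [← hC, Subgroup.mem_centralizer_iff]
  intro y hy
  have hy' : y ∈ Subgroup.zpowers x := by
    rw [← h52_eq_zpowers (P : Subgroup G) hP hx hx1]; exact hy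
  obtain ⟨k, rfl⟩ := Subgroup.mem_zpowers_iff.mp hy'
  have h1 : Commute c x := hcx
  exact (h1.zpow_right k).eq.symm

/-- distinct Sylow subgroups of order `p` meet trivially -/
theorem h52_inf_eq_one {P Q : Sylow p G} (hP : Nat.card (P : Subgroup G) = p) (hQP : Q ≠ P) {c : G}
    (hcP : c ∈ (P : Subgroup G)) (hcQ : c ∈ (Q : Subgroup G)) : c = 1 := by
  by_contra hc1
  apply hQP
  have hQ : Nat.card (Q : Subgroup G) = p :=
    (Q.card_eq_multiplicity.trans P.card_eq_multiplicity.symm).trans hP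
  apply Sylow.ext
  rw [h52_eq_zpowers (Q : Subgroup G) hQ hcQ hc1, h52_eq_zpowers (P : Subgroup G) hP hcP hc1]

/-- KEY: a non-identity element `w` of `P` and an element `h ∈ N(P) ∖ P` cannot both satisfy
`h • Q = Q` and `h • (w • Q) = w • Q` for a Sylow subgroup `Q ≠ P`. -/
theorem h52_key {P : Sylow p G} (hP : Nat.card (P : Subgroup G) = p)
    (hC : Subgroup.centralizer ((P : Subgroup G) : Set G) = (P : Subgroup G))
    {h : G} (hhN : h • P = P) (hhP : h ∉ (P : Subgroup G))
    {w : G} (hw : w ∈ (P : Subgroup G)) {Q : Sylow p G} (hQP : Q ≠ P) (hQ : h • Q = Q)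
    (hwQ : h • (w • Q) = w • Q) : w = 1 := by
  by_contra hw1
  have hhn : h ∈ Subgroup.normalizer ((P : Subgroup G) : Set G) :=
    Sylow.smul_eq_iff_mem_normalizer.mp hhN
  have hcP : h⁻¹ * w⁻¹ * h * w ∈ (P : Subgroup G) := by
    have h1 : h⁻¹ * w⁻¹ * (h⁻¹)⁻¹ ∈ (P : Subgroup G) :=
      (Subgroup.mem_normalizer_iff.mp (inv_mem hhn) w⁻¹).mp (inv_mem hw)
    have h2 := mul_mem h1 hw
    simpa using h2
  have hcQ : (h⁻¹ * w⁻¹ * h * w) • Q = Q := by
    rw [mul_smul, mul_smul, mul_smul, hwQ, inv_smul_smul]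
    exact inv_smul_eq_iff.mpr hQ.symm
  have hcQ' : h⁻¹ * w⁻¹ * h * w ∈ (Q : Subgroup G) := by
    have h1 : h⁻¹ * w⁻¹ * h * w ∈ (P : Subgroup G) ⊓ Subgroup.normalizer ((Q : Subgroup G) : Set G) :=
      ⟨hcP, Sylow.smul_eq_iff_mem_normalizer.mp hcQ⟩
    have h1' : h⁻¹ * w⁻¹ * h * w ∈ (P : Subgroup G) ⊓ (Q : Subgroup G) := by
      rw [← IsPGroup.inf_normalizer_sylow P.isPGroup' Q]; exact h1
    exact h1'.2
  have hc1 := h52_inf_eq_one hP hQP hcP hcQ'
  have hcomm : h * w = w * h := by
    have h3 : h * w = w * h * (h⁻¹ * w⁻¹ * h * w) := by group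
    rw [h3, hc1, mul_one]
  exact hhP (h52_cent_le hP hC hw hw1 hcomm)

/-- an element of `N(P) ∖ P` fixes at most `n + 1` Sylow subgroups -/
theorem h52_fix_le {P : Sylow p G} {n : ℕ} (hP : Nat.card (P : Subgroup G) = p)
    (hC : Subgroup.centralizer ((P : Subgroup G) : Set G) = (P : Subgroup G))
    (hn : Nat.card (Sylow p G) = 1 + n * p) {h : G} (hhN : h • P = P) (hhP : h ∉ (P : Subgroup G)) :
    Nat.card {Q : Sylow p G // h • Q = Q} ≤ n + 1 := by
  classical
  have hp : p.Prime := Fact.out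
  have hxP : ∀ x : ↥(P : Subgroup G), (x : G) • P = P := fun x =>
    Sylow.smul_eq_iff_mem_normalizer.mpr (Subgroup.le_normalizer x.2)
  -- injection P × F → {Q ≠ P}
  have hinj : Function.Injective
      (fun a : ↥(P : Subgroup G) × {Q : Sylow p G // h • Q = Q ∧ Q ≠ P} =>
        (⟨(a.1 : G) • a.2.1, fun hx => a.2.2.2 (smul_left_cancel (a.1 : G) (hx.trans (hxP a.1).symm))⟩ :
          {Q : Sylow p G // Q ≠ P})) := by
    rintro ⟨x, Q⟩ ⟨y, Q'⟩ hxy
    have h1 : (x : G) • Q.1 = (y : G) • Q'.1 := congrArg Subtype.val hxy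
    have h2 : Q'.1 = ((y : G)⁻¹ * x) • Q.1 := by
      rw [mul_smul, h1, inv_smul_smul]
    have hw : (y : G)⁻¹ * x ∈ (P : Subgroup G) := mul_mem (inv_mem y.2) x.2
    have h3 : h • (((y : G)⁻¹ * x) • Q.1) = ((y : G)⁻¹ * x) • Q.1 := by
      rw [← h2]; exact Q'.2.1
    have h4 := h52_key hP hC hhN hhP hw Q.2.2 Q.2.1 h3
    have h5 : (x : G) = y := by
      have : (y : G) * ((y : G)⁻¹ * x) = y * 1 := by rw [h4]
      simpa using this
    have h6 : Q'.1 = Q.1 := by rw [h2, h4, one_smul]
    have hx : x = y := Subtype.ext h5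
    have hQ : Q = Q' := Subtype.ext h6.symm
    rw [hx, hQ]
  have hcard1 := Nat.card_le_card_of_injective _ hinj
  rw [Nat.card_prod, hP] at hcard1
  -- |{Q ≠ P}| ≤ n p
  have hinj2 : Function.Injective
      (fun o : Option {Q : Sylow p G // Q ≠ P} => (o.elim P (fun Q => Q.1) : Sylow p G)) := by
    rintro (_ | a) (_ | b) hab
    · rfl
    · exact absurd hab.symm b.2
    · exact absurd hab a.2
    · simp only [Option.elim] at hab
      rw [Subtype.ext hab]
  have hcard2 := Nat.card_le_card_of_injective _ hinj2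
  rw [Finite.card_option, hn] at hcard2
  -- fixed points ↪ Option F
  have hinj3 : Function.Injective
      (fun Q : {Q : Sylow p G // h • Q = Q} =>
        (if hq : Q.1 = P then none else some ⟨Q.1, Q.2, hq⟩ :
          Option {Q : Sylow p G // h • Q = Q ∧ Q ≠ P})) := by
    intro Q Q' hQQ
    simp only at hQQ
    by_cases hq : Q.1 = P
    · by_cases hq' : Q'.1 = P
      · exact Subtype.ext (hq.trans hq'.symm)
      · rw [dif_pos hq, dif_neg hq'] at hQQ
        exact absurd hQQ (by simp)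
    · by_cases hq' : Q'.1 = P
      · rw [dif_neg hq, dif_pos hq'] at hQQ
        exact absurd hQQ (by simp)
      · rw [dif_neg hq, dif_neg hq'] at hQQ
        have h7 := Option.some.inj hQQ
        have h8 : Q.1 = Q'.1 := by injection h7
        exact Subtype.ext h8
  have hcard3 := Nat.card_le_card_of_injective _ hinj3
  rw [Finite.card_option] at hcard3
  have hF : Nat.card {Q : Sylow p G // h • Q = Q ∧ Q ≠ P} ≤ n := by
    have h1 : p * Nat.card {Q : Sylow p G // h • Q = Q ∧ Q ≠ P} ≤ n * p := by omega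
    have h2 : p * Nat.card {Q : Sylow p G // h • Q = Q ∧ Q ≠ P} ≤ p * n := by rw [mul_comm p n]; exact h1
    exact Nat.le_of_mul_le_mul_left h2 hp.pos
  omega

end lemmas

/-- G5 (INVOL) : if `e` is even there are at least `p (1 + n p) / (n + 1)` involutions. -/
theorem invol_count {G : Type u} [Group G] [Fintype G] {p : ℕ} [Fact p.Prime] {P : Sylow p G} {e n : ℕ}
    (hctx : Ctx G p P e n) (he : 2 ∣ e) :
    p * (1 + n * p) ≤ (n + 1) * Nat.card {g : G // orderOf g = 2} := by
  classical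
  have hp : p.Prime := Fact.out
  have hP : Nat.card (P : Subgroup G) = p := hctx.hP
  have h2N : 2 ∣ Nat.card (Subgroup.normalizer ((P : Subgroup G) : Set G)) := by
    rw [hctx.he]; exact Dvd.dvd.mul_right he p
  have : Fact (Nat.Prime 2) := ⟨Nat.prime_two⟩
  obtain ⟨i₀, hi₀⟩ := exists_prime_orderOf_dvd_card' 2 h2N
  have hi₀' : orderOf (i₀ : G) = 2 := by rw [Subgroup.orderOf_coe]; exact hi₀
  have hnotP : ∀ j : G, orderOf j = 2 → j ∉ (P : Subgroup G) := by
    intro j hj hmem
    have h1 : orderOf j ∣ p := hP ▸ Subgroup.orderOf_dvd_natCard _ hmem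
    rw [hj] at h1
    exact hctx.hp2 ((Nat.prime_dvd_prime_iff_eq Nat.prime_two hp).mp h1).symm
  have hi₀P : (i₀ : G) ∉ (P : Subgroup G) := hnotP _ hi₀'
  have hconj : ∀ (g y : G), orderOf (g * y * g⁻¹) = orderOf y := fun g y =>
    orderOf_injective (MulAut.conj g).toMonoidHom (MulAut.conj g).injective y
  -- L1: each Sylow subgroup is normalized by at least p involutions
  have L1 : ∀ Q : Sylow p G, p ≤ Nat.card {i : {g : G // orderOf g = 2} // (i : G) • Q = Q} := by
    intro Q
    obtain ⟨g, rfl⟩ := MulAction.exists_smul_eq G P Q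
    have hm : ∀ x : ↥(P : Subgroup G), ((x : G) * i₀ * (x : G)⁻¹) • P = P := fun x =>
      Sylow.smul_eq_iff_mem_normalizer.mpr
        (mul_mem (mul_mem (Subgroup.le_normalizer x.2) i₀.2) (inv_mem (Subgroup.le_normalizer x.2)))
    have hinj : Function.Injective (fun x : ↥(P : Subgroup G) =>
        (⟨⟨g * ((x : G) * i₀ * (x : G)⁻¹) * g⁻¹, by rw [hconj, hconj]; exact hi₀'⟩, by
          show (g * ((x : G) * i₀ * (x : G)⁻¹) * g⁻¹) • (g • P) = g • P
          rw [mul_smul, inv_smul_smul, mul_smul, hm x]⟩ :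
          {i : {g : G // orderOf g = 2} // (i : G) • (g • P) = g • P})) := by
      intro x y hxy
      have h1 : g * ((x : G) * i₀ * (x : G)⁻¹) * g⁻¹ = g * ((y : G) * i₀ * (y : G)⁻¹) * g⁻¹ :=
        congrArg (fun t => ((t : {i : {g : G // orderOf g = 2} // (i : G) • (g • P) = g • P}) : G)) hxy
      have h2 : (x : G) * i₀ * (x : G)⁻¹ = (y : G) * i₀ * (y : G)⁻¹ := by
        have e1 : ∀ m : G, g⁻¹ * (g * m * g⁻¹) * g = m := fun m => by group
        have h9 : g⁻¹ * (g * ((x : G) * i₀ * (x : G)⁻¹) * g⁻¹) * g =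
            g⁻¹ * (g * ((y : G) * i₀ * (y : G)⁻¹) * g⁻¹) * g := by rw [h1]
        rwa [e1, e1] at h9
      by_contra hne
      have hw : (x : G)⁻¹ * y ∈ (P : Subgroup G) := mul_mem (inv_mem x.2) y.2
      have hw1 : (x : G)⁻¹ * y ≠ 1 := by
        intro h3
        apply hne
        apply Subtype.ext
        have : (x : G) * ((x : G)⁻¹ * y) = x * 1 := by rw [h3]
        simpa using this.symm
      have hcomm : (i₀ : G) * ((x : G)⁻¹ * y) = ((x : G)⁻¹ * y) * i₀ := by
        calc (i₀ : G) * ((x : G)⁻¹ * y) = (x : G)⁻¹ * ((x : G) * i₀ * (x : G)⁻¹) * y := by group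
          _ = (x : G)⁻¹ * ((y : G) * i₀ * (y : G)⁻¹) * y := by rw [h2]
          _ = ((x : G)⁻¹ * y) * i₀ := by group
      exact hi₀P (h52_cent_le hP hctx.hC hw hw1 hcomm)
    have := Nat.card_le_card_of_injective _ hinj
    rwa [hP] at this
  -- L2: each involution normalizes at most n + 1 Sylow subgroups
  have L2 : ∀ i : {g : G // orderOf g = 2}, Nat.card {Q : Sylow p G // (i : G) • Q = Q} ≤ n + 1 := by
    intro i
    by_cases hne : ∃ Q₀ : Sylow p G, (i : G) • Q₀ = Q₀
    · obtain ⟨Q₀, hQ₀⟩ := hne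
      obtain ⟨g, rfl⟩ := MulAction.exists_smul_eq G P Q₀
      have hj : (g⁻¹ * (i : G) * g) • P = P := by
        rw [mul_smul, mul_smul, hQ₀, inv_smul_smul]
      have hjo : orderOf (g⁻¹ * (i : G) * g) = 2 := by
        have := hconj g⁻¹ (i : G)
        rw [inv_inv] at this
        rw [this]; exact i.2
      have hjP : g⁻¹ * (i : G) * g ∉ (P : Subgroup G) := hnotP _ hjo
      have hinj : Function.Injective (fun Q : {Q : Sylow p G // (i : G) • Q = Q} =>
          (⟨g⁻¹ • Q.1, by
            rw [mul_smul, mul_smul, smul_inv_smul, Q.2]⟩ :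
            {Q : Sylow p G // (g⁻¹ * (i : G) * g) • Q = Q})) := by
        intro Q Q' hQQ
        have h1 : g⁻¹ • Q.1 = g⁻¹ • Q'.1 := congrArg Subtype.val hQQ
        exact Subtype.ext (smul_left_cancel g⁻¹ h1)
      exact le_trans (Nat.card_le_card_of_injective _ hinj) (h52_fix_le hP hctx.hC hctx.hn hj hjP)
    · have : IsEmpty {Q : Sylow p G // (i : G) • Q = Q} := ⟨fun Q => hne ⟨Q.1, Q.2⟩⟩
      rw [Nat.card_of_isEmpty]; omega
  -- double counting
  have : Fintype (Sylow p G) := Fintype.ofFinite _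
  have hsum : ∑ Q : Sylow p G, (Finset.univ.filter (fun i : {g : G // orderOf g = 2} => (i : G) • Q = Q)).card =
      ∑ i : {g : G // orderOf g = 2}, (Finset.univ.filter (fun Q : Sylow p G => (i : G) • Q = Q)).card := by
    simp only [Finset.card_filter]
    exact Finset.sum_comm
  have hlow : Fintype.card (Sylow p G) * p ≤
      ∑ Q : Sylow p G, (Finset.univ.filter (fun i : {g : G // orderOf g = 2} => (i : G) • Q = Q)).card := by
    have h1 : ∑ _Q : Sylow p G, p = Fintype.card (Sylow p G) * p := by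
      rw [Finset.sum_const, Finset.card_univ, smul_eq_mul]
    rw [← h1]
    apply Finset.sum_le_sum
    intro Q _
    have h2 := L1 Q
    rwa [Nat.card_eq_fintype_card, Fintype.card_subtype] at h2
  have hupp : ∑ i : {g : G // orderOf g = 2}, (Finset.univ.filter (fun Q : Sylow p G => (i : G) • Q = Q)).card ≤
      Fintype.card {g : G // orderOf g = 2} * (n + 1) := by
    have h1 : ∑ _i : {g : G // orderOf g = 2}, (n + 1) = Fintype.card {g : G // orderOf g = 2} * (n + 1) := by
      rw [Finset.sum_const, Finset.card_univ, smul_eq_mul]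
    rw [← h1]
    apply Finset.sum_le_sum
    intro i _
    have h2 := L2 i
    rwa [Nat.card_eq_fintype_card, Fintype.card_subtype] at h2
  have hΩ : Fintype.card (Sylow p G) = 1 + n * p := by
    rw [← Nat.card_eq_fintype_card]; exact hctx.hn
  rw [Nat.card_eq_fintype_card]
  calc p * (1 + n * p) = Fintype.card (Sylow p G) * p := by rw [hΩ]; ring
    _ ≤ _ := hlow
    _ = _ := hsum
    _ ≤ _ := hupp
    _ = (n + 1) * Fintype.card {g : G // orderOf g = 2} := by ring

end Cfsg.Agent.Lib.helper52.Br
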