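import Mathlib
import Cfsg.Prelude.Def_Characters
import Cfsg.Prelude.Def_Blocks
import Cfsg.Agent.Lib.helper84.BrDefs
import Cfsg.Agent.Lib.helper52.BrG5

/-!
S0996 piece G6 (helper84's split): `exists_mu2`.
-/

set_option autoImplicit false

namespace Cfsg.Agent.Lib.helper52.Br

open Cfsg Cfsg.Agent.Lib.helper81 Cfsg.Agent.Lib.helper84.Br

universe u

variable {G : Type u} [Group G] [Fintype G] {p : ℕ} [Fact p.Prime] {P : Sylow p G} {e n : ℕ}

local notation "NP" => Subgroup.normalizer ((P : Subgroup G) : Set G)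

/-- G6 (MU2) : if `e` is even, `N = N_G(P)` has a linear character `μ` of order `2`, trivial on
`P`, which is invariant under `G`-fusion inside `N`. -/
theorem exists_mu2 (hctx : Ctx G p P e n) (he : 2 ∣ e) :
    ∃ μ : ↥(Subgroup.normalizer ((P : Subgroup G) : Set G)) →* ℂˣ,
      (∀ h : ↥(Subgroup.normalizer ((P : Subgroup G) : Set G)), μ h = 1 ∨ μ h = -1) ∧
      (∀ h : ↥(Subgroup.normalizer ((P : Subgroup G) : Set G)), (h : G) ∈ (P : Subgroup G) → μ h = 1) ∧
      (∃ h : ↥(Subgroup.normalizer ((P : Subgroup G) : Set G)), μ h ≠ 1) ∧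
      ∀ (g : G) (h : ↥(Subgroup.normalizer ((P : Subgroup G) : Set G)))
        (hg : g⁻¹ * (h : G) * g ∈ Subgroup.normalizer ((P : Subgroup G) : Set G)),
        μ ⟨g⁻¹ * (h : G) * g, hg⟩ = μ h := by
  classical
  have hp : p.Prime := Fact.out
  have hP : Nat.card (P : Subgroup G) = p := hctx.hP
  have hC := hctx.hC
  -- a generator of P
  obtain ⟨x₀, hx₀P, hx₀1⟩ : ∃ x₀ : G, x₀ ∈ (P : Subgroup G) ∧ x₀ ≠ 1 := by
    have h1 : p ∣ Nat.card (P : Subgroup G) := by rw [hP]
    obtain ⟨x, hx⟩ := exists_prime_orderOf_dvd_card' p h1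
    refine ⟨x, x.2, ?_⟩
    intro h
    have h2 : x = 1 := Subtype.ext h
    rw [h2, orderOf_one] at hx
    exact hp.one_lt.ne hx
  have hgen : (P : Subgroup G) = Subgroup.zpowers x₀ := h52_eq_zpowers _ hP hx₀P hx₀1
  have hord : orderOf x₀ = p := by
    rw [← Nat.card_zpowers, ← hgen, hP]
  have hex : ∀ h : ↥NP, ∃ k : ℤ, x₀ ^ k = (h : G) * x₀ * (h : G)⁻¹ := by
    intro h
    have h1 := (Subgroup.mem_normalizer_iff.mp h.2 x₀).mp hx₀P
    exact Subgroup.mem_zpowers_iff.mp ((SetLike.ext_iff.mp hgen _).mp h1)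
  choose k hk using hex
  have hcast : ∀ a b : ℤ, x₀ ^ a = x₀ ^ b → ((a : ℤ) : ZMod p) = (b : ZMod p) := by
    intro a b hab
    rw [zpow_eq_zpow_iff_modEq, hord] at hab
    exact (ZMod.intCast_eq_intCast_iff a b p).mpr hab
  have hcast' : ∀ a b : ℤ, ((a : ℤ) : ZMod p) = (b : ZMod p) → x₀ ^ a = x₀ ^ b := by
    intro a b hab
    rw [zpow_eq_zpow_iff_modEq, hord]
    exact (ZMod.intCast_eq_intCast_iff a b p).mp hab
  let ν₀ : ↥NP →* ZMod p :=
    { toFun := fun h => ((k h : ℤ) : ZMod p)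
      map_one' := by
        have h1 : x₀ ^ (k 1) = x₀ ^ (1 : ℤ) := by rw [hk, zpow_one]; simp
        simpa using hcast _ _ h1
      map_mul' := fun a b => by
        have h1 : x₀ ^ (k (a * b)) = x₀ ^ (k a * k b) := by
          calc x₀ ^ (k (a * b)) = ((a * b : ↥NP) : G) * x₀ * ((a * b : ↥NP) : G)⁻¹ := hk _
            _ = (a : G) * ((b : G) * x₀ * (b : G)⁻¹) * (a : G)⁻¹ := by rw [Subgroup.coe_mul]; group
            _ = (a : G) * x₀ ^ (k b) * (a : G)⁻¹ := by rw [hk b]
            _ = ((a : G) * x₀ * (a : G)⁻¹) ^ (k b) := conj_zpow.symm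
            _ = (x₀ ^ (k a)) ^ (k b) := by rw [hk a]
            _ = x₀ ^ (k a * k b) := (zpow_mul x₀ (k a) (k b)).symm
        have h2 := hcast _ _ h1
        simpa [Int.cast_mul] using h2 }
  have hν₀ : ∀ h : ↥NP, ν₀ h = ((k h : ℤ) : ZMod p) := fun h => rfl
  have K1 : ∀ h : ↥NP, ν₀ h = 1 ↔ (h : G) ∈ (P : Subgroup G) := by
    intro h
    constructor
    · intro h1
      have h2 : x₀ ^ (k h) = x₀ ^ (1 : ℤ) := hcast' _ _ (by rw [← hν₀, h1]; simp)
      rw [hk, zpow_one] at h2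
      have h3 : (h : G) * x₀ = x₀ * h := by
        have := congrArg (fun t => t * (h : G)) h2
        simpa using this
      exact h52_cent_le hP hC hx₀P hx₀1 h3
    · intro h1
      obtain ⟨j, hj⟩ := Subgroup.mem_zpowers_iff.mp ((SetLike.ext_iff.mp hgen _).mp h1)
      have h2 : (h : G) * x₀ * (h : G)⁻¹ = x₀ := by
        rw [← hj]
        have h4 := (Commute.zpow_self x₀ j).eq
        rw [h4]; group
      have h3 : x₀ ^ (k h) = x₀ ^ (1 : ℤ) := by rw [hk, h2, zpow_one]
      have h5 := hcast _ _ h3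
      rw [hν₀]; simpa using h5
  let U : ↥NP →* (ZMod p)ˣ := ν₀.toHomUnits
  have hU : ∀ h : ↥NP, ((U h : (ZMod p)ˣ) : ZMod p) = ν₀ h := fun h => MonoidHom.coe_toHomUnits ν₀ h
  have hker : U.ker = (P : Subgroup G).subgroupOf NP := by
    ext h
    rw [MonoidHom.mem_ker, Subgroup.mem_subgroupOf, ← K1, ← hU, Units.val_eq_one]
  have hrange : Nat.card U.range = e := by
    have h1 : Nat.card U.ker * U.ker.index = Nat.card ↥NP := Subgroup.card_mul_index _
    have h2 : Nat.card U.ker = p := by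
      rw [hker]
      exact (Nat.card_congr (Subgroup.subgroupOfEquivOfLe Subgroup.le_normalizer).toEquiv).trans hP
    rw [Subgroup.index_ker, h2, hctx.he] at h1
    exact Nat.eq_of_mul_eq_mul_left hp.pos (h1.trans (mul_comm e p))
  have hpowe : ∀ h : ↥NP, (ν₀ h) ^ e = 1 := by
    intro h
    have h1 := pow_card_eq_one' (x := (⟨U h, ⟨h, rfl⟩⟩ : U.range))
    rw [hrange] at h1
    have h2 : (U h) ^ e = 1 := by
      have := congrArg Subtype.val h1
      simpa using this
    have h3 := congrArg Units.val h2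
    rw [Units.val_pow_eq_pow_val, hU] at h3
    simpa using h3
  let ν : ↥NP →* ZMod p := (powMonoidHom (e / 2)).comp ν₀
  have hν : ∀ h : ↥NP, ν h = (ν₀ h) ^ (e / 2) := fun h => rfl
  have he2 : e / 2 + e / 2 = e := by
    obtain ⟨m, rfl⟩ := he
    omega
  have hνpm : ∀ h : ↥NP, ν h = 1 ∨ ν h = -1 := by
    intro h
    apply mul_self_eq_one_iff.mp
    rw [hν, ← pow_add, he2, hpowe]
  have hνP : ∀ h : ↥NP, ν h = 1 ↔ (h : G) ^ (e / 2) ∈ (P : Subgroup G) := by
    intro h
    rw [hν, ← map_pow, K1, Subgroup.coe_pow]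
  have : Fact (2 < p) := ⟨lt_of_le_of_ne hp.two_le (Ne.symm hctx.hp2)⟩
  have hneg : (-1 : ZMod p) ≠ 1 := ZMod.neg_one_ne_one
  have hnt : ∃ h : ↥NP, ν h ≠ 1 := by
    by_contra hall
    push Not at hall
    have hepos : e / 2 ≠ 0 := by have := hctx.he2; omega
    have : NeZero (e / 2) := ⟨hepos⟩
    have hle : U.range ≤ rootsOfUnity (e / 2) (ZMod p) := by
      rintro u ⟨h, rfl⟩
      rw [mem_rootsOfUnity]
      apply Units.ext
      rw [Units.val_pow_eq_pow_val, hU, ← hν, hall]; rfl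
    have h1 := Subgroup.card_le_of_le hle
    rw [hrange] at h1
    have h2 := card_rootsOfUnity (ZMod p) (e / 2)
    have h3 := hctx.he2
    omega
  let μ : ↥NP →* ℂˣ :=
    { toFun := fun h => if ν h = 1 then 1 else -1
      map_one' := by simp
      map_mul' := fun a b => by
        rcases hνpm a with ha | ha <;> rcases hνpm b with hb | hb <;>
          simp [map_mul, ha, hb, hneg] }
  have hμ : ∀ h : ↥NP, μ h = if ν h = 1 then 1 else -1 := fun h => rfl
  refine ⟨μ, ?_, ?_, ?_, ?_⟩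
  · intro h; rw [hμ]; split_ifs <;> simp
  · intro h hh
    rw [hμ, if_pos]
    rw [hν, (K1 h).2 hh, one_pow]
  · obtain ⟨h, hh⟩ := hnt
    refine ⟨h, ?_⟩
    rw [hμ, if_neg hh]
    intro h1
    have h2 := congrArg Units.val h1
    norm_num at h2
  · intro g h hg
    rw [hμ, hμ]
    have hiff : ν ⟨g⁻¹ * (h : G) * g, hg⟩ = 1 ↔ ν h = 1 := by
      rw [hνP, hνP]
      show (g⁻¹ * (h : G) * g) ^ (e / 2) ∈ (P : Subgroup G) ↔ (h : G) ^ (e / 2) ∈ (P : Subgroup G)
      have hpow : (g⁻¹ * (h : G) * g) ^ (e / 2) = g⁻¹ * (h : G) ^ (e / 2) * g := by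
        have h1 := conj_pow (a := g⁻¹) (b := (h : G)) (i := e / 2)
        simpa using h1
      have hyN : (h : G) ^ (e / 2) ∈ NP := pow_mem h.2 _
      have hcN : g⁻¹ * (h : G) ^ (e / 2) * g ∈ NP := by rw [← hpow]; exact pow_mem hg _
      rw [hpow]
      by_cases hgN : g ∈ NP
      · have h1 := Subgroup.mem_normalizer_iff.mp (inv_mem hgN) ((h : G) ^ (e / 2))
        rw [inv_inv] at h1
        exact h1.symm
      · have hQ : g • P ≠ P := fun h1 => hgN (Sylow.smul_eq_iff_mem_normalizer.mp h1)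
        have hQ' : g⁻¹ • P ≠ P := fun h1 => hgN (by
          have h2 := Sylow.smul_eq_iff_mem_normalizer.mp h1
          simpa using inv_mem h2)
        constructor
        · intro hc
          have h1 : (g⁻¹ * (h : G) ^ (e / 2) * g) • (g⁻¹ • P) = g⁻¹ • P := by
            rw [mul_smul, mul_smul, smul_inv_smul, Sylow.smul_eq_iff_mem_normalizer.mpr hyN]
          have h2 : g⁻¹ * (h : G) ^ (e / 2) * g ∈
              (P : Subgroup G) ⊓ ((g⁻¹ • P : Sylow p G) : Subgroup G) := by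
            rw [← IsPGroup.inf_normalizer_sylow P.isPGroup' (g⁻¹ • P)]
            exact ⟨hc, Sylow.smul_eq_iff_mem_normalizer.mp h1⟩
          have h3 := h52_inf_eq_one hP hQ' h2.1 h2.2
          have h4 : (h : G) ^ (e / 2) = 1 := by
            have h5 : (h : G) ^ (e / 2) = g * (g⁻¹ * (h : G) ^ (e / 2) * g) * g⁻¹ := by group
            rw [h5, h3]; group
          rw [h4]; exact one_mem _
        · intro hy
          have h1 : ((h : G) ^ (e / 2)) • (g • P) = g • P := by
            have h5 := Sylow.smul_eq_iff_mem_normalizer.mpr hcN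
            rw [mul_smul, mul_smul] at h5
            exact inv_smul_eq_iff.mp h5
          have h2 : (h : G) ^ (e / 2) ∈ (P : Subgroup G) ⊓ ((g • P : Sylow p G) : Subgroup G) := by
            rw [← IsPGroup.inf_normalizer_sylow P.isPGroup' (g • P)]
            exact ⟨hy, Sylow.smul_eq_iff_mem_normalizer.mp h1⟩
          have h3 := h52_inf_eq_one hP hQ h2.1 h2.2
          rw [h3]; simp
    rw [if_congr hiff rfl rfl]

end Cfsg.Agent.Lib.helper52.Br
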