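import Mathlib
import Cfsg.Agent.Lib.helper16.CG33Defs

/-!
# S3412 piece CI (helper52): conjugation of sets (`cj`) preserves `T`, `Fam`, `Inc`
-/

set_option autoImplicit false

open Matrix
open Cfsg.Agent.Lib.helper16.CG33

namespace Cfsg.Agent.Lib.helper52.CG33

/-- conjugation by `g` is injective. -/
theorem h52_cj_inj {X : Type*} [Group X] (g : X) :
    Function.Injective (fun x : X => g * x * g⁻¹) := by
  intro a b hab
  simpa using hab

/-- PIECE CI (1/5). -/
theorem cj_one {X : Type*} [Group X] (A : Set X) : cj (1 : X) A = A := by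
  simp [cj]

/-- PIECE CI (2/5). -/
theorem cj_mul {X : Type*} [Group X] (g h : X) (A : Set X) : cj (g * h) A = cj g (cj h A) := by
  unfold cj
  rw [Set.image_image]
  refine Set.image_congr' (fun x => ?_)
  simp [mul_assoc]

/-- PIECE CI (3/5). -/
theorem cj_inc {X : Type*} [Group X] (g : X) (A B : Set X) : Inc (cj g A) (cj g B) ↔ Inc A B := by
  unfold Inc cj
  rw [← Set.image_inter (h52_cj_inj g)]
  exact Set.image_nonempty

/-- PIECE CI (4/5): `C(g x g⁻¹) = g C(x) g⁻¹`. -/
theorem cj_mem_T {X : Type*} [Group X] (g x : X) (hx : x ∈ T X) : g * x * g⁻¹ ∈ T X := by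
  obtain ⟨hx1, hx2⟩ := hx
  refine ⟨?_, ?_⟩
  · intro h
    apply hx1
    have h2 : x = g⁻¹ * (g * x * g⁻¹) * g := by group
    rw [h2, h]
    group
  · have hc : Nat.card (Subgroup.centralizer ({g * x * g⁻¹} : Set X)) =
        Nat.card (Subgroup.centralizer ({x} : Set X)) := by
      apply Nat.card_congr
      refine ⟨fun y => ⟨g⁻¹ * (y : X) * g, ?_⟩, fun y => ⟨g * (y : X) * g⁻¹, ?_⟩, ?_, ?_⟩
      · have hy := y.2
        rw [Subgroup.mem_centralizer_iff] at hy ⊢
        intro z hz
        rw [Set.mem_singleton_iff] at hz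
        subst hz
        have h3 := hy (g * z * g⁻¹) rfl
        calc z * (g⁻¹ * (y : X) * g) = g⁻¹ * ((g * z * g⁻¹) * (y : X)) * g := by group
          _ = g⁻¹ * ((y : X) * (g * z * g⁻¹)) * g := by rw [h3]
          _ = g⁻¹ * (y : X) * g * z := by group
      · have hy := y.2
        rw [Subgroup.mem_centralizer_iff] at hy ⊢
        intro z hz
        rw [Set.mem_singleton_iff] at hz
        subst hz
        have h3 := hy x rfl
        calc g * x * g⁻¹ * (g * (y : X) * g⁻¹) = g * (x * (y : X)) * g⁻¹ := by group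
          _ = g * ((y : X) * x) * g⁻¹ := by rw [h3]
          _ = g * (y : X) * g⁻¹ * (g * x * g⁻¹) := by group
      · intro y
        apply Subtype.ext
        show g * (g⁻¹ * (y : X) * g) * g⁻¹ = y
        group
      · intro y
        apply Subtype.ext
        show g⁻¹ * (g * (y : X) * g⁻¹) * g = y
        group
    rw [hc]
    exact hx2

/-- PIECE CI (5/5). -/
theorem cj_mem_Fam {X : Type*} [Group X] (g : X) (A : Set X) (hA : A ∈ Fam X) :
    cj g A ∈ Fam X := by
  obtain ⟨h8, hT, hc⟩ := hA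
  refine ⟨?_, ?_, ?_⟩
  · unfold cj
    rw [Set.ncard_image_of_injective _ (h52_cj_inj g)]
    exact h8
  · rintro _ ⟨x, hx, rfl⟩
    exact cj_mem_T g x (hT hx)
  · rintro _ ⟨a, ha, rfl⟩ _ ⟨b, hb, rfl⟩
    have h3 := hc a ha b hb
    calc g * a * g⁻¹ * (g * b * g⁻¹) = g * (a * b) * g⁻¹ := by group
      _ = g * (b * a) * g⁻¹ := by rw [h3]
      _ = g * b * g⁻¹ * (g * a * g⁻¹) := by group

end Cfsg.Agent.Lib.helper52.CG33
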