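import Mathlib
import Cfsg.Agent.Lib.helper16.CG33Defs
import Cfsg.Agent.Lib.helper16.CommGraph

/-!
# S3412 piece TRa (helper52): transport of `Fam`, `Inc` along a commuting-graph isomorphism
-/

set_option autoImplicit false

open Matrix
open Cfsg.Agent.Lib.helper16.CG33

namespace Cfsg.Agent.Lib.helper52.CG33

/-- PIECE TRa (1/4). -/
theorem hf_symm {H S : Type*} [Group H] [Group S]
    (f : {h : H // h ≠ 1} ≃ {g : S // g ≠ 1})
    (hf : ∀ x y : {h : H // h ≠ 1}, (x : H) * y = y * x ↔ ((f x) : S) * (f y) = (f y) * (f x)) :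
    ∀ x y : {g : S // g ≠ 1}, (x : S) * y = y * x ↔
      ((f.symm x) : H) * (f.symm y) = (f.symm y) * (f.symm x) := by
  intro x y
  have h := hf (f.symm x) (f.symm y)
  rw [Equiv.apply_symm_apply, Equiv.apply_symm_apply] at h
  exact h.symm

/-- members of `T` are not the identity. -/
theorem h52_ne_one_of_mem_Fam {H : Type*} [Group H] {A : Set H} (hA : A ∈ Fam H) {a : H}
    (ha : a ∈ A) : a ≠ 1 := (hA.2.1 ha).1

/-- `fS f A` as an image. -/
theorem h52_fS_eq_image {H S : Type*} [Group H] [Group S]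
    (f : {h : H // h ≠ 1} ≃ {g : S // g ≠ 1}) (A : Set H) :
    fS f A = (fun h : {h : H // h ≠ 1} => ((f h : {g : S // g ≠ 1}) : S)) ''
      ((Subtype.val : {h : H // h ≠ 1} → H) ⁻¹' A) := by
  ext s
  simp [fS]

/-- membership in `fS f A`. -/
theorem h52_mem_fS {H S : Type*} [Group H] [Group S]
    (f : {h : H // h ≠ 1} ≃ {g : S // g ≠ 1}) (A : Set H) (h : {h : H // h ≠ 1}) :
    ((f h : {g : S // g ≠ 1}) : S) ∈ fS f A ↔ (h : H) ∈ A := by
  constructor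
  · rintro ⟨h', hh', he⟩
    have : h' = h := f.injective (Subtype.ext he)
    rw [← this]
    exact hh'
  · intro hh
    exact ⟨h, hh, rfl⟩

/-- PIECE TRa (2/4): uses `Cfsg.Agent.Lib.helper16.CommGraph.card_cent_eq_of_equiv`. -/
theorem fS_mem_Fam {H S : Type*} [Group H] [Group S] [Finite H] [Finite S]
    (f : {h : H // h ≠ 1} ≃ {g : S // g ≠ 1})
    (hf : ∀ x y : {h : H // h ≠ 1}, (x : H) * y = y * x ↔ ((f x) : S) * (f y) = (f y) * (f x))
    (A : Set H) (hA : A ∈ Fam H) : fS f A ∈ Fam S := by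
  obtain ⟨h8, hT, hc⟩ := hA
  refine ⟨?_, ?_, ?_⟩
  · rw [h52_fS_eq_image]
    have hinj : Function.Injective
        (fun h : {h : H // h ≠ 1} => ((f h : {g : S // g ≠ 1}) : S)) := by
      intro a b hab
      exact f.injective (Subtype.ext hab)
    rw [Set.ncard_image_of_injective _ hinj]
    have himg : (Subtype.val : {h : H // h ≠ 1} → H) ''
        ((Subtype.val : {h : H // h ≠ 1} → H) ⁻¹' A) = A := by
      rw [Set.image_preimage_eq_iff]
      intro a ha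
      exact ⟨⟨a, (hT ha).1⟩, rfl⟩
    rw [← Set.ncard_image_of_injective _ Subtype.val_injective, himg]
    exact h8
  · rintro s ⟨h, hh, rfl⟩
    refine ⟨(f h).2, ?_⟩
    rw [← Cfsg.Agent.Lib.helper16.CommGraph.card_cent_eq_of_equiv f hf h]
    exact (hT hh).2
  · rintro _ ⟨a, ha, rfl⟩ _ ⟨b, hb, rfl⟩
    exact (hf a b).mp (hc a ha b hb)

/-- PIECE TRa (3/4). -/
theorem fS_symm {H S : Type*} [Group H] [Group S]
    (f : {h : H // h ≠ 1} ≃ {g : S // g ≠ 1}) (A : Set H) (hA : A ∈ Fam H) :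
    fS f.symm (fS f A) = A := by
  ext x
  constructor
  · rintro ⟨s, ⟨h, hh, he⟩, rfl⟩
    have : f h = s := Subtype.ext he
    rw [← this, Equiv.symm_apply_apply]
    exact hh
  · intro hx
    have hx1 : x ≠ 1 := h52_ne_one_of_mem_Fam hA hx
    refine ⟨f ⟨x, hx1⟩, ⟨⟨x, hx1⟩, hx, rfl⟩, ?_⟩
    rw [Equiv.symm_apply_apply]

/-- PIECE TRa (4/4). -/
theorem fS_inc {H S : Type*} [Group H] [Group S]
    (f : {h : H // h ≠ 1} ≃ {g : S // g ≠ 1}) (A B : Set H) (hA : A ∈ Fam H) (hB : B ∈ Fam H) :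
    Inc A B ↔ Inc (fS f A) (fS f B) := by
  constructor
  · rintro ⟨x, hxA, hxB⟩
    have hx1 : x ≠ 1 := h52_ne_one_of_mem_Fam hA hxA
    exact ⟨f ⟨x, hx1⟩, ⟨⟨x, hx1⟩, hxA, rfl⟩, ⟨⟨x, hx1⟩, hxB, rfl⟩⟩
  · rintro ⟨s, ⟨h, hh, rfl⟩, hsB⟩
    exact ⟨h, hh, (h52_mem_fS f B h).mp hsB⟩

end Cfsg.Agent.Lib.helper52.CG33
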