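import Mathlib
import Cfsg.Agent.Lib.helper16.CG33Defs
import Cfsg.Agent.Lib.helper16.CommGraph
import Cfsg.Agent.Lib.helper52.CG33_TRa

/-!
# S3412 piece TRb (helper52): transport of `L1`, `L2` along a commuting-graph isomorphism
-/

set_option autoImplicit false

open Matrix
open Cfsg.Agent.Lib.helper16.CG33

namespace Cfsg.Agent.Lib.helper52.CG33

/-- PIECE TRb (1/2). -/
theorem tr_L1 {H S : Type*} [Group H] [Group S] [Finite H] [Finite S]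
    (f : {h : H // h ≠ 1} ≃ {g : S // g ≠ 1})
    (hf : ∀ x y : {h : H // h ≠ 1}, (x : H) * y = y * x ↔ ((f x) : S) * (f y) = (f y) * (f x))
    (h1 : L1 S) : L1 H := by
  intro A hA g hg hcomm
  have hFam : fS f A ∈ Fam S := fS_mem_Fam f hf A hA
  have hmem : ((f ⟨g, hg⟩ : {g : S // g ≠ 1}) : S) ∈ fS f A := by
    refine h1 (fS f A) hFam _ (f ⟨g, hg⟩).2 ?_
    rintro _ ⟨a, ha, rfl⟩
    exact (hf ⟨g, hg⟩ a).mp (hcomm a ha)
  exact (h52_mem_fS f A ⟨g, hg⟩).mp hmem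

/-- PIECE TRb (2/2). -/
theorem tr_L2 {H S : Type*} [Group H] [Group S] [Finite H] [Finite S]
    (f : {h : H // h ≠ 1} ≃ {g : S // g ≠ 1})
    (hf : ∀ x y : {h : H // h ≠ 1}, (x : H) * y = y * x ↔ ((f x) : S) * (f y) = (f y) * (f x))
    (h2 : L2 S) : L2 H := by
  intro A hA
  have hFam : fS f A ∈ Fam S := fS_mem_Fam f hf A hA
  obtain ⟨B', hB', hopp⟩ := h2 (fS f A) hFam
  refine ⟨fS f.symm B', fS_mem_Fam f.symm (hf_symm f hf) B' hB', ?_⟩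
  rintro a ha _ ⟨s, hs, rfl⟩ hab
  have ha1 : a ≠ 1 := h52_ne_one_of_mem_Fam hA ha
  have h3 := (hf ⟨a, ha1⟩ (f.symm s)).mp hab
  rw [Equiv.apply_symm_apply] at h3
  exact hopp _ ⟨⟨a, ha1⟩, ha, rfl⟩ _ hs h3

end Cfsg.Agent.Lib.helper52.CG33
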