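import Mathlib

/-!
S3175 piece STEP (helper96's split): `step_fixed`.
-/

set_option autoImplicit false

namespace Cfsg.Agent.Lib.helper52.S3175

/-- STEP -/
theorem step_fixed {T : Type*} [Group T] [Finite T] (hT : IsPGroup 2 T) (φ : MulAut T) (n : ℕ) (hn : Odd n)
    (hφ : φ ^ n = 1) (H K : Subgroup T) (hH : ∀ h ∈ H, φ h = h) (hK : ∀ k ∈ K, φ k * k⁻¹ ∈ H) :
    ∀ k ∈ K, φ k = k := by
  intro k hk
  have hcH : φ k * k⁻¹ ∈ H := hK k hk
  have hφc : φ (φ k * k⁻¹) = φ k * k⁻¹ := hH _ hcH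
  have hpow : ∀ j : ℕ, (φ ^ j) k = (φ k * k⁻¹) ^ j * k := by
    intro j
    induction j with
    | zero => simp
    | succ j ih =>
      rw [pow_succ', MulAut.mul_apply, ih, map_mul, map_pow, hφc, pow_succ]
      group
  have h1 : (φ k * k⁻¹) ^ n = 1 := by
    have h2 := hpow n
    rw [hφ, MulAut.one_apply] at h2
    exact mul_eq_right.mp h2.symm
  obtain ⟨m, hm⟩ := hT (φ k * k⁻¹)
  have hd1 : orderOf (φ k * k⁻¹) ∣ n := orderOf_dvd_of_pow_eq_one h1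
  have hd2 : orderOf (φ k * k⁻¹) ∣ 2 ^ m := orderOf_dvd_of_pow_eq_one hm
  have hcop : Nat.Coprime (2 ^ m) n := Nat.Coprime.pow_left m (Nat.coprime_two_left.mpr hn)
  have h3 : orderOf (φ k * k⁻¹) = 1 := Nat.Coprime.eq_one_of_dvd (Nat.Coprime.coprime_dvd_left hd2 hcop) hd1
  have h4 : φ k * k⁻¹ = 1 := orderOf_eq_one_iff.mp h3
  exact mul_inv_eq_one.mp h4

end Cfsg.Agent.Lib.helper52.S3175
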