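import Mathlib
import Cfsg.Agent.Lib.helper52.S3175STEP

/-!
S3175 piece ODD1 (helper96's split): `odd_aut_fix_Z3`.
-/

set_option autoImplicit false

namespace Cfsg.Agent.Lib.helper52.S3175

/-- if `H ≤ K` has index 2 in `K` and `φ` preserves both, then `φ k * k⁻¹ ∈ H` on `K` -/
theorem h52_index_two_step {T : Type*} [Group T] [Finite T] (H K : Subgroup T) (hHK : H ≤ K)
    (hcard : Nat.card K = 2 * Nat.card H) (φ : MulAut T) (hφH : ∀ x : T, φ x ∈ H ↔ x ∈ H)
    (hφK : ∀ x ∈ K, φ x ∈ K) : ∀ k ∈ K, φ k * k⁻¹ ∈ H := by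
  intro k hk
  have hidx : (H.subgroupOf K).index = 2 := by
    have h1 : Nat.card (H.subgroupOf K) * (H.subgroupOf K).index = Nat.card K :=
      Subgroup.card_mul_index _
    have h2 : Nat.card (H.subgroupOf K) = Nat.card H :=
      Nat.card_congr (Subgroup.subgroupOfEquivOfLe hHK).toEquiv
    rw [h2, hcard] at h1
    have h3 : 0 < Nat.card H := Nat.card_pos
    exact Nat.eq_of_mul_eq_mul_left h3 (by rw [h1]; ring)
  have h := Subgroup.mul_mem_iff_of_index_two hidx (a := (⟨φ k, hφK k hk⟩ : ↥K))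
    (b := (⟨k, hk⟩ : ↥K)⁻¹)
  simp only [Subgroup.mem_subgroupOf, Subgroup.coe_mul, Subgroup.coe_inv] at h
  rw [h, hφH, inv_mem_iff]

/-- ODD1 -/
theorem odd_aut_fix_Z3 {T : Type*} [Group T] [Finite T] (hT : IsPGroup 2 T)
    (h1 : Nat.card ↥(Subgroup.upperCentralSeries T 1) = 2) (h2 : Nat.card ↥(Subgroup.upperCentralSeries T 2) = 4)
    (h3 : Nat.card ↥(Subgroup.upperCentralSeries T 3) = 8)
    (φ : MulAut T) (n : ℕ) (hn : Odd n) (hφ : φ ^ n = 1) :
    ∀ z ∈ Subgroup.upperCentralSeries T 3, φ z = z := by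
  have hφZ : ∀ (i : ℕ) (x : T),
      φ x ∈ Subgroup.upperCentralSeries T i ↔ x ∈ Subgroup.upperCentralSeries T i := by
    intro i x
    have h := (inferInstance : (Subgroup.upperCentralSeries T i).Characteristic).fixed φ
    have h2 := SetLike.ext_iff.mp h x
    rw [Subgroup.mem_comap] at h2
    exact h2
  have hmono : ∀ i, Subgroup.upperCentralSeries T i ≤ Subgroup.upperCentralSeries T (i + 1) :=
    fun i => Subgroup.upperCentralSeries_mono T (Nat.le_succ i)
  have f1 : ∀ z ∈ Subgroup.upperCentralSeries T 1, φ z = z := by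
    intro z hz
    have h := h52_index_two_step (Subgroup.upperCentralSeries T 0) (Subgroup.upperCentralSeries T 1)
      (hmono 0) (by rw [h1, Subgroup.upperCentralSeries_zero, Subgroup.card_bot]) φ (hφZ 0)
      (fun x hx => (hφZ 1 x).2 hx) z hz
    rw [Subgroup.upperCentralSeries_zero, Subgroup.mem_bot] at h
    exact mul_inv_eq_one.mp h
  have f2 : ∀ z ∈ Subgroup.upperCentralSeries T 2, φ z = z :=
    step_fixed hT φ n hn hφ _ _ f1
      (h52_index_two_step (Subgroup.upperCentralSeries T 1) (Subgroup.upperCentralSeries T 2)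
        (hmono 1) (by rw [h2, h1]) φ (hφZ 1) (fun x hx => (hφZ 2 x).2 hx))
  exact step_fixed hT φ n hn hφ _ _ f2
    (h52_index_two_step (Subgroup.upperCentralSeries T 2) (Subgroup.upperCentralSeries T 3)
      (hmono 2) (by rw [h3, h2]) φ (hφZ 2) (fun x hx => (hφZ 3 x).2 hx))

end Cfsg.Agent.Lib.helper52.S3175
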