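import Mathlib
import Cfsg.Agent.Lib.helper26.Suz64b

/-!
S1237 piece D64 (helper37's split): `e64_top`, plus small shared lemmas (prefix `h52_`) used by D16.
-/

set_option autoImplicit false

namespace Cfsg.Agent.Lib.helper52.S1237

open Cfsg Cfsg.Agent.Lib.helper26

/-- restriction of an automorphism to an invariant subgroup -/
def h52_resAut {T : Type*} [Group T] (ρ : MulAut T) (E : Subgroup T)
    (h : ∀ x : T, ρ x ∈ E ↔ x ∈ E) : MulAut ↥E where
  toFun x := ⟨ρ x, (h x).2 x.2⟩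
  invFun x := ⟨ρ.symm x, (h _).1 (by rw [MulEquiv.apply_symm_apply]; exact x.2)⟩
  left_inv x := Subtype.ext (ρ.symm_apply_apply x)
  right_inv x := Subtype.ext (ρ.apply_symm_apply x)
  map_mul' x y := Subtype.ext (map_mul ρ (x : T) (y : T))

theorem h52_resAut_coe {T : Type*} [Group T] (ρ : MulAut T) (E : Subgroup T)
    (h : ∀ x : T, ρ x ∈ E ↔ x ∈ E) (x : ↥E) : ((h52_resAut ρ E h x : ↥E) : T) = ρ x := rfl

theorem h52_rho_V {T : Type*} [Group T] {V : Subgroup T} (hV : ∀ x : T, x ∈ V ↔ x * x = 1)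
    (ρ : MulAut T) (x : T) : ρ x ∈ V ↔ x ∈ V := by
  rw [hV, hV, ← map_mul]
  constructor
  · intro h
    have : ρ (x * x) = ρ 1 := by rw [h, map_one]
    exact ρ.injective this
  · intro h; rw [h, map_one]

theorem h52_rho_E {T : Type*} [Group T] {V E : Subgroup T} (hV : ∀ x : T, x ∈ V ↔ x * x = 1)
    (hE : ∀ x : T, x ∈ E ↔ x * x ∈ V) (ρ : MulAut T) (x : T) : ρ x ∈ E ↔ x ∈ E := by
  rw [hE, hE, ← map_mul, h52_rho_V hV]

theorem h52_class2_sq {T : Type*} [Group T] {a b : T}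
    (hc : a * b * a⁻¹ * b⁻¹ ∈ Subgroup.center T) :
    (a * a) * b * (a * a)⁻¹ * b⁻¹ = (a * b * a⁻¹ * b⁻¹) * (a * b * a⁻¹ * b⁻¹) := by
  have h := Subgroup.mem_center_iff.mp hc a
  calc a * a * b * (a * a)⁻¹ * b⁻¹ = (a * (a * b * a⁻¹ * b⁻¹)) * (b * a⁻¹ * b⁻¹) := by group
    _ = ((a * b * a⁻¹ * b⁻¹) * a) * (b * a⁻¹ * b⁻¹) := by rw [h]
    _ = _ := by group

theorem h52_conj_mem {T : Type*} [Group T] {V E : Subgroup T} (hVc : V ≤ Subgroup.center T)
    (hE : ∀ x : T, x ∈ E ↔ x * x ∈ V) (g : T) {x : T} (hx : x ∈ E) : g * x * g⁻¹ ∈ E := by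
  rw [hE] at hx ⊢
  have h := Subgroup.mem_center_iff.mp (hVc hx) g
  have : g * x * g⁻¹ * (g * x * g⁻¹) = x * x := by
    calc g * x * g⁻¹ * (g * x * g⁻¹) = (g * (x * x)) * g⁻¹ := by group
      _ = (x * x) * g * g⁻¹ := by rw [h]
      _ = x * x := by group
  rw [this]; exact hx

theorem h52_V_le_E {T : Type*} [Group T] {V E : Subgroup T} (hV : ∀ x : T, x ∈ V ↔ x * x = 1)
    (hE : ∀ x : T, x ∈ E ↔ x * x ∈ V) : V ≤ E := fun v hv =>
  (hE v).2 (by rw [(hV v).1 hv]; exact one_mem V)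

/-- PIECE D64. -/
theorem e64_top {T : Type*} [Group T] [Finite T] (hT : IsPGroup 2 T) (V : Subgroup T)
    (hV : ∀ x : T, x ∈ V ↔ x * x = 1) (hV4 : Nat.card V = 4) (hVc : V ≤ Subgroup.center T)
    (ρ : MulAut T) (hρ : Fpf3.Hyp ρ)
    (hc2 : ∀ a b : T, a * b * a⁻¹ * b⁻¹ ∈ Subgroup.center T)
    (E : Subgroup T) (hE : ∀ x : T, x ∈ E ↔ x * x ∈ V) (hE64 : Nat.card E = 64) :
    Nat.card T = 64 := by
  have hVE : V ≤ E := h52_V_le_E hV hE
  have hρE : ∀ x : T, ρ x ∈ E ↔ x ∈ E := h52_rho_E hV hE ρ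
  -- E is nonabelian
  have hEna : ¬ ∀ a b : ↥E, a * b = b * a := by
    intro hab
    let f : ↥E →* ↥V :=
      { toFun := fun x => ⟨(x : T) * x, (hE x).1 x.2⟩
        map_one' := by apply Subtype.ext; simp
        map_mul' := fun x y => by
          apply Subtype.ext
          have h1 : (y : T) * x = x * y := congrArg Subtype.val (hab y x)
          show ((x * y : ↥E) : T) * ((x * y : ↥E) : T) = (x : T) * x * ((y : T) * y)
          rw [Subgroup.coe_mul]
          calc (x : T) * y * (x * y) = x * (y * x) * y := by group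
            _ = x * (x * y) * y := by rw [h1]
            _ = x * x * (y * y) := by group }
    have hker : Nat.card f.ker ≤ 4 := by
      rw [← hV4]
      refine Nat.card_le_card_of_injective
        (fun x : f.ker => (⟨((x : ↥E) : T), (hV _).2 ?_⟩ : ↥V)) ?_
      · have h2 := x.2
        rw [MonoidHom.mem_ker] at h2
        exact congrArg Subtype.val h2
      · intro x y hxy
        apply Subtype.ext
        apply Subtype.ext
        have h3 := congrArg Subtype.val hxy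
        exact h3
    have hrange : Nat.card f.range ≤ 4 := by rw [← hV4]; exact Subgroup.card_le_card_group _
    have h1 : Nat.card f.ker * f.ker.index = Nat.card ↥E := Subgroup.card_mul_index _
    rw [Subgroup.index_ker, hE64] at h1
    nlinarith
  have H : S64.Hyp64 (h52_resAut ρ E hρE) :=
    ⟨⟨fun y => Subtype.ext (hρ.cube y), fun y hy => Subtype.ext (hρ.fp y (congrArg Subtype.val hy))⟩,
      hE64, hEna⟩
  have hZ4 := S64.card_center H
  have hle : V.subgroupOf E ≤ Subgroup.center ↥E := by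
    intro x hx
    rw [Subgroup.mem_subgroupOf] at hx
    rw [Subgroup.mem_center_iff]
    intro g
    apply Subtype.ext
    exact Subgroup.mem_center_iff.mp (hVc hx) g
  have hcard : Nat.card (V.subgroupOf E) = 4 := by
    rw [← hV4]; exact Nat.card_congr (Subgroup.subgroupOfEquivOfLe hVE).toEquiv
  have heq : V.subgroupOf E = Subgroup.center ↥E :=
    Subgroup.eq_of_le_of_card_ge hle (by rw [hcard, hZ4])
  have key : ∀ u ∈ E, (∀ e ∈ E, u * e = e * u) → u ∈ V := by
    intro u hu hcomm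
    have h1 : (⟨u, hu⟩ : ↥E) ∈ Subgroup.center ↥E := by
      rw [Subgroup.mem_center_iff]; intro g; apply Subtype.ext; exact (hcomm g g.2).symm
    rw [← heq, Subgroup.mem_subgroupOf] at h1
    exact h1
  have hEtop : ∀ x : T, x ∈ E := by
    by_contra hne
    push Not at hne
    obtain ⟨x, hx⟩ := hne
    obtain ⟨n, hn⟩ := hT x
    have hex : ∃ m, x ^ 2 ^ m ∈ E := ⟨n, by rw [hn]; exact one_mem E⟩
    classical
    have hm : x ^ 2 ^ (Nat.find hex) ∈ E := Nat.find_spec hex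
    have hm0 : Nat.find hex ≠ 0 := by
      intro h0
      rw [h0] at hm
      simp at hm
      exact hx hm
    obtain ⟨j, hj⟩ := Nat.exists_eq_succ_of_ne_zero hm0
    have hjlt : j < Nat.find hex := by omega
    have hy : x ^ 2 ^ j ∉ E := Nat.find_min hex hjlt
    have hyy : x ^ 2 ^ j * x ^ 2 ^ j ∈ E := by
      have h1 : x ^ 2 ^ j * x ^ 2 ^ j = x ^ 2 ^ (Nat.find hex) := by
        rw [hj, ← pow_add, Nat.succ_eq_add_one, pow_succ]
        congr 1
        ring
      rw [h1]; exact hm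
    have huV : x ^ 2 ^ j * x ^ 2 ^ j ∉ V := fun h => hy ((hE _).2 h)
    apply huV
    apply key _ hyy
    intro e he
    have hwc := hc2 (x ^ 2 ^ j) e
    have hwE : x ^ 2 ^ j * e * (x ^ 2 ^ j)⁻¹ * e⁻¹ ∈ E :=
      mul_mem (h52_conj_mem hVc hE _ he) (inv_mem he)
    have hwV : x ^ 2 ^ j * e * (x ^ 2 ^ j)⁻¹ * e⁻¹ ∈ V :=
      key _ hwE (fun g _ => (Subgroup.mem_center_iff.mp hwc g).symm)
    have hww := (hV _).1 hwV
    have hsq := h52_class2_sq hwc
    rw [hww] at hsq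
    have h3 : x ^ 2 ^ j * x ^ 2 ^ j * e = (x ^ 2 ^ j * x ^ 2 ^ j * e * (x ^ 2 ^ j * x ^ 2 ^ j)⁻¹ * e⁻¹) * (e * (x ^ 2 ^ j * x ^ 2 ^ j)) := by
      group
    rw [h3, hsq, one_mul]
  have htop : E = ⊤ := (Subgroup.eq_top_iff' E).2 hEtop
  rw [← hE64, htop, Subgroup.card_top]

end Cfsg.Agent.Lib.helper52.S1237
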