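import Mathlib
import Cfsg.Agent.Lib.helper26.Suz64b
import Cfsg.Agent.Lib.helper52.S1237D64

/-!
S1237 piece D16 (helper37's split): `e16_contra`.
-/

set_option autoImplicit false

namespace Cfsg.Agent.Lib.helper52.S1237

open Cfsg Cfsg.Agent.Lib.helper26

universe u

/-- a commutator with an element of `E` lies in `V` (class 2) -/
theorem h52_comm_mem_V {T : Type*} [Group T] {V E : Subgroup T}
    (hV : ∀ x : T, x ∈ V ↔ x * x = 1) (hVc : V ≤ Subgroup.center T)
    (hc2 : ∀ a b : T, a * b * a⁻¹ * b⁻¹ ∈ Subgroup.center T)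
    (hE : ∀ x : T, x ∈ E ↔ x * x ∈ V) {a : T} (ha : a ∈ E) (b : T) :
    a * b * a⁻¹ * b⁻¹ ∈ V := by
  rw [hV, ← h52_class2_sq (hc2 a b)]
  have h := Subgroup.mem_center_iff.mp (hVc ((hE a).1 ha)) b
  calc a * a * b * (a * a)⁻¹ * b⁻¹ = (a * a * b) * (a * a)⁻¹ * b⁻¹ := by group
    _ = (b * (a * a)) * (a * a)⁻¹ * b⁻¹ := by rw [h]
    _ = 1 := by group

/-- if `a * a` is central then the commutator `[a,b]` squares to one (class 2) -/
theorem h52_comm_sq_of_sq_central {T : Type*} [Group T]
    (hc2 : ∀ a b : T, a * b * a⁻¹ * b⁻¹ ∈ Subgroup.center T) {a : T}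
    (ha : a * a ∈ Subgroup.center T) (b : T) :
    (a * b * a⁻¹ * b⁻¹) * (a * b * a⁻¹ * b⁻¹) = 1 := by
  rw [← h52_class2_sq (hc2 a b)]
  have h := Subgroup.mem_center_iff.mp ha b
  calc a * a * b * (a * a)⁻¹ * b⁻¹ = (a * a * b) * (a * a)⁻¹ * b⁻¹ := by group
    _ = (b * (a * a)) * (a * a)⁻¹ * b⁻¹ := by rw [h]
    _ = 1 := by group

theorem h52_mk_mem {T : Type*} [Group T] {V E : Subgroup T} [V.Normal] (hVE : V ≤ E) (x : T) :
    (QuotientGroup.mk x : T ⧸ V) ∈ ((QuotientGroup.mk' V).comp E.subtype).range ↔ x ∈ E := by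
  constructor
  · rintro ⟨e, he⟩
    have h1 : (QuotientGroup.mk (e : T) : T ⧸ V) = QuotientGroup.mk x := he
    rw [QuotientGroup.eq] at h1
    have h2 := mul_mem e.2 (hVE h1)
    simpa using h2
  · intro hx; exact ⟨⟨x, hx⟩, rfl⟩

/-- PIECE D16. -/
theorem e16_contra {T : Type u} [Group T] [Finite T] (hT : IsPGroup 2 T) (V : Subgroup T)
    (hV : ∀ x : T, x ∈ V ↔ x * x = 1) (hV4 : Nat.card V = 4) (hVc : V ≤ Subgroup.center T)
    (ρ : MulAut T) (hρ : Fpf3.Hyp ρ)
    (hc2 : ∀ a b : T, a * b * a⁻¹ * b⁻¹ ∈ Subgroup.center T)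
    (hna : ¬ ∀ a b : T, a * b = b * a)
    (E : Subgroup T) (hE : ∀ x : T, x ∈ E ↔ x * x ∈ V) (hE16 : Nat.card E = 16)
    (IH : ∀ (T' : Type u) [Group T'] [Finite T'], Nat.card T' < Nat.card T → IsPGroup 2 T' →
      ∀ V' : Subgroup T', (∀ x : T', x ∈ V' ↔ x * x = 1) → Nat.card V' = 4 →
      V' ≤ Subgroup.center T' → ∀ ρ' : MulAut T', Fpf3.Hyp ρ' →
      (∀ a b : T', a * b = b * a) ∨ Nat.card T' = 64) : False := by
  classical
  have hVE : V ≤ E := h52_V_le_E hV hE
  have hρV : ∀ x : T, ρ x ∈ V ↔ x ∈ V := h52_rho_V hV ρ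
  have hVn : V.Normal := by
    refine ⟨fun n hn g => ?_⟩
    have h := Subgroup.mem_center_iff.mp (hVc hn) g
    have : g * n * g⁻¹ = n := by rw [h]; group
    rw [this]; exact hn
  -- the induced automorphism of T ⧸ V
  have hmap : V.map (ρ : T →* T) = V := by
    ext y
    rw [Subgroup.mem_map]
    constructor
    · rintro ⟨x, hx, rfl⟩
      exact (hρV x).2 hx
    · intro hy
      refine ⟨ρ.symm y, (hρV _).1 ?_, ρ.apply_symm_apply y⟩
      rw [MulEquiv.apply_symm_apply]; exact hy
  let ρb : MulAut (T ⧸ V) := QuotientGroup.congr V V ρ hmap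
  have hρb : ∀ x : T, ρb (QuotientGroup.mk x) = QuotientGroup.mk (ρ x) := fun x =>
    QuotientGroup.congr_mk V V ρ hmap x
  have hHyp : Fpf3.Hyp ρb := by
    refine ⟨fun y => ?_, fun y hy => ?_⟩
    · induction y using QuotientGroup.induction_on with
      | H x => rw [hρb, hρb, hρb, hρ.cube]
    · induction y using QuotientGroup.induction_on with
      | H x =>
        rw [hρb, QuotientGroup.eq] at hy
        have h1 : x⁻¹ * ρ x ∈ V := by
          have := inv_mem hy
          simpa using this
        have h2 := Fpf3.mem_of_delta_mem hρ V (fun y hy => (hρV y).2 hy) h1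
        exact (QuotientGroup.eq_one_iff x).2 h2
  -- V' = E / V
  let φ : ↥E →* T ⧸ V := (QuotientGroup.mk' V).comp E.subtype
  have hmk : ∀ x : T, (QuotientGroup.mk x : T ⧸ V) ∈ φ.range ↔ x ∈ E := h52_mk_mem hVE
  have hV'mem : ∀ y : T ⧸ V, y ∈ φ.range ↔ y * y = 1 := by
    intro y
    induction y using QuotientGroup.induction_on with
    | H x =>
      rw [hmk, hE, ← QuotientGroup.mk_mul, QuotientGroup.eq_one_iff]
  have hker : φ.ker = V.subgroupOf E := by
    ext e
    rw [MonoidHom.mem_ker, Subgroup.mem_subgroupOf]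
    show (QuotientGroup.mk (e : T) : T ⧸ V) = 1 ↔ _
    rw [QuotientGroup.eq_one_iff]
  have hV'4 : Nat.card φ.range = 4 := by
    have h1 : Nat.card φ.ker * φ.ker.index = Nat.card ↥E := Subgroup.card_mul_index _
    have h2 : Nat.card φ.ker = 4 := by
      rw [hker, ← hV4]; exact Nat.card_congr (Subgroup.subgroupOfEquivOfLe hVE).toEquiv
    rw [Subgroup.index_ker, h2, hE16] at h1
    omega
  have hV'c : φ.range ≤ Subgroup.center (T ⧸ V) := by
    rintro y ⟨e, rfl⟩
    rw [Subgroup.mem_center_iff]
    intro g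
    induction g using QuotientGroup.induction_on with
    | H g =>
      show (QuotientGroup.mk g : T ⧸ V) * QuotientGroup.mk (e : T) = QuotientGroup.mk (e : T) * QuotientGroup.mk g
      rw [← QuotientGroup.mk_mul, ← QuotientGroup.mk_mul, QuotientGroup.eq]
      have h1 := h52_comm_mem_V hV hVc hc2 hE (inv_mem e.2) g⁻¹
      have h2 : (g * (e : T))⁻¹ * ((e : T) * g) = (e : T)⁻¹ * g⁻¹ * ((e : T)⁻¹)⁻¹ * (g⁻¹)⁻¹ := by group
      rw [h2]; exact h1
  have hcardT : Nat.card T = Nat.card (T ⧸ V) * 4 := by
    rw [← hV4]; exact Subgroup.card_eq_card_quotient_mul_card_subgroup V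
  have hlt : Nat.card (T ⧸ V) < Nat.card T := by
    have : 0 < Nat.card (T ⧸ V) := Nat.card_pos
    omega
  have hIH := IH (T ⧸ V) hlt (hT.to_quotient V) φ.range hV'mem hV'4 hV'c ρb hHyp
  -- commutators in V iff quotient abelian
  have hab_of : (∀ x y : T, x * y * x⁻¹ * y⁻¹ ∈ V) → ∀ a b : T ⧸ V, a * b = b * a := by
    intro h a b
    induction a using QuotientGroup.induction_on with
    | H x =>
      induction b using QuotientGroup.induction_on with
      | H y =>
        rw [← QuotientGroup.mk_mul, ← QuotientGroup.mk_mul, QuotientGroup.eq]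
        have h1 := h y⁻¹ x⁻¹
        have h2 : (x * y)⁻¹ * (y * x) = y⁻¹ * x⁻¹ * (y⁻¹)⁻¹ * (x⁻¹)⁻¹ := by group
        rw [h2]; exact h1
  have hT3 : Nat.card T % 3 = 1 := by
    have := Fpf3.card_mod_three hρ ⊤ (fun _ _ => Subgroup.mem_top _)
    rwa [Subgroup.card_top] at this
  have hZ3 : Nat.card (Subgroup.center T) % 3 = 1 :=
    Fpf3.card_mod_three hρ _ (fun y hy => Fpf3.rho_mem_center ρ hy)
  by_cases hab : ∀ a b : T ⧸ V, a * b = b * a
  · -- case T ⧸ V abelian
    have hcomV : ∀ x y : T, x * y * x⁻¹ * y⁻¹ ∈ V := by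
      intro x y
      rw [← QuotientGroup.eq_one_iff]
      simp only [QuotientGroup.mk_mul, QuotientGroup.mk_inv]
      rw [hab (QuotientGroup.mk x) (QuotientGroup.mk y)]
      group
    have hsqc : ∀ y : T, y * y ∈ Subgroup.center T := by
      intro y
      rw [Subgroup.mem_center_iff]
      intro g
      have h1 := (hV _).1 (hcomV y g)
      rw [← h52_class2_sq (hc2 y g)] at h1
      have h2 := mul_inv_eq_one.mp h1
      exact (mul_inv_eq_iff_eq_mul.mp h2).symm
    let sq : (T ⧸ V) →* (T ⧸ V) :=
      { toFun := fun x => x * x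
        map_one' := by simp
        map_mul' := fun x y => by
          calc x * y * (x * y) = x * (y * x) * y := by group
            _ = x * (x * y) * y := by rw [hab y x]
            _ = x * x * (y * y) := by group }
    have hsqker : sq.ker = φ.range := by
      ext y
      rw [MonoidHom.mem_ker, hV'mem]
      rfl
    have hrange_idx : sq.range.index = 4 := by
      have h1 : Nat.card sq.ker * sq.ker.index = Nat.card (T ⧸ V) := Subgroup.card_mul_index _
      have h2 : Nat.card sq.range * sq.range.index = Nat.card (T ⧸ V) := Subgroup.card_mul_index _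
      rw [Subgroup.index_ker, hsqker, hV'4] at h1
      have h3 : 0 < Nat.card sq.range := Nat.card_pos
      have h4 : Nat.card sq.range * sq.range.index = Nat.card sq.range * 4 := by rw [h2, ← h1]; ring
      exact Nat.eq_of_mul_eq_mul_left h3 h4
    have hSle : sq.range.comap (QuotientGroup.mk' V) ≤ Subgroup.center T := by
      intro x hx
      rw [Subgroup.mem_comap] at hx
      obtain ⟨yb, hyb⟩ := hx
      obtain ⟨y, rfl⟩ := QuotientGroup.mk_surjective yb
      have h1 : (QuotientGroup.mk (y * y) : T ⧸ V) = QuotientGroup.mk x := by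
        rw [QuotientGroup.mk_mul]; exact hyb
      rw [QuotientGroup.eq] at h1
      have h2 : x = (y * y) * ((y * y)⁻¹ * x) := by group
      rw [h2]
      exact mul_mem (hsqc y) (hVc h1)
    have hZdvd : (Subgroup.center T).index ∣ 4 := by
      have h1 := Subgroup.index_dvd_of_le hSle
      rwa [Subgroup.index_comap_of_surjective _ (QuotientGroup.mk'_surjective V), hrange_idx] at h1
    have hZmul : Nat.card (Subgroup.center T) * (Subgroup.center T).index = Nat.card T :=
      Subgroup.card_mul_index _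
    have hZle : (Subgroup.center T).index ≤ 4 := Nat.le_of_dvd (by norm_num) hZdvd
    have hZpos : 0 < (Subgroup.center T).index := Nat.pos_of_dvd_of_pos hZdvd (by norm_num)
    -- a noncentral element
    have hnc : ∃ a : T, a ∉ Subgroup.center T := by
      by_contra h
      push Not at h
      exact hna (fun a b => (Subgroup.mem_center_iff.mp (h b) a))
    obtain ⟨a, ha⟩ := hnc
    have hA3 : Nat.card (S64.A ρ a) % 3 = 1 := Fpf3.card_mod_three hρ _ (S64.A_inv hρ a)
    have hZA : Subgroup.center T ≤ S64.A ρ a := S64.center_le_A a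
    have hAmul : Nat.card (S64.A ρ a) * (S64.A ρ a).index = Nat.card T := Subgroup.card_mul_index _
    obtain ⟨k, hk⟩ := Subgroup.card_dvd_of_le hZA
    have hzpos : 0 < Nat.card (Subgroup.center T) := Nat.card_pos
    have hAtop : S64.A ρ a ≠ ⊤ := by
      intro h
      apply hna
      intro x y
      exact S64.A_comm hρ a x (by rw [h]; exact Subgroup.mem_top _) y (by rw [h]; exact Subgroup.mem_top _)
    have hAZ : Nat.card (S64.A ρ a) ≠ Nat.card (Subgroup.center T) := by
      intro h
      have := Subgroup.eq_of_le_of_card_ge hZA (le_of_eq h)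
      apply ha
      rw [this]
      exact S64.self_mem_A a
    have hAidx : (S64.A ρ a).index ≠ 1 := fun h => hAtop (Subgroup.index_eq_one.mp h)
    have hki : k * (S64.A ρ a).index = (Subgroup.center T).index := by
      have h1 : Nat.card (Subgroup.center T) * (k * (S64.A ρ a).index) =
          Nat.card (Subgroup.center T) * (Subgroup.center T).index := by
        rw [hZmul, ← hAmul, hk]; ring
      exact Nat.eq_of_mul_eq_mul_left hzpos h1
    have hk1 : k ≠ 1 := by
      intro h; rw [h, mul_one] at hk; exact hAZ hk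
    have hkle : k ≤ 4 := by
      have : k ∣ (Subgroup.center T).index := ⟨_, hki.symm⟩
      exact le_trans (Nat.le_of_dvd hZpos this) hZle
    have hipos : 0 < (S64.A ρ a).index := by
      rcases Nat.eq_zero_or_pos (S64.A ρ a).index with h | h
      · rw [h, mul_zero] at hki; omega
      · exact h
    have hkpos : 0 < k := by
      rcases Nat.eq_zero_or_pos k with h | h
      · rw [h, zero_mul] at hki; omega
      · exact h
    have hile : (S64.A ρ a).index ≤ 4 := by
      have : (S64.A ρ a).index ∣ (Subgroup.center T).index := ⟨_, by rw [← hki]; ring⟩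
      exact le_trans (Nat.le_of_dvd hZpos this) hZle
    generalize (S64.A ρ a).index = i at *
    generalize (Subgroup.center T).index = zi at *
    generalize Nat.card (S64.A ρ a) = α at *
    generalize Nat.card (Subgroup.center T) = z at *
    generalize Nat.card T = t at *
    interval_cases k <;> interval_cases i <;> omega
  · -- case |T ⧸ V| = 64, nonabelian
    have h64 : Nat.card (T ⧸ V) = 64 := by
      rcases hIH with h | h
      · exact absurd h hab
      · exact h
    have H : S64.Hyp64 ρb := ⟨hHyp, h64, hab⟩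
    have hcenE : ∀ x : T, (QuotientGroup.mk x : T ⧸ V) ∈ Subgroup.center (T ⧸ V) → x ∈ E := by
      intro x hx
      exact (hmk x).1 ((hV'mem _).2 (S64.center_sq H hx))
    have hsqE : ∀ x : T, x * x ∈ E := by
      intro x
      apply hcenE
      rw [QuotientGroup.mk_mul]
      exact S64.sq_mem_center H _
    have hcmE : ∀ x y : T, x * y * x⁻¹ * y⁻¹ ∈ E := by
      intro x y
      apply hcenE
      have := S64.cm_mem_center H (QuotientGroup.mk x : T ⧸ V) (QuotientGroup.mk y)
      unfold S64.cm at this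
      simpa only [QuotientGroup.mk_mul, QuotientGroup.mk_inv] using this
    -- D = [T,T] V
    let S : Set T := {c | ∃ x y : T, c = x * y * x⁻¹ * y⁻¹} ∪ (V : Set T)
    have hDE : Subgroup.closure S ≤ E := by
      rw [Subgroup.closure_le]
      rintro c (⟨x, y, rfl⟩ | hc)
      · exact hcmE x y
      · exact hVE hc
    have hDZ : Subgroup.closure S ≤ Subgroup.center T := by
      rw [Subgroup.closure_le]
      rintro c (⟨x, y, rfl⟩ | hc)
      · exact hc2 x y
      · exact hVc hc
    have hVD : V ≤ Subgroup.closure S := fun v hv => Subgroup.subset_closure (Or.inr hv)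
    have hDρ : ∀ y ∈ Subgroup.closure S, ρ y ∈ Subgroup.closure S := by
      apply Fpf3.rho_mem_closure
      rintro c (⟨x, y, rfl⟩ | hc)
      · apply Subgroup.subset_closure
        left
        exact ⟨ρ x, ρ y, by simp only [map_mul, map_inv]⟩
      · exact Subgroup.subset_closure (Or.inr ((hρV c).2 hc))
    have hD3 : Nat.card (Subgroup.closure S) % 3 = 1 := Fpf3.card_mod_three hρ _ hDρ
    obtain ⟨m, hm⟩ := Subgroup.card_dvd_of_le hVD
    obtain ⟨n, hn⟩ := Subgroup.card_dvd_of_le hDE
    rw [hV4] at hm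
    rw [hE16, hm] at hn
    have hmn : m * n = 4 := by nlinarith
    have hmle : m ≤ 4 := Nat.le_of_dvd (by norm_num) ⟨n, hmn.symm⟩
    have hD16 : Nat.card (Subgroup.closure S) = 16 ∨ Nat.card (Subgroup.closure S) = 4 := by
      rw [hm] at hD3 ⊢
      interval_cases m <;> omega
    rcases hD16 with h16 | h4
    · -- D = E is central
      have hDeq : Subgroup.closure S = E := Subgroup.eq_of_le_of_card_ge hDE (by rw [h16, hE16])
      apply hab
      apply hab_of
      intro x y
      rw [hV]
      exact h52_comm_sq_of_sq_central hc2 (hDZ (by rw [hDeq]; exact hsqE x)) y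
    · -- D = V
      have hDeq : V = Subgroup.closure S := Subgroup.eq_of_le_of_card_ge hVD (by rw [h4, hV4])
      apply hab
      apply hab_of
      intro x y
      rw [hDeq]
      exact Subgroup.subset_closure (Or.inl ⟨x, y, rfl⟩)

end Cfsg.Agent.Lib.helper52.S1237
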