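import Mathlib
import Cfsg.Prelude.Def_Solvable
import Cfsg.Agent.Lib.helper38.RO1

/-!
# S4330 piece PERM : `exists_set_not_stabilized`
-/

set_option autoImplicit false
open Pointwise

namespace Cfsg.Agent.Lib.helper38.RO

universe u v

section PERM

/-- The orbit relation of a subgroup `Z` of `N` on an `N`-set. -/
def permSetoid {N : Type u} [Group N] (Z : Subgroup N) (Λ : Type v) [MulAction N Λ] :
    Setoid Λ where
  r a b := ∃ z ∈ Z, z • a = b
  iseqv := ⟨fun a => ⟨1, Z.one_mem, one_smul _ _⟩,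
    fun {a b} h => by
      obtain ⟨z, hz, h⟩ := h
      exact ⟨z⁻¹, Z.inv_mem hz, by rw [← h, inv_smul_smul]⟩,
    fun {a b c} h h' => by
      obtain ⟨z, hz, h⟩ := h
      obtain ⟨w, hw, h'⟩ := h'
      exact ⟨w * z, Z.mul_mem hw hz, by rw [mul_smul, h, h']⟩⟩

/-- The action of `N` on the set of orbits of a normal subgroup. -/
@[instance_reducible] def permQuotAction {N : Type u} [Group N] (Z : Subgroup N) (hZ : Z.Normal) (Λ : Type v)
    [MulAction N Λ] : MulAction N (Quotient (permSetoid Z Λ)) where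
  smul n := Quotient.map (fun a => n • a) (by
    rintro a b ⟨z, hz, h⟩
    refine ⟨n * z * n⁻¹, hZ.conj_mem z hz n, ?_⟩
    rw [← h, mul_smul, mul_smul, inv_smul_smul])
  one_smul := by
    intro σ
    induction σ using Quotient.inductionOn with
    | _ a =>
      show (Quotient.mk (permSetoid Z Λ) ((1 : N) • a)) = Quotient.mk (permSetoid Z Λ) a
      rw [one_smul]
  mul_smul := by
    intro m n σ
    induction σ using Quotient.inductionOn with
    | _ a =>
      show (Quotient.mk (permSetoid Z Λ) ((m * n) • a)) =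
        Quotient.mk (permSetoid Z Λ) (m • n • a)
      rw [mul_smul]

theorem exists_set_not_stabilized_aux (p : ℕ) [Fact p.Prime] {N : Type u} [Group N] [Finite N]
    (Q : Subgroup N) [Q.Normal] (hQ : IsPGroup p ↥Q) (X : Subgroup N) (hXQ : X ≤ Q) :
    ∀ (k : ℕ) (Λ : Type v) [Finite Λ] [MulAction N Λ], Nat.card Λ = k →
      (∃ x ∈ X, ∃ a : Λ, x • a ≠ a) →
      ∃ S : Set Λ, ∀ n : N, ∃ x ∈ X, ∃ s ∈ S, (n * x * n⁻¹) • s ∉ S := by
  intro k
  induction k using Nat.strong_induction_on with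
  | _ k ih =>
  intro Λ _ _ hk hX
  classical
  -- the preimage of the centre of the image of `Q`
  let Z : Subgroup N :=
    { carrier := {q | q ∈ Q ∧ ∀ q' ∈ Q, ∀ a : Λ, q • q' • a = q' • q • a}
      one_mem' := ⟨Q.one_mem, fun q' _ a => by rw [one_smul, one_smul]⟩
      mul_mem' := by
        rintro q₁ q₂ ⟨h1, h1'⟩ ⟨h2, h2'⟩
        refine ⟨Q.mul_mem h1 h2, fun q' hq' a => ?_⟩
        rw [mul_smul, h2' q' hq' a, h1' q' hq', mul_smul]
      inv_mem' := by
        rintro q ⟨h1, h1'⟩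
        refine ⟨Q.inv_mem h1, fun q' hq' a => ?_⟩
        have := h1' q' hq' (q⁻¹ • a)
        rw [smul_inv_smul] at this
        rw [← this, inv_smul_smul] }
  have hZn : Z.Normal := by
    constructor
    rintro q ⟨h1, h1'⟩ n
    refine ⟨‹Q.Normal›.conj_mem q h1 n, fun q' hq' a => ?_⟩
    have hq'' : n⁻¹ * q' * n ∈ Q := by
      have := ‹Q.Normal›.conj_mem q' hq' n⁻¹
      simpa using this
    have := h1' (n⁻¹ * q' * n) hq'' (n⁻¹ • a)
    have e1 : (n * q * n⁻¹) • q' • a = n • (q • (n⁻¹ * q' * n) • n⁻¹ • a) := by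
      simp only [mul_smul, smul_inv_smul]
    have e2 : q' • (n * q * n⁻¹) • a = n • ((n⁻¹ * q' * n) • q • n⁻¹ • a) := by
      simp only [mul_smul, smul_inv_smul]
    rw [e1, e2, this]
  -- `Z` moves a point
  have hZmove : ∃ z ∈ Z, ∃ a : Λ, z • a ≠ a := by
    let φ : ↥Q →* Equiv.Perm Λ := (MulAction.toPermHom N Λ).comp Q.subtype
    have hφ : ∀ (q : ↥Q) (a : Λ), φ q a = (q : N) • a := fun q a => rfl
    have hrp : IsPGroup p ↥φ.range := hQ.of_surjective φ.rangeRestrict φ.rangeRestrict_surjective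
    obtain ⟨x, hxX, a, hxa⟩ := hX
    have hnt : Nontrivial ↥φ.range := by
      refine ⟨⟨⟨φ ⟨x, hXQ hxX⟩, ⟨_, rfl⟩⟩, 1, ?_⟩⟩
      intro h
      have h' : φ ⟨x, hXQ hxX⟩ = 1 := congrArg Subtype.val h
      have : φ ⟨x, hXQ hxX⟩ a = a := by rw [h']; rfl
      exact hxa this
    have hcnt : Nontrivial ↥(Subgroup.center ↥φ.range) := hrp.center_nontrivial
    obtain ⟨c, hc⟩ := exists_ne (1 : ↥(Subgroup.center ↥φ.range))
    obtain ⟨q, hq⟩ := c.1.2
    have hcc := Subgroup.mem_center_iff.mp c.2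
    refine ⟨(q : N), ⟨q.2, fun q' hq' b => ?_⟩, ?_⟩
    · have h1 := hcc ⟨φ ⟨q', hq'⟩, ⟨_, rfl⟩⟩
      have h2 : φ ⟨q', hq'⟩ * φ q = φ q * φ ⟨q', hq'⟩ := by
        have := congrArg Subtype.val h1
        simpa [← hq] using this
      have h3 := congrArg (fun f : Equiv.Perm Λ => f b) h2
      simp only [Equiv.Perm.mul_apply, hφ] at h3
      exact h3.symm
    · by_contra hall
      push Not at hall
      apply hc
      apply Subtype.ext
      apply Subtype.ext
      rw [← hq]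
      ext b
      simp only [hφ, hall b]
      rfl
  -- the quotient
  let _ : MulAction N (Quotient (permSetoid Z Λ)) := permQuotAction Z hZn Λ
  have hmk : ∀ (n : N) (a : Λ), n • (Quotient.mk (permSetoid Z Λ) a) =
      Quotient.mk (permSetoid Z Λ) (n • a) := fun n a => rfl
  have hcard : Nat.card (Quotient (permSetoid Z Λ)) < Nat.card Λ := by
    haveI := Fintype.ofFinite Λ
    haveI := Fintype.ofFinite (Quotient (permSetoid Z Λ))
    rw [Nat.card_eq_fintype_card, Nat.card_eq_fintype_card]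
    apply Fintype.card_lt_of_surjective_not_injective (Quotient.mk (permSetoid Z Λ))
      Quotient.mk_surjective
    intro hinj
    obtain ⟨z, hz, a, hza⟩ := hZmove
    apply hza
    apply hinj
    exact Quotient.sound ⟨z⁻¹, Z.inv_mem hz, inv_smul_smul z a⟩
  by_cases hcase : ∃ x ∈ X, ∃ σ : Quotient (permSetoid Z Λ), x • σ ≠ σ
  · obtain ⟨S', hS'⟩ := ih _ (hk ▸ hcard) (Quotient (permSetoid Z Λ)) rfl hcase
    refine ⟨{a | Quotient.mk (permSetoid Z Λ) a ∈ S'}, fun n => ?_⟩
    obtain ⟨x, hx, σ, hσ, hn⟩ := hS' n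
    obtain ⟨a, rfl⟩ := Quotient.exists_rep σ
    exact ⟨x, hx, a, hσ, hn⟩
  · push Not at hcase
    refine ⟨Set.range (fun σ : Quotient (permSetoid Z Λ) => σ.out), ?_⟩
    by_contra hcon
    push Not at hcon
    obtain ⟨n, hn⟩ := hcon
    have key : ∀ x ∈ X, ∀ a : Λ, (n * x * n⁻¹) • a = a := by
      intro x hx a
      have hgQ : n * x * n⁻¹ ∈ Q := ‹Q.Normal›.conj_mem x (hXQ hx) n
      have hgσ : ∀ σ : Quotient (permSetoid Z Λ), (n * x * n⁻¹) • σ = σ := by
        intro σ
        rw [mul_smul, mul_smul, hcase x hx, smul_inv_smul]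
      have hgs : ∀ σ : Quotient (permSetoid Z Λ), (n * x * n⁻¹) • σ.out = σ.out := by
        intro σ
        obtain ⟨τ, hτ⟩ := hn x hx σ.out ⟨σ, rfl⟩
        have hτ' : τ.out = (n * x * n⁻¹) • σ.out := hτ
        have h1 : τ = σ := by
          have := congrArg (Quotient.mk (permSetoid Z Λ)) hτ'
          rw [Quotient.out_eq] at this
          rw [this, ← hmk, Quotient.out_eq, hgσ]
        rw [← hτ', h1]
      have hrel : (permSetoid Z Λ).r (Quotient.mk (permSetoid Z Λ) a).out a :=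
        Quotient.exact (Quotient.out_eq (Quotient.mk (permSetoid Z Λ) a))
      obtain ⟨z, hz, hza⟩ : ∃ z ∈ Z, z • (Quotient.mk (permSetoid Z Λ) a).out = a := hrel
      rw [← hza, ← hz.2 _ hgQ, hgs]
    obtain ⟨x, hx, a, hxa⟩ := hX
    apply hxa
    have := key x hx (n • a)
    rw [mul_smul, mul_smul, inv_smul_smul] at this
    exact (MulAction.injective n) this

theorem exists_set_not_stabilized (p : ℕ) [Fact p.Prime] {N : Type u} [Group N] [Finite N]
    {Λ : Type v} [Finite Λ] [MulAction N Λ]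
    (Q : Subgroup N) [Q.Normal] (hQ : IsPGroup p ↥Q) (X : Subgroup N) (hXQ : X ≤ Q)
    (hX : ∃ x ∈ X, ∃ a : Λ, x • a ≠ a) :
    ∃ S : Set Λ, ∀ n : N, ∃ x ∈ X, ∃ s ∈ S, (n * x * n⁻¹) • s ∉ S :=
  exists_set_not_stabilized_aux p Q hQ X hXQ (Nat.card Λ) Λ rfl hX

end PERM

end Cfsg.Agent.Lib.helper38.RO
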