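import Mathlib
import Cfsg.Prelude.Def_Solvable
import Cfsg.Agent.Lib.helper38.RO1
import Cfsg.Agent.Lib.helper27.Radical

/-!
# S4330 piece GRP-A : `pgroup_of_subnormal`
-/

set_option autoImplicit false
open Pointwise

namespace Cfsg.Agent.Lib.helper38.RO

theorem pgroup_of_subnormal {G : Type*} [Group G] [Finite G] (p : ℕ) [Fact p.Prime]
    (A : Subgroup G) (hA : IsPGroup p A) (g : G)
    (h : (A.subgroupOf (A ⊔ MulAut.conj g • A)).IsSubnormal) :
    IsPGroup p ↥(A ⊔ MulAut.conj g • A) := by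
  set L : Subgroup G := A ⊔ MulAut.conj g • A with hL
  have hAL : A ≤ L := le_sup_left
  have hBL : MulAut.conj g • A ≤ L := le_sup_right
  have hA' : IsPGroup p ↥(A.subgroupOf L) :=
    hA.of_equiv (Subgroup.subgroupOfEquivOfLe hAL).symm
  have hB : IsPGroup p ↥(MulAut.conj g • A) := by
    have : MulAut.conj g • A = A.map (MulAut.conj g).toMonoidHom := rfl
    rw [this]
    exact hA.map _
  have hB' : IsPGroup p ↥((MulAut.conj g • A).subgroupOf L) :=
    hB.of_equiv (Subgroup.subgroupOfEquivOfLe hBL).symm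
  have h1 : A.subgroupOf L ≤ Cfsg.pCore p ↥L :=
    Cfsg.Agent.Lib.helper27.subnormal_pGroup_le_pCore p _ h hA'
  have hcore : IsPGroup p ↥(Cfsg.pCore p ↥L) := Cfsg.Agent.Lib.helper27.pCore_isPGroup p
  have hn : (Cfsg.pCore p ↥L).Normal := Subgroup.sSup_normal _ (fun _ h => h.1)
  have h2 : IsPGroup p ↥(Cfsg.pCore p ↥L ⊔ (MulAut.conj g • A).subgroupOf L) :=
    IsPGroup.to_sup_of_normal_left hcore hB'
  have h3 : Cfsg.pCore p ↥L ⊔ (MulAut.conj g • A).subgroupOf L = ⊤ := by
    rw [eq_top_iff]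
    have h4 : A.subgroupOf L ⊔ (MulAut.conj g • A).subgroupOf L = ⊤ := by
      rw [← Subgroup.subgroupOf_sup hAL hBL]
      exact Subgroup.subgroupOf_self _
    rw [← h4]
    exact sup_le_sup_right h1 _
  rw [h3] at h2
  exact h2.of_equiv Subgroup.topEquiv

end Cfsg.Agent.Lib.helper38.RO
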