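import Mathlib
import Cfsg.Prelude.Def_Solvable
import Cfsg.Agent.Lib.helper38.RO1

/-!
# S4330 piece GRP-C : `not_dvd_card_of_pCore_eq_bot`, `centralizer_p_elements_trivial`
-/

set_option autoImplicit false
open Pointwise

namespace Cfsg.Agent.Lib.helper38.RO

/-- A normal `p`-subgroup is trivial when `O_p(G) = 1`. -/
theorem grpC_normal_pgroup_eq_bot {G : Type*} [Group G] (p : ℕ)
    (hOp : Cfsg.pCore p G = ⊥) (P : Subgroup G) (hPn : P.Normal) (hP : IsPGroup p ↥P) :
    P = ⊥ := by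
  rw [eq_bot_iff, ← hOp]
  exact le_sSup ⟨hPn, hP⟩

theorem not_dvd_card_of_pCore_eq_bot {G : Type*} [Group G] [Finite G] (p : ℕ) [Fact p.Prime]
    (hOp : Cfsg.pCore p G = ⊥) (Mn : Subgroup G) [Mn.Normal]
    (hMab : ∀ a ∈ Mn, ∀ b ∈ Mn, a * b = b * a) : ¬ p ∣ Nat.card ↥Mn := by
  intro hdvd
  -- the subgroup of `p`-elements of `Mn`
  let P : Subgroup G :=
    { carrier := {m | m ∈ Mn ∧ ∃ j : ℕ, m ^ (p ^ j) = 1}
      one_mem' := ⟨Mn.one_mem, 0, by simp⟩
      mul_mem' := by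
        rintro a b ⟨ha, j, hj⟩ ⟨hb, k, hk⟩
        refine ⟨Mn.mul_mem ha hb, j + k, ?_⟩
        have hc : Commute a b := hMab a ha b hb
        rw [hc.mul_pow, pow_add, pow_mul, hj, one_pow, mul_comm (p ^ j) (p ^ k), pow_mul, hk,
          one_pow, one_mul]
      inv_mem' := by
        rintro a ⟨ha, j, hj⟩
        exact ⟨Mn.inv_mem ha, j, by rw [inv_pow, hj, inv_one]⟩ }
  have hPn : P.Normal := by
    constructor
    rintro a ⟨ha, j, hj⟩ g
    refine ⟨‹Mn.Normal›.conj_mem a ha g, j, ?_⟩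
    rw [conj_pow, hj, mul_one, mul_inv_cancel]
  have hPp : IsPGroup p ↥P := by
    rintro ⟨a, ha, j, hj⟩
    exact ⟨j, Subtype.ext hj⟩
  have hPbot : P = ⊥ := grpC_normal_pgroup_eq_bot p hOp P hPn hPp
  obtain ⟨m, hm⟩ := exists_prime_orderOf_dvd_card' (G := ↥Mn) p hdvd
  have hmP : (m : G) ∈ P := by
    refine ⟨m.2, 1, ?_⟩
    rw [pow_one, ← Subgroup.orderOf_coe, ] at *
    rw [← hm]
    exact pow_orderOf_eq_one _
  rw [hPbot, Subgroup.mem_bot] at hmP
  have : m = 1 := Subtype.ext hmP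
  rw [this, orderOf_one] at hm
  exact (Fact.out : p.Prime).one_lt.ne hm

theorem centralizer_p_elements_trivial {G : Type*} [Group G] [Finite G] (p : ℕ) [Fact p.Prime]
    (hOp : Cfsg.pCore p G = ⊥)
    (Mn K : Subgroup G) [Mn.Normal] [K.Normal] (hMab : ∀ a ∈ Mn, ∀ b ∈ Mn, a * b = b * a)
    (hMK : Mn ≤ K) (hKp : ∀ k ∈ K, ∃ j : ℕ, k ^ (p ^ j) ∈ Mn)
    (a : G) (haK : a ∈ K) (hap : ∃ j : ℕ, a ^ (p ^ j) = 1) (hac : ∀ m ∈ Mn, a * m = m * a) :
    a = 1 := by
  classical
  let C : Subgroup G := K ⊓ Subgroup.centralizer (Mn : Set G)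
  have hCn : C.Normal := inferInstance
  have haC : a ∈ C := by
    refine ⟨haK, ?_⟩
    show a ∈ Subgroup.centralizer (Mn : Set G)
    rw [Subgroup.mem_centralizer_iff]
    intro m hm
    exact (hac m hm).symm
  -- the quotient map restricted to `C`
  let f : ↥C →* G ⧸ Mn := (QuotientGroup.mk' Mn).comp C.subtype
  have hker : f.rangeRestrict.ker ≤ Subgroup.center ↥C := by
    intro c hc
    rw [MonoidHom.ker_rangeRestrict, MonoidHom.mem_ker] at hc
    have hcM : (c : G) ∈ Mn := by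
      have : (QuotientGroup.mk' Mn) (c : G) = 1 := hc
      rwa [QuotientGroup.mk'_apply, QuotientGroup.eq_one_iff] at this
    rw [Subgroup.mem_center_iff]
    intro d
    apply Subtype.ext
    have hd : (d : G) ∈ Subgroup.centralizer (Mn : Set G) := d.2.2
    rw [Subgroup.mem_centralizer_iff] at hd
    exact (hd _ hcM).symm
  have hrange : IsPGroup p ↥f.range := by
    rintro ⟨x, c, rfl⟩
    obtain ⟨j, hj⟩ := hKp (c : G) c.2.1
    refine ⟨j, Subtype.ext ?_⟩
    have : f c ^ (p ^ j) = 1 := by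
      rw [← map_pow]
      change (QuotientGroup.mk' Mn) ((c ^ (p ^ j) : ↥C) : G) = 1
      rw [QuotientGroup.mk'_apply, QuotientGroup.eq_one_iff]
      simpa using hj
    simpa using this
  have hrnil : Group.IsNilpotent ↥f.range := hrange.isNilpotent
  have hCnil : Group.IsNilpotent ↥C := Subgroup.isNilpotent_of_ker_le_center f.rangeRestrict hker
  -- every Sylow `p`-subgroup of `C` is trivial
  have hsyl : ∀ S : Sylow p ↥C, (S : Subgroup ↥C) = ⊥ := by
    intro S
    have hSn : (S : Subgroup ↥C).Normal :=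
      Sylow.normal_of_normalizerCondition Group.normalizerCondition_of_isNilpotent S
    have hSc : (S : Subgroup ↥C).Characteristic := Sylow.characteristic_of_normal S hSn
    have hmapn : ((S : Subgroup ↥C).map C.subtype).Normal := inferInstance
    have hmapp : IsPGroup p ↥((S : Subgroup ↥C).map C.subtype) := S.isPGroup'.map _
    have hbot := grpC_normal_pgroup_eq_bot p hOp _ hmapn hmapp
    rw [eq_bot_iff]
    intro s hs
    have : (C.subtype s) ∈ (S : Subgroup ↥C).map C.subtype := Subgroup.mem_map_of_mem _ hs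
    rw [hbot, Subgroup.mem_bot] at this
    rw [Subgroup.mem_bot]
    exact Subtype.ext this
  -- `a` lies in a Sylow `p`-subgroup of `C`
  obtain ⟨j, hj⟩ := hap
  have hz : IsPGroup p ↥(Subgroup.zpowers (⟨a, haC⟩ : ↥C)) := by
    rintro ⟨x, hx⟩
    obtain ⟨n, rfl⟩ := Subgroup.mem_zpowers_iff.mp hx
    refine ⟨j, Subtype.ext ?_⟩
    apply Subtype.ext
    simp only [Subgroup.coe_pow, Subgroup.coe_zpow, Subgroup.coe_one]
    rw [← zpow_natCast, ← zpow_mul, mul_comm, zpow_mul, zpow_natCast, hj, one_zpow]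
  obtain ⟨S, hS⟩ := hz.exists_le_sylow
  have h1 : (⟨a, haC⟩ : ↥C) ∈ (S : Subgroup ↥C) := hS (Subgroup.mem_zpowers _)
  rw [hsyl S, Subgroup.mem_bot] at h1
  exact congrArg Subtype.val h1

end Cfsg.Agent.Lib.helper38.RO
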