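import Cfsg.Agent.Lib.helper95.B2Defs

/-!
# S1083 piece T5 (helper52 for helper95)
-/

set_option autoImplicit false

namespace Cfsg.Agent.Lib.helper95.B2

open Matrix Cfsg Cfsg.Lie

variable {F : Type*} [Field F]

theorem helper52_col (M : Matrix (Fin 5) (Fin 5) F) (i j : Fin 5) :
    (M *ᵥ Pi.single j 1) i = M i j := by
  simp [Matrix.mulVec, dotProduct, Pi.single_apply]

theorem helper52_Q5_add (M : Matrix (Fin 5) (Fin 5) F) (j : Fin 5) (i : Fin 5) :
    (M *ᵥ (Pi.single 0 1 + Pi.single j 1)) i = M i 0 + M i j := by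
  rw [Matrix.mulVec_add, Pi.add_apply, helper52_col, helper52_col]

theorem T5 (g : GL (Fin 5) F) (hg : g ∈ O5 F) (c : F) (hc : c ≠ 0)
    (h1 : (g : Matrix (Fin 5) (Fin 5) F) *ᵥ Pi.single 1 1 = Pi.single 1 1)
    (h3 : (g : Matrix (Fin 5) (Fin 5) F) *ᵥ Pi.single 3 1 = Pi.single 3 1)
    (h2 : (g : Matrix (Fin 5) (Fin 5) F) *ᵥ Pi.single 2 1 = Pi.single 2 c)
    (h4 : (g : Matrix (Fin 5) (Fin 5) F) *ᵥ Pi.single 4 1 = Pi.single 4 c⁻¹) :
    ∃ ε : F, ε * ε = 1 ∧ (g : Matrix (Fin 5) (Fin 5) F) = dg ε 1 c := by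
  set M : Matrix (Fin 5) (Fin 5) F := (g : Matrix (Fin 5) (Fin 5) F) with hM
  have hQ : ∀ w : Fin 5 → F, Q5 (M *ᵥ w) = Q5 w := (mem_O5 g).mp hg
  -- the columns 1..4
  have c1 : ∀ i, M i 1 = (Pi.single 1 1 : Fin 5 → F) i := fun i => by
    rw [← helper52_col M i 1, h1]
  have c3 : ∀ i, M i 3 = (Pi.single 3 1 : Fin 5 → F) i := fun i => by
    rw [← helper52_col M i 3, h3]
  have c2 : ∀ i, M i 2 = (Pi.single 2 c : Fin 5 → F) i := fun i => by
    rw [← helper52_col M i 2, h2]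
  have c4 : ∀ i, M i 4 = (Pi.single 4 c⁻¹ : Fin 5 → F) i := fun i => by
    rw [← helper52_col M i 4, h4]
  -- the quadratic relations
  have E0 : M 0 0 ^ 2 + M 1 0 * M 3 0 + M 2 0 * M 4 0 = 1 := by
    have := hQ (Pi.single 0 1)
    simp only [Q5, helper52_col] at this
    simpa using this
  have E1 : (M 0 0 + M 0 1) ^ 2 + (M 1 0 + M 1 1) * (M 3 0 + M 3 1)
      + (M 2 0 + M 2 1) * (M 4 0 + M 4 1) = 1 := by
    have := hQ (Pi.single 0 1 + Pi.single 1 1)
    simp only [Q5, helper52_Q5_add] at this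
    simpa using this
  have E3 : (M 0 0 + M 0 3) ^ 2 + (M 1 0 + M 1 3) * (M 3 0 + M 3 3)
      + (M 2 0 + M 2 3) * (M 4 0 + M 4 3) = 1 := by
    have := hQ (Pi.single 0 1 + Pi.single 3 1)
    simp only [Q5, helper52_Q5_add] at this
    simpa using this
  have E2 : (M 0 0 + M 0 2) ^ 2 + (M 1 0 + M 1 2) * (M 3 0 + M 3 2)
      + (M 2 0 + M 2 2) * (M 4 0 + M 4 2) = 1 := by
    have := hQ (Pi.single 0 1 + Pi.single 2 1)
    simp only [Q5, helper52_Q5_add] at this
    simpa using this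
  have E4 : (M 0 0 + M 0 4) ^ 2 + (M 1 0 + M 1 4) * (M 3 0 + M 3 4)
      + (M 2 0 + M 2 4) * (M 4 0 + M 4 4) = 1 := by
    have := hQ (Pi.single 0 1 + Pi.single 4 1)
    simp only [Q5, helper52_Q5_add] at this
    simpa using this
  simp only [c1, c2, c3, c4] at E1 E2 E3 E4
  simp at E1 E2 E3 E4
  have v3 : M 3 0 = 0 := by linear_combination E1 - E0
  have v1 : M 1 0 = 0 := by linear_combination E3 - E0
  have v4 : M 4 0 = 0 := by
    have : c * M 4 0 = 0 := by linear_combination E2 - E0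
    rcases mul_eq_zero.mp this with h | h
    · exact absurd h hc
    · exact h
  have v2 : M 2 0 = 0 := by
    have : M 2 0 * c⁻¹ = 0 := by linear_combination E4 - E0
    rcases mul_eq_zero.mp this with h | h
    · exact h
    · exact absurd h (inv_ne_zero hc)
  refine ⟨M 0 0, ?_, ?_⟩
  · rw [v1, v2] at E0
    linear_combination E0
  · ext i j
    fin_cases i <;> fin_cases j <;>
      simp [dg, c1, c2, c3, c4, v1, v2, v3, v4]

end Cfsg.Agent.Lib.helper95.B2
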