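import Mathlib
import Cfsg.Agent.Lib.helper44.ReeOutB
import Cfsg.Agent.S1069

/-! S2113: the subgroup `{U(t,u,v)}` of the small Ree group has index prime to 3. -/

set_option autoImplicit false

namespace Cfsg.Agent.Lib.helper52.S2113

open Cfsg Cfsg.Lie Cfsg.Agent.Lib.helper44 Cfsg.Agent.Lib.helper23

/-- The unipotent subgroup `P = {U(t,u,v)}` of `²G₂(q)` and `3 ∤ |G : P|`. -/
theorem helper52_ree_syl3 {K : Type*} [Field K] [Fintype K] {m : ℕ}
    (hK : Fintype.card K = 3 ^ (2 * m + 1)) :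
    ∃ P : Subgroup ↥(twistedG2 K (3 ^ m)),
      (∀ g, g ∈ P ↔ ∃ t u v, g = uEl (3 ^ m) t u v) ∧ ¬ 3 ∣ P.index := by
  classical
  obtain ⟨R⟩ := exists_reeData hK
  let P : Subgroup ↥(twistedG2 K (3 ^ m)) :=
    (chevG2.posUnipotent K).comap (twistedG2 K (3 ^ m)).subtype
  have hmem : ∀ g, g ∈ P ↔ ∃ t u v, g = uEl (3 ^ m) t u v := by
    intro g
    constructor
    · intro hg
      exact exists_uEl R (Subgroup.mem_comap.mp hg)
    · rintro ⟨t, u, v, rfl⟩
      exact Subgroup.mem_comap.mpr (uEl_pos R t u v)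
  refine ⟨P, hmem, ?_⟩
  -- the cardinality of `P`
  have hcardP : Nat.card P = (3 ^ (2 * m + 1)) ^ 3 := by
    let φ : K × K × K → P := fun x =>
      ⟨uEl (3 ^ m) x.1 x.2.1 x.2.2, (hmem _).mpr ⟨x.1, x.2.1, x.2.2, rfl⟩⟩
    have hφ : Function.Bijective φ := by
      constructor
      · rintro ⟨t, u, v⟩ ⟨t', u', v'⟩ h
        have h1 : uEl (3 ^ m) t u v = uEl (3 ^ m) t' u' v' := congrArg Subtype.val h
        obtain ⟨rfl, rfl, rfl⟩ := uEl_inj R h1
        rfl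
      · rintro ⟨g, hg⟩
        obtain ⟨t, u, v, rfl⟩ := (hmem g).mp hg
        exact ⟨(t, u, v), rfl⟩
    rw [← Nat.card_congr (Equiv.ofBijective φ hφ), Nat.card_prod, Nat.card_prod,
      Nat.card_eq_fintype_card, hK]
    ring
  have hG := Cfsg.Agent.S1069.result hK
  have hidx := P.card_mul_index
  rw [hcardP, hG] at hidx
  have hq : 0 < (3 ^ (2 * m + 1)) ^ 3 := by positivity
  have hidx' : P.index = (3 ^ (2 * m + 1) - 1) * ((3 ^ (2 * m + 1)) ^ 3 + 1) := by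
    apply Nat.eq_of_mul_eq_mul_left hq
    rw [hidx]
    ring
  rw [hidx']
  intro h3
  have h3q : 3 ∣ 3 ^ (2 * m + 1) := dvd_pow_self 3 (by omega)
  rcases (Nat.Prime.dvd_mul Nat.prime_three).mp h3 with h | h
  · obtain ⟨k, hk⟩ := h3q
    have hpos : 0 < 3 ^ (2 * m + 1) := by positivity
    rw [hk] at h hpos
    omega
  · have h3q3 : 3 ∣ (3 ^ (2 * m + 1)) ^ 3 := dvd_pow h3q (by norm_num)
    have : 3 ∣ 1 := (Nat.dvd_add_right h3q3).mp h
    omega

end Cfsg.Agent.Lib.helper52.S2113
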