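import Mathlib
import Cfsg.Agent.Lib.helper51.S2113Defs
import Cfsg.Agent.Lib.helper44.ReeOutB

/-! S2113: the unipotent subgroup `{U(t,u,v)}` of the small Ree group is an instance of helper51's `UData`. -/

set_option autoImplicit false

namespace Cfsg.Agent.Lib.helper52.S2113

open Cfsg Cfsg.Lie Cfsg.Agent.Lib.helper44 Cfsg.Agent.Lib.helper23

/-- The `UData` of the small Ree group from a `ReeData`. -/
theorem helper52_ree_udata_of {K : Type*} [Field K] {e : ℕ} (R : ReeData K e) :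
    Cfsg.Agent.Lib.helper51.S2113.UData K ↥(twistedG2 K e) (uEl e) e
      (fun t t' => -(t * (t' ^ e) ^ 3)) := by
  have hinj : ∀ x y : K, x ^ e = y ^ e → x = y := by
    intro x y h
    rw [← R.hφ x, ← R.hφ y, h]
  have he0 : e ≠ 0 := by
    rintro rfl
    exact absurd R.hodd (by decide)
  refine ⟨?_, ?_, ?_, ?_, ?_, ?_, R.hφ, ?_⟩
  · exact fun t u v w => uEl_mul_top R t u v w
  · intro t u v w
    rw [uEl_top_comm R w (uEl_pos R t u v)]
    exact uEl_mul_top R t u v w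
  · exact fun u u' => uEl_mid_add R u u'
  · intro t u v t' u' v'
    have h1 := uEl_pos R t u v
    have h2 := uEl_pos R t' u' v'
    have h12 : ((uEl e t u v * uEl e t' u' v' : ↥(twistedG2 K e)) : GL chevG2.Idx K) ∈
        chevG2.posUnipotent K := by
      rw [Subgroup.coe_mul]
      exact mul_mem h1 h2
    obtain ⟨t'', u'', v'', hg⟩ := exists_uEl R h12
    obtain ⟨-, hb, hs⟩ := coords_uEl e t u v
    obtain ⟨ha, -, -⟩ := coords_uEl e t u v
    obtain ⟨-, hb', hs'⟩ := coords_uEl e t' u' v'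
    obtain ⟨-, hb'', hs''⟩ := coords_uEl e t'' u'' v''
    have e1 : reeB ((uEl e t'' u'' v'' : ↥(twistedG2 K e)) : GL chevG2.Idx K) =
        reeB ((uEl e t u v : ↥(twistedG2 K e)) : GL chevG2.Idx K) +
          reeB ((uEl e t' u' v' : ↥(twistedG2 K e)) : GL chevG2.Idx K) := by
      rw [← hg, Subgroup.coe_mul]
      exact reeB_mul h1 h2
    have e2 : reeS ((uEl e t'' u'' v'' : ↥(twistedG2 K e)) : GL chevG2.Idx K) =
        reeS ((uEl e t u v : ↥(twistedG2 K e)) : GL chevG2.Idx K) +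
          reeA ((uEl e t u v : ↥(twistedG2 K e)) : GL chevG2.Idx K) *
            reeB ((uEl e t' u' v' : ↥(twistedG2 K e)) : GL chevG2.Idx K) +
          reeS ((uEl e t' u' v' : ↥(twistedG2 K e)) : GL chevG2.Idx K) := by
      rw [← hg, Subgroup.coe_mul]
      exact reeS_mul h1 h2
    rw [hb'', hb, hb'] at e1
    rw [hs'', hs, ha, hb', hs'] at e2
    have ht : t'' = t + t' := by linear_combination -e1
    have hu : u'' = u + u' + -(t * (t' ^ e) ^ 3) := by
      apply hinj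
      rw [R.hadd, R.hadd, Odd.neg_pow R.hodd, mul_pow, ← pow_mul, mul_comm 3 e, pow_mul, R.hφ]
      linear_combination -e2
    exact ⟨v'', by rw [hg, ht, hu]⟩
  · intro t
    simp [zero_pow he0]
  · intro t
    simp
  · intro ν hν
    have hne : ν ^ 2 * (ν ^ e) ^ 3 ≠ 0 :=
      mul_ne_zero (pow_ne_zero _ hν) (pow_ne_zero _ (pow_ne_zero _ hν))
    obtain ⟨h, hh, hent⟩ := exists_tor R (ν ^ 2 * (ν ^ e) ^ 3) hne
    refine ⟨h, fun t u v => ?_⟩
    rw [tor_conj R hh t u v, hent, k6_param R ν]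
    have hk : k10 e (ν ^ 2 * (ν ^ e) ^ 3) = ν * (ν ^ e) ^ 3 := by
      unfold k10
      have h1 := R.hφ ν
      have e1 : ((ν ^ 2 * (ν ^ e) ^ 3) ^ e) ^ 3 = (ν ^ e) ^ 6 * ν ^ 3 := by
        calc ((ν ^ 2 * (ν ^ e) ^ 3) ^ e) ^ 3 = (ν ^ e) ^ 6 * (((ν ^ e) ^ e) ^ 3) ^ 3 := by ring
          _ = (ν ^ e) ^ 6 * ν ^ 3 := by rw [h1]
      rw [e1]
      have hne' : ν ^ e ≠ 0 := pow_ne_zero _ hν
      field_simp
    rw [hk]

/-- The `UData` of the small Ree group over a field of order `3^(2m+1)`. -/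
theorem helper52_ree_udata {K : Type*} [Field K] [Fintype K] {m : ℕ}
    (hK : Fintype.card K = 3 ^ (2 * m + 1)) :
    Cfsg.Agent.Lib.helper51.S2113.UData K ↥(twistedG2 K (3 ^ m)) (uEl (3 ^ m)) (3 ^ m)
      (fun t t' => -(t * (t' ^ 3 ^ m) ^ 3)) := by
  obtain ⟨R⟩ := exists_reeData hK
  exact helper52_ree_udata_of R

end Cfsg.Agent.Lib.helper52.S2113
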