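import Mathlib
import Cfsg.Agent.Lib.helper52.S2113UD
import Cfsg.Agent.Lib.helper52.S2113SYL3

/-! S2113: the three MODEL pieces (MMUL, MTOR, SYL3) with the exact statements of `tools/S2113_SPEC.md`. -/

set_option autoImplicit false

namespace Cfsg.Agent.Lib.helper52.S2113

open Cfsg Cfsg.Lie Cfsg.Agent.Lib.helper23 Cfsg.Agent.Lib.helper44

/-- PIECE MMUL. -/
theorem helper52_model_mul {K : Type*} [Field K] {e : ℕ} (R : ReeData K e) (t u v t' u' v' : K) :
    ∃ w, uEl e t u v * uEl e t' u' v' = uEl e (t + t') (u + u' + -(t * (t' ^ e) ^ 3)) w :=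
  (helper52_ree_udata_of R).mul t u v t' u' v'

/-- PIECE MTOR. -/
theorem helper52_model_tor {K : Type*} [Field K] {e : ℕ} (R : ReeData K e) (ν : K) (hν : ν ≠ 0) :
    ∃ h : ↥(twistedG2 K e), ∀ t u v,
      h * uEl e t u v * h⁻¹ = uEl e (ν * t) (ν * (ν ^ e) ^ 3 * u) (ν ^ 2 * (ν ^ e) ^ 3 * v) :=
  (helper52_ree_udata_of R).tor ν hν

/-- PIECE SYL3. -/
theorem helper52_syl3 {K : Type*} [Field K] [Fintype K] {m : ℕ} (hm : 1 ≤ m)
    (hK : Fintype.card K = 3 ^ (2 * m + 1)) :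
    ¬ 3 ∣ ((chevG2.posUnipotent K).subgroupOf (twistedG2 K (3 ^ m))).index := by
  classical
  obtain ⟨R⟩ := exists_reeData hK
  have hmem : ∀ g : ↥(twistedG2 K (3 ^ m)),
      g ∈ (chevG2.posUnipotent K).subgroupOf (twistedG2 K (3 ^ m)) ↔
        ∃ t u v, g = uEl (3 ^ m) t u v := by
    intro g
    constructor
    · intro hg
      exact exists_uEl R (Subgroup.mem_subgroupOf.mp hg)
    · rintro ⟨t, u, v, rfl⟩
      exact Subgroup.mem_subgroupOf.mpr (uEl_pos R t u v)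
  have hcardP : Nat.card ((chevG2.posUnipotent K).subgroupOf (twistedG2 K (3 ^ m))) =
      (3 ^ (2 * m + 1)) ^ 3 := by
    let φ : K × K × K → ((chevG2.posUnipotent K).subgroupOf (twistedG2 K (3 ^ m))) := fun x =>
      ⟨uEl (3 ^ m) x.1 x.2.1 x.2.2, (hmem _).mpr ⟨x.1, x.2.1, x.2.2, rfl⟩⟩
    have hφ : Function.Bijective φ := by
      constructor
      · rintro ⟨t, u, v⟩ ⟨t', u', v'⟩ h
        have h1 : uEl (3 ^ m) t u v = uEl (3 ^ m) t' u' v' := congrArg Subtype.val h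
        obtain ⟨rfl, rfl, rfl⟩ := uEl_inj R h1
        rfl
      · rintro ⟨g, hg⟩
        obtain ⟨t, u, v, rfl⟩ := (hmem g).mp hg
        exact ⟨(t, u, v), rfl⟩
    rw [← Nat.card_congr (Equiv.ofBijective φ hφ), Nat.card_prod, Nat.card_prod,
      Nat.card_eq_fintype_card, hK]
    ring
  have hG := Cfsg.Agent.S1069.result hK
  have hidx := ((chevG2.posUnipotent K).subgroupOf (twistedG2 K (3 ^ m))).card_mul_index
  rw [hcardP, hG] at hidx
  have hq : 0 < (3 ^ (2 * m + 1)) ^ 3 := by positivity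
  have hidx' : ((chevG2.posUnipotent K).subgroupOf (twistedG2 K (3 ^ m))).index =
      (3 ^ (2 * m + 1) - 1) * ((3 ^ (2 * m + 1)) ^ 3 + 1) := by
    apply Nat.eq_of_mul_eq_mul_left hq
    rw [hidx]
    ring
  rw [hidx']
  intro h3
  have h3q : 3 ∣ 3 ^ (2 * m + 1) := dvd_pow_self 3 (by omega)
  rcases (Nat.Prime.dvd_mul Nat.prime_three).mp h3 with h | h
  · obtain ⟨k, hk⟩ := h3q
    have hpos : 0 < 3 ^ (2 * m + 1) := by positivity
    rw [hk] at h hpos
    omega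
  · have h3q3 : 3 ∣ (3 ^ (2 * m + 1)) ^ 3 := dvd_pow h3q (by norm_num)
    have : 3 ∣ 1 := (Nat.dvd_add_right h3q3).mp h
    omega

end Cfsg.Agent.Lib.helper52.S2113
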