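import Mathlib
import Cfsg.Agent.Lib.helper14.ZJ

/-!
# An axiomatic form of Glauberman's ZJ-theorem (helper52)

`AxFam S 𝒜`: `𝒜` is a nonempty family of abelian subgroups of the `p`-subgroup `S` of `G`,
invariant (for every `Q ≤ S` containing a member, `N_G(Q)` maps the intersection of the members
inside `Q` into itself) and with the replacement property for subgroups of class at most two.

`axFam_normal`: if `G` is `p`-stable on its normal `p`-subgroups and `C_G(O_p(G)) ≤ O_p(G)`, then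
the intersection `sInf 𝒜` of the family is normal in `G`.
-/

set_option autoImplicit false

namespace Cfsg.Agent.Lib.helper52

open Subgroup Cfsg.Agent.Lib.helper40 Cfsg.Agent.Lib.helper14
open scoped commutatorElement

section axzj

variable {G : Type*} [Group G]

/-- hypotheses on an axiomatic family of abelian subgroups of a subgroup `S` -/
structure AxFam (S : Subgroup G) (𝒜 : Set (Subgroup G)) : Prop where
  le : ∀ A ∈ 𝒜, A ≤ S
  comm : ∀ A ∈ 𝒜, ∀ x ∈ A, ∀ y ∈ A, x * y = y * x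
  ne : 𝒜.Nonempty
  inv : ∀ Q : Subgroup G, Q ≤ S → (∃ A ∈ 𝒜, A ≤ Q) → ∀ g ∈ Subgroup.normalizer (Q : Set G),
    ∀ x : G, (∀ A ∈ 𝒜, A ≤ Q → x ∈ A) → ∀ A ∈ 𝒜, A ≤ Q → g * x * g⁻¹ ∈ A
  rep : ∀ B : Subgroup G, B ≤ S → ⁅⁅B, B⁆, B⁆ = ⊥ → (∃ A ∈ 𝒜, ⁅B, B⁆ ≤ A ∧ ¬ B ≤ A) →
    ∃ A ∈ 𝒜, ⁅B, B⁆ ≤ A ∧ ¬ B ≤ A ∧ B ≤ Subgroup.normalizer (A : Set G)

theorem AxFam.sInf_le_top {S : Subgroup G} {𝒜 : Set (Subgroup G)} (h : AxFam S 𝒜) :
    sInf 𝒜 ≤ S := by
  obtain ⟨A, hA⟩ := h.ne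
  exact (sInf_le hA).trans (h.le A hA)

theorem AxFam.sInf_comm {S : Subgroup G} {𝒜 : Set (Subgroup G)} (h : AxFam S 𝒜) :
    ∀ x ∈ sInf 𝒜, ∀ y ∈ sInf 𝒜, x * y = y * x := by
  obtain ⟨A, hA⟩ := h.ne
  intro x hx y hy
  exact h.comm A hA x (sInf_le hA hx) y (sInf_le hA hy)

theorem AxFam.conj_mem {S : Subgroup G} {𝒜 : Set (Subgroup G)} (h : AxFam S 𝒜) :
    ∀ s ∈ S, ∀ z ∈ sInf 𝒜, s * z * s⁻¹ ∈ sInf 𝒜 := by
  intro s hs z hz
  rw [Subgroup.mem_sInf] at hz ⊢
  intro A hA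
  obtain ⟨A₁, hA₁⟩ := h.ne
  exact h.inv S le_rfl ⟨A₁, hA₁, h.le A₁ hA₁⟩ s (Subgroup.le_normalizer hs) z
    (fun A' hA' _ => hz A' hA') A hA (h.le A hA)

/-- quadratic action of the members of an abelian subgroup normalized by `B` -/
theorem quadratic_of_le_normalizer' {A₀ B : Subgroup G}
    (hA₀ : ∀ x ∈ A₀, ∀ y ∈ A₀, x * y = y * x)
    (hBN : B ≤ Subgroup.normalizer (A₀ : Set G)) {a : G} (ha : a ∈ A₀) :
    ⁅⁅B, Subgroup.zpowers a⁆, Subgroup.zpowers a⁆ = ⊥ := by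
  have hza : Subgroup.zpowers a ≤ A₀ := (Subgroup.zpowers_le).mpr ha
  have h1 : ⁅B, Subgroup.zpowers a⁆ ≤ A₀ := by
    rw [Subgroup.commutator_le]
    intro b hb x hx
    have h2 : b * x * b⁻¹ ∈ A₀ := (Subgroup.mem_normalizer_iff.mp (hBN hb) x).mp (hza hx)
    rw [commutatorElement_def]
    exact A₀.mul_mem h2 (A₀.inv_mem (hza hx))
  rw [eq_bot_iff, Subgroup.commutator_le]
  intro u hu v hv
  rw [Subgroup.mem_bot, commutatorElement_eq_one_iff_commute]
  exact hA₀ u (h1 hu) v (hza hv)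

variable [Finite G] {p : ℕ} [Fact p.Prime]

theorem axFam_inf_normal_aux (S : Sylow p G) (𝒜 : Set (Subgroup G))
    (h𝒜 : AxFam (S : Subgroup G) 𝒜)
    (hst : ∀ (P : Subgroup G) [P.Normal], IsPGroup p P → Cfsg.IsPStableOn p P) :
    ∀ (n : ℕ) (B : Subgroup G), B.Normal → IsPGroup p B → Nat.card B = n →
      (sInf 𝒜 ⊓ B).Normal := by
  intro n
  induction n using Nat.strong_induction_on with
  | _ n ih =>
    intro B hBn hBp hcard
    have hBS : B ≤ S := normal_pgroup_le_sylow hBn hBp S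
    have hSZ : ∀ s ∈ (S : Subgroup G), ∀ z ∈ sInf 𝒜, s * z * s⁻¹ ∈ sInf 𝒜 := h𝒜.conj_mem
    have hZcomm := h𝒜.sInf_comm
    by_cases hB1 : B = ⊥
    · rw [hB1, inf_bot_eq]; infer_instance
    have hMB : Subgroup.normalClosure ((sInf 𝒜 ⊓ B : Subgroup G) : Set G) ≤ B :=
      Subgroup.normalClosure_le_normal inf_le_right
    have hMn : (Subgroup.normalClosure ((sInf 𝒜 ⊓ B : Subgroup G) : Set G)).Normal :=
      Subgroup.normalClosure_normal
    by_cases hM : Subgroup.normalClosure ((sInf 𝒜 ⊓ B : Subgroup G) : Set G) = B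
    · -- the main case
      have hB'n : (⁅B, B⁆).Normal := inferInstance
      have hB'lt : ⁅B, B⁆ < B := commutator_lt_of_isPGroup hBn hBp hB1
      have hWn : (sInf 𝒜 ⊓ ⁅B, B⁆).Normal :=
        ih _ (hcard ▸ card_lt_of_lt' hB'lt) ⁅B, B⁆ hB'n (hBp.to_le hB'lt.le) rfl
      have hBmapn : (B.map (QuotientGroup.mk' (sInf 𝒜 ⊓ ⁅B, B⁆))).Normal :=
        hBn.map _ (QuotientGroup.mk'_surjective _)
      have hKn : (B ⊓ (Subgroup.centralizer ((B.map (QuotientGroup.mk' (sInf 𝒜 ⊓ ⁅B, B⁆)) :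
          Subgroup (G ⧸ (sInf 𝒜 ⊓ ⁅B, B⁆))) : Set (G ⧸ (sInf 𝒜 ⊓ ⁅B, B⁆)))).comap
            (QuotientGroup.mk' (sInf 𝒜 ⊓ ⁅B, B⁆))).Normal := inferInstance
      have hZ₁K : sInf 𝒜 ⊓ B ≤
          B ⊓ (Subgroup.centralizer ((B.map (QuotientGroup.mk' (sInf 𝒜 ⊓ ⁅B, B⁆)) :
          Subgroup (G ⧸ (sInf 𝒜 ⊓ ⁅B, B⁆))) : Set (G ⧸ (sInf 𝒜 ⊓ ⁅B, B⁆)))).comap
            (QuotientGroup.mk' (sInf 𝒜 ⊓ ⁅B, B⁆)) := by
        intro z hz
        refine Subgroup.mem_inf.mpr ⟨hz.2, ?_⟩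
        rw [Subgroup.mem_comap, Subgroup.mem_centralizer_iff]
        rintro _ ⟨y, hy, rfl⟩
        rw [← map_mul, ← map_mul, QuotientGroup.mk'_apply, QuotientGroup.mk'_apply, QuotientGroup.eq]
        have e1 : (y * z)⁻¹ * (z * y) = ⁅z⁻¹, y⁻¹⁆ := by
          rw [commutatorElement_def]; group
        have e2 : (y * z)⁻¹ * (z * y) = z⁻¹ * (y⁻¹ * z * y⁻¹⁻¹) := by group
        refine ⟨?_, ?_⟩
        · rw [e2]
          exact Subgroup.mul_mem _ (Subgroup.inv_mem _ hz.1)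
            (hSZ y⁻¹ (Subgroup.inv_mem _ (hBS hy)) z hz.1)
        · rw [e1]
          exact Subgroup.commutator_mem_commutator (B.inv_mem hz.2) (B.inv_mem hy)
      have hBK : B ≤ B ⊓ (Subgroup.centralizer ((B.map (QuotientGroup.mk' (sInf 𝒜 ⊓ ⁅B, B⁆)) :
          Subgroup (G ⧸ (sInf 𝒜 ⊓ ⁅B, B⁆))) : Set (G ⧸ (sInf 𝒜 ⊓ ⁅B, B⁆)))).comap
            (QuotientGroup.mk' (sInf 𝒜 ⊓ ⁅B, B⁆)) :=
        le_of_eq_of_le hM.symm (Subgroup.normalClosure_le_normal hZ₁K)
      have hBBW : ⁅B, B⁆ ≤ sInf 𝒜 ⊓ ⁅B, B⁆ := by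
        rw [Subgroup.commutator_le]
        intro x hx y hy
        have hxK := (Subgroup.mem_inf.mp (hBK hx)).2
        rw [Subgroup.mem_comap, Subgroup.mem_centralizer_iff] at hxK
        have h1 := hxK _ ⟨y, hy, rfl⟩
        rw [← QuotientGroup.eq_one_iff, ← QuotientGroup.mk'_apply, commutatorElement_def]
        simp only [map_mul, map_inv]
        rw [← h1]
        group
      have hBBZ : ⁅B, B⁆ ≤ sInf 𝒜 := hBBW.trans inf_le_left
      -- `B` has class at most two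
      have hcl : ⁅⁅B, B⁆, B⁆ = ⊥ := by
        rw [Subgroup.commutator_eq_bot_iff_le_centralizer, Subgroup.le_centralizer_iff]
        have h1 : sInf 𝒜 ⊓ B ≤ Subgroup.centralizer ((sInf 𝒜 ⊓ ⁅B, B⁆ : Subgroup G) : Set G) := by
          intro z hz
          rw [Subgroup.mem_centralizer_iff]
          intro y hy
          exact hZcomm y hy.1 z hz.1
        have h2 : B ≤ Subgroup.centralizer ((sInf 𝒜 ⊓ ⁅B, B⁆ : Subgroup G) : Set G) :=
          le_of_eq_of_le hM.symm (Subgroup.normalClosure_le_normal h1)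
        exact h2.trans (Subgroup.centralizer_le hBBW)
      have hBZ : B ≤ sInf 𝒜 := by
        by_contra hnot
        have hex : ∃ U ∈ 𝒜, ¬ B ≤ U := by
          by_contra h
          apply hnot
          apply le_sInf
          intro U hU
          by_contra hBU
          exact h ⟨U, hU, hBU⟩
        obtain ⟨U, hUF, hBU⟩ := hex
        obtain ⟨A₀, hA₀F, hA₀1, hA₀2, hA₀3⟩ := h𝒜.rep B hBS hcl
          ⟨U, hUF, hBBZ.trans (sInf_le hUF), hBU⟩
        have hLn : ((Cfsg.pCore p (G ⧸ Subgroup.centralizer (B : Set G))).comap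
            (QuotientGroup.mk' (Subgroup.centralizer (B : Set G)))).Normal := by
          have := pCore_normal' p (G ⧸ Subgroup.centralizer (B : Set G))
          infer_instance
        have hA₀L : A₀ ≤ (Cfsg.pCore p (G ⧸ Subgroup.centralizer (B : Set G))).comap
            (QuotientGroup.mk' (Subgroup.centralizer (B : Set G))) := by
          intro a ha
          exact hst B hBp a (quadratic_of_le_normalizer' (h𝒜.comm A₀ hA₀F) hA₀3 ha)
        have hfr2 := frattini_pCore_quotient (Subgroup.centralizer (B : Set G)) S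
        have hA₀T : A₀ ≤ (S : Subgroup G) ⊓ (Cfsg.pCore p (G ⧸ Subgroup.centralizer (B : Set G))).comap
            (QuotientGroup.mk' (Subgroup.centralizer (B : Set G))) := le_inf (h𝒜.le A₀ hA₀F) hA₀L
        have hTS : (S : Subgroup G) ⊓ (Cfsg.pCore p (G ⧸ Subgroup.centralizer (B : Set G))).comap
            (QuotientGroup.mk' (Subgroup.centralizer (B : Set G))) ≤ (S : Subgroup G) := inf_le_left
        generalize (S : Subgroup G) ⊓ (Cfsg.pCore p (G ⧸ Subgroup.centralizer (B : Set G))).comap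
            (QuotientGroup.mk' (Subgroup.centralizer (B : Set G))) = T at hfr2 hA₀T hTS
        have hZZ₂ : sInf 𝒜 ≤ sInf {A : Subgroup G | A ∈ 𝒜 ∧ A ≤ T} :=
          sInf_le_sInf (fun A hA => hA.1)
        have hZ₂A₀ : sInf {A : Subgroup G | A ∈ 𝒜 ∧ A ≤ T} ≤ A₀ := sInf_le ⟨hA₀F, hA₀T⟩
        have hZ₂Bn : (sInf {A : Subgroup G | A ∈ 𝒜 ∧ A ≤ T} ⊓ B).Normal := by
          rw [← Subgroup.normalizer_eq_top_iff]
          apply top_unique
          rw [← hfr2]
          apply sup_le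
          · intro g hg
            refine mem_normalizer_inf ?_
              (by rw [Subgroup.normalizer_eq_top_iff.mpr hBn]; trivial)
            apply mem_normalizer_of_map_conj_le
            rintro _ ⟨x, hx, rfl⟩
            show (MulAut.conj g) x ∈ sInf {A : Subgroup G | A ∈ 𝒜 ∧ A ≤ T}
            rw [MulAut.conj_apply]
            have hx' : x ∈ sInf {A : Subgroup G | A ∈ 𝒜 ∧ A ≤ T} := hx
            rw [Subgroup.mem_sInf] at hx' ⊢
            intro A hA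
            exact h𝒜.inv T hTS ⟨A₀, hA₀F, hA₀T⟩ g hg x
              (fun A' hA' hA'T => hx' A' ⟨hA', hA'T⟩) A hA.1 hA.2
          · intro c hc
            apply mem_normalizer_of_map_conj_le
            rintro _ ⟨x, hx, rfl⟩
            have h1 : x * c = c * x := Subgroup.mem_centralizer_iff.mp hc x hx.2
            have h2 : c * x * c⁻¹ = x := by rw [← h1]; group
            show (MulAut.conj c) x ∈ sInf {A : Subgroup G | A ∈ 𝒜 ∧ A ≤ T} ⊓ B
            rw [MulAut.conj_apply, h2]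
            exact hx
        have hfin : B ≤ sInf {A : Subgroup G | A ∈ 𝒜 ∧ A ≤ T} ⊓ B :=
          le_of_eq_of_le hM.symm (Subgroup.normalClosure_le_normal (inf_le_inf_right B hZZ₂))
        exact hA₀2 (hfin.trans (inf_le_left.trans hZ₂A₀))
      have : sInf 𝒜 ⊓ B = B := inf_eq_right.mpr hBZ
      rw [this]; exact hBn
    · have hlt : Subgroup.normalClosure ((sInf 𝒜 ⊓ B : Subgroup G) : Set G) < B :=
        lt_of_le_of_ne hMB hM
      have h1 := ih _ (hcard ▸ card_lt_of_lt' hlt) _ hMn (hBp.to_le hMB) rfl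
      have h2 : sInf 𝒜 ⊓
          Subgroup.normalClosure ((sInf 𝒜 ⊓ B : Subgroup G) : Set G) =
            sInf 𝒜 ⊓ B :=
        le_antisymm (inf_le_inf_left _ hMB) (le_inf inf_le_left Subgroup.le_normalClosure)
      rw [← h2]; exact h1

theorem axFam_le_pCore (S : Sylow p G) (𝒜 : Set (Subgroup G)) (h𝒜 : AxFam (S : Subgroup G) 𝒜)
    (hc : Subgroup.centralizer (Cfsg.pCore p G : Set G) ≤ Cfsg.pCore p G)
    (hst : ∀ (P : Subgroup G) [P.Normal], IsPGroup p P → Cfsg.IsPStableOn p P) :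
    sInf 𝒜 ≤ Cfsg.pCore p G := by
  have hQn : (Cfsg.pCore p G).Normal := pCore_normal' p G
  have hQp : IsPGroup p ↥(Cfsg.pCore p G) := pCore_isPGroup p G
  have hQS : Cfsg.pCore p G ≤ S := Cfsg.Agent.Lib.helper55.pCore_le_sylow S
  have hLn : ((Cfsg.pCore p (G ⧸ Subgroup.centralizer (Cfsg.pCore p G : Set G))).comap
      (QuotientGroup.mk' (Subgroup.centralizer (Cfsg.pCore p G : Set G)))).Normal := by
    have := pCore_normal' p (G ⧸ Subgroup.centralizer (Cfsg.pCore p G : Set G))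
    infer_instance
  have hLp : IsPGroup p ↥((Cfsg.pCore p (G ⧸ Subgroup.centralizer (Cfsg.pCore p G : Set G))).comap
      (QuotientGroup.mk' (Subgroup.centralizer (Cfsg.pCore p G : Set G)))) := by
    apply IsPGroup.comap_of_ker_isPGroup (pCore_isPGroup p _)
    rw [QuotientGroup.ker_mk']
    exact hQp.to_le hc
  have hLQ := le_pCore _ hLn hLp
  intro z hz
  apply hLQ
  show (QuotientGroup.mk z : G ⧸ Subgroup.centralizer (Cfsg.pCore p G : Set G)) ∈
    Cfsg.pCore p (G ⧸ Subgroup.centralizer (Cfsg.pCore p G : Set G))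
  apply hst (Cfsg.pCore p G) hQp z
  have hzz : Subgroup.zpowers z ≤ sInf 𝒜 := (Subgroup.zpowers_le).mpr hz
  have h1 : ⁅Cfsg.pCore p G, Subgroup.zpowers z⁆ ≤ sInf 𝒜 := by
    rw [Subgroup.commutator_le]
    intro q hq x hx
    rw [commutatorElement_def]
    exact Subgroup.mul_mem _ (h𝒜.conj_mem q (hQS hq) x (hzz hx))
      (Subgroup.inv_mem _ (hzz hx))
  rw [eq_bot_iff, Subgroup.commutator_le]
  intro u hu v hv
  rw [Subgroup.mem_bot, commutatorElement_eq_one_iff_commute]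
  exact h𝒜.sInf_comm u (h1 hu) v (hzz hv)

/-- **Axiomatic ZJ-theorem**: the intersection of the family is normal. -/
theorem axFam_normal (S : Sylow p G) (𝒜 : Set (Subgroup G)) (h𝒜 : AxFam (S : Subgroup G) 𝒜)
    (hc : Subgroup.centralizer (Cfsg.pCore p G : Set G) ≤ Cfsg.pCore p G)
    (hst : ∀ (P : Subgroup G) [P.Normal], IsPGroup p P → Cfsg.IsPStableOn p P) :
    (sInf 𝒜).Normal := by
  have h := axFam_inf_normal_aux S 𝒜 h𝒜 hst _ (Cfsg.pCore p G) (pCore_normal' p G)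
    (pCore_isPGroup p G) rfl
  rwa [inf_eq_left.mpr (axFam_le_pCore S 𝒜 h𝒜 hc hst)] at h

end axzj

end Cfsg.Agent.Lib.helper52
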