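import Mathlib
import Cfsg.Agent.Lib.helper52.AxZJ
import Cfsg.Agent.Lib.helper1.GT
import Cfsg.Agent.Lib.lead.PNil
import Cfsg.Agent.Lib.helper88.GT1
import Cfsg.Agent.S0659

/-!
# An axiomatic Glauberman–Thompson theorem for groups (helper52)

`axFam_pn`: `p` odd, `S` a Sylow `p`-subgroup of `G` with `C_G(O_p(G)) ≤ O_p(G)`, `𝒜` an axiomatic
family on `S` (`AxFam`).  If `N_G(⋂ 𝒜)` is `p`-nilpotent then so is `G`.
-/

set_option autoImplicit false

namespace Cfsg.Agent.Lib.helper52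

open Subgroup Cfsg.Agent.Lib.lead

universe u

section

variable {G : Type u} [Group G] {p : ℕ}

theorem PN_of_isPGroup {Q : Subgroup G} (hQ : IsPGroup p Q) : PN p Q := by
  intro x hx y hy hox hoy
  rw [eq_one_of_mem_of_coprime hQ hx hox, eq_one_of_mem_of_coprime hQ hy hoy, mul_one, orderOf_one]
  exact Nat.coprime_one_left p

variable [Finite G] [Fact p.Prime]

theorem eq_sylow_of_PN (S : Sylow p G)
    (hc : Subgroup.centralizer (Cfsg.pCore p G : Set G) ≤ Cfsg.pCore p G)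
    {N : Subgroup G} (hSN : (S : Subgroup G) ≤ N) (hN : PN p N) : N = S := by
  have hQn : (Cfsg.pCore p G).Normal := Cfsg.Agent.Lib.helper40.pCore_normal' p G
  have hQp : IsPGroup p ↥(Cfsg.pCore p G) := Cfsg.Agent.Lib.helper40.pCore_isPGroup p G
  have hQS : Cfsg.pCore p G ≤ S := Cfsg.Agent.Lib.helper55.pCore_le_sylow S
  have hNp : IsPGroup p N := by
    apply isPGroup_of_forall_pprime_eq_one
    intro g hg hgo
    have h1 : g ∈ Subgroup.centralizer (Cfsg.pCore p G : Set G) :=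
      hN.mem_centralizer (Cfsg.pCore p G) hQp (hQS.trans hSN) hg
        (by rw [Subgroup.normalizer_eq_top_iff.mpr hQn]; trivial) hgo
    exact eq_one_of_mem_of_coprime hQp (hc h1) hgo
  exact S.is_maximal' hNp hSN

theorem hquot_of_coatom {X : Type u} [Group X] [Finite X] (hp : p ≠ 2) (T : Sylow p X)
    (hco : IsCoatom (T : Subgroup X)) : Cfsg.HasNormalPComplement p (X ⧸ Cfsg.pCore p X) := by
  have hQn : (Cfsg.pCore p X).Normal := Cfsg.Agent.Lib.helper40.pCore_normal' p X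
  have hQp : IsPGroup p ↥(Cfsg.pCore p X) := Cfsg.Agent.Lib.helper40.pCore_isPGroup p X
  have hsurj : Function.Surjective (QuotientGroup.mk' (Cfsg.pCore p X)) :=
    QuotientGroup.mk'_surjective _
  obtain ⟨Pb, hPbc⟩ : ∃ Pb : Sylow p (X ⧸ Cfsg.pCore p X),
      (Pb : Subgroup (X ⧸ Cfsg.pCore p X)) =
        (T : Subgroup X).map (QuotientGroup.mk' (Cfsg.pCore p X)) :=
    ⟨T.mapSurjective hsurj, rfl⟩
  apply Cfsg.Agent.S0659.result hp Pb
  rw [hasNormalPComplement_subgroup_iff]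
  have hPN : (Pb : Subgroup (X ⧸ Cfsg.pCore p X)) ≤ Subgroup.normalizer
      (Cfsg.centerThompsonAOf (Pb : Subgroup (X ⧸ Cfsg.pCore p X)) : Set (X ⧸ Cfsg.pCore p X)) :=
    Subgroup.le_normalizer.trans
      (Cfsg.Agent.Lib.helper88.normalizer_le_normalizer_centerThompsonAOf _)
  have hTN : (T : Subgroup X) ≤ (Subgroup.normalizer
      (Cfsg.centerThompsonAOf (Pb : Subgroup (X ⧸ Cfsg.pCore p X)) :
        Set (X ⧸ Cfsg.pCore p X))).comap (QuotientGroup.mk' (Cfsg.pCore p X)) := by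
    intro x hx
    rw [Subgroup.mem_comap]
    apply hPN
    rw [hPbc]
    exact Subgroup.mem_map_of_mem _ hx
  rcases hco.le_iff.mp hTN with h | h
  · -- the normalizer is everything
    have hNtop : Subgroup.normalizer
        (Cfsg.centerThompsonAOf (Pb : Subgroup (X ⧸ Cfsg.pCore p X)) :
          Set (X ⧸ Cfsg.pCore p X)) = ⊤ := by
      rw [← Subgroup.map_comap_eq_self_of_surjective hsurj (Subgroup.normalizer _), h]
      exact Subgroup.map_top_of_surjective _ hsurj
    have hZn : (Cfsg.centerThompsonAOf (Pb : Subgroup (X ⧸ Cfsg.pCore p X))).Normal :=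
      Subgroup.normalizer_eq_top_iff.mp hNtop
    have hZp : IsPGroup p ↥(Cfsg.centerThompsonAOf (Pb : Subgroup (X ⧸ Cfsg.pCore p X))) :=
      Pb.isPGroup'.to_le (Cfsg.Agent.Lib.helper88.centerThompsonAOf_le _)
    have hZbot : Cfsg.centerThompsonAOf (Pb : Subgroup (X ⧸ Cfsg.pCore p X)) = ⊥ := by
      have hcn : ((Cfsg.centerThompsonAOf (Pb : Subgroup (X ⧸ Cfsg.pCore p X))).comap
          (QuotientGroup.mk' (Cfsg.pCore p X))).Normal := hZn.comap _
      have hcp : IsPGroup p ↥((Cfsg.centerThompsonAOf (Pb : Subgroup (X ⧸ Cfsg.pCore p X))).comap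
          (QuotientGroup.mk' (Cfsg.pCore p X))) := by
        apply IsPGroup.comap_of_ker_isPGroup hZp
        rw [QuotientGroup.ker_mk']
        exact hQp
      have hle := Cfsg.Agent.Lib.helper40.le_pCore _ hcn hcp
      rw [eq_bot_iff]
      intro z hz
      obtain ⟨x, rfl⟩ := hsurj z
      rw [Subgroup.mem_bot, QuotientGroup.mk'_apply, QuotientGroup.eq_one_iff]
      exact hle hz
    have hPbot : (Pb : Subgroup (X ⧸ Cfsg.pCore p X)) = ⊥ := by
      by_contra hne
      exact Cfsg.Agent.Lib.helper88.centerThompsonAOf_ne_bot _ Pb.isPGroup' hne hZbot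
    have hnd : ¬ p ∣ Nat.card (X ⧸ Cfsg.pCore p X) := fun hd => Pb.ne_bot_of_dvd_card hd hPbot
    intro x _ y _ _ _
    have h1 : orderOf (x * y) ∣ Nat.card (X ⧸ Cfsg.pCore p X) := orderOf_dvd_natCard _
    exact Nat.Coprime.coprime_dvd_left h1
      (((Nat.Prime.coprime_iff_not_dvd Fact.out).mpr hnd).symm)
  · have hNP : Subgroup.normalizer
        (Cfsg.centerThompsonAOf (Pb : Subgroup (X ⧸ Cfsg.pCore p X)) :
          Set (X ⧸ Cfsg.pCore p X)) = Pb := by
      rw [← Subgroup.map_comap_eq_self_of_surjective hsurj (Subgroup.normalizer _), h, hPbc]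
    rw [hNP]
    exact PN_of_isPGroup Pb.isPGroup'

/-- the family transported to a subgroup `M` -/
def axSub (M : Subgroup G) (𝒜 : Set (Subgroup G)) : Set (Subgroup ↥M) :=
  {A' | A'.map M.subtype ∈ 𝒜}

omit [Finite G] [Fact p.Prime] in
theorem subgroupOf_mem_axSub {M : Subgroup G} {𝒜 : Set (Subgroup G)} {A : Subgroup G} (hA : A ∈ 𝒜)
    (hAM : A ≤ M) : A.subgroupOf M ∈ axSub M 𝒜 := by
  show (A.subgroupOf M).map M.subtype ∈ 𝒜
  rw [Subgroup.map_subgroupOf_eq_of_le hAM]
  exact hA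

omit [Finite G] [Fact p.Prime] in
theorem axFam_sub {S M : Subgroup G} (hSM : S ≤ M) {𝒜 : Set (Subgroup G)} (h𝒜 : AxFam S 𝒜) :
    AxFam (S.subgroupOf M) (axSub M 𝒜) := by
  have hinj : Function.Injective M.subtype := M.subtype_injective
  have hmem : ∀ (A' : Subgroup ↥M) (x : ↥M), (x : G) ∈ A'.map M.subtype → x ∈ A' := by
    rintro A' x ⟨y, hy, hyx⟩
    have : y = x := hinj hyx
    rw [← this]
    exact hy
  refine ⟨?_, ?_, ?_, ?_, ?_⟩
  · intro A' hA' x hx
    rw [Subgroup.mem_subgroupOf]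
    exact h𝒜.le _ hA' (Subgroup.mem_map_of_mem _ hx)
  · intro A' hA' x hx y hy
    apply hinj
    rw [map_mul, map_mul]
    exact h𝒜.comm _ hA' _ (Subgroup.mem_map_of_mem _ hx) _ (Subgroup.mem_map_of_mem _ hy)
  · obtain ⟨A, hA⟩ := h𝒜.ne
    exact ⟨A.subgroupOf M, subgroupOf_mem_axSub hA ((h𝒜.le A hA).trans hSM)⟩
  · intro Q' hQ'S hex g hg x hx A'' hA'' hA''Q
    obtain ⟨A', hA', hA'Q⟩ := hex
    have hQS : Q'.map M.subtype ≤ S := by
      rintro _ ⟨y, hy, rfl⟩
      exact Subgroup.mem_subgroupOf.mp (hQ'S hy)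
    have h1 := h𝒜.inv (Q'.map M.subtype) hQS ⟨A'.map M.subtype, hA', Subgroup.map_mono hA'Q⟩
      (g : G) (Subgroup.le_normalizer_map M.subtype ⟨g, hg, rfl⟩) (x : G) ?_
      (A''.map M.subtype) hA'' (Subgroup.map_mono hA''Q)
    · exact hmem A'' (g * x * g⁻¹) (by simpa using h1)
    · intro A hA hAQ
      have hAM : A ≤ M := (h𝒜.le A hA).trans hSM
      have h2 : A.subgroupOf M ≤ Q' := by
        intro y hy
        exact hmem Q' y (hAQ (Subgroup.mem_subgroupOf.mp hy))
      exact Subgroup.mem_subgroupOf.mp (hx _ (subgroupOf_mem_axSub hA hAM) h2)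
  · intro B' hB'S hcl hex
    obtain ⟨A', hA', hA'1, hA'2⟩ := hex
    have hBS : B'.map M.subtype ≤ S := by
      rintro _ ⟨y, hy, rfl⟩
      exact Subgroup.mem_subgroupOf.mp (hB'S hy)
    have hcl' : ⁅⁅B'.map M.subtype, B'.map M.subtype⁆, B'.map M.subtype⁆ = ⊥ := by
      rw [← Subgroup.map_commutator, ← Subgroup.map_commutator, hcl, Subgroup.map_bot]
    obtain ⟨A, hA, hA1, hA2, hA3⟩ := h𝒜.rep (B'.map M.subtype) hBS hcl'
      ⟨A'.map M.subtype, hA', by rw [← Subgroup.map_commutator]; exact Subgroup.map_mono hA'1,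
        fun hle => hA'2 ((Subgroup.map_le_map_iff_of_injective hinj).mp hle)⟩
    have hAM : A ≤ M := (h𝒜.le A hA).trans hSM
    refine ⟨A.subgroupOf M, subgroupOf_mem_axSub hA hAM, ?_, ?_, ?_⟩
    · intro x hx
      rw [Subgroup.mem_subgroupOf]
      apply hA1
      rw [← Subgroup.map_commutator]
      exact Subgroup.mem_map_of_mem _ hx
    · intro hle
      apply hA2
      rintro _ ⟨y, hy, rfl⟩
      exact Subgroup.mem_subgroupOf.mp (hle hy)
    · intro b hb
      have hbN : (b : G) ∈ Subgroup.normalizer (A : Set G) :=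
        hA3 (Subgroup.mem_map_of_mem _ hb)
      rw [Subgroup.mem_normalizer_iff] at hbN ⊢
      intro y
      rw [Subgroup.mem_subgroupOf, Subgroup.mem_subgroupOf]
      exact hbN y

/-- **Axiomatic Glauberman–Thompson for groups.** -/
theorem axFam_pn_aux (hp : p ≠ 2) (S : Sylow p G)
    (hc : Subgroup.centralizer (Cfsg.pCore p G : Set G) ≤ Cfsg.pCore p G)
    (𝒜 : Set (Subgroup G)) (h𝒜 : AxFam (S : Subgroup G) 𝒜)
    (hN : PN p (Subgroup.normalizer ((sInf 𝒜 : Subgroup G) : Set G))) :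
    ∀ (n : ℕ) (M : Subgroup G), (S : Subgroup G) ≤ M → Nat.card M = n → PN p M := by
  intro n
  induction n using Nat.strong_induction_on with
  | _ n ih =>
  intro M hSM hcard
  by_contra hM
  -- every proper subgroup of `M` containing `S` equals `S`
  have hmin : ∀ N : Subgroup G, (S : Subgroup G) ≤ N → N < M → N = S := by
    intro N hSN hNM
    exact eq_sylow_of_PN S hc hSN
      (ih _ (hcard ▸ Cfsg.Agent.Lib.helper14.card_lt_of_lt' hNM) N hSN rfl)
  have hMS : M ≠ S := fun h => hM (h ▸ PN_of_isPGroup S.isPGroup')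
  have hQn : (Cfsg.pCore p G).Normal := Cfsg.Agent.Lib.helper40.pCore_normal' p G
  have hQp : IsPGroup p ↥(Cfsg.pCore p G) := Cfsg.Agent.Lib.helper40.pCore_isPGroup p G
  have hQS : Cfsg.pCore p G ≤ S := Cfsg.Agent.Lib.helper55.pCore_le_sylow S
  have hinj : Function.Injective M.subtype := M.subtype_injective
  -- the Sylow subgroup of `M`
  have hcoS : IsCoatom ((S.subtype hSM : Sylow p ↥M) : Subgroup ↥M) := by
    rw [Sylow.coe_subtype]
    refine ⟨?_, ?_⟩
    · intro htop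
      apply hMS
      apply le_antisymm _ hSM
      intro m hm
      have : (⟨m, hm⟩ : ↥M) ∈ (S : Subgroup G).subgroupOf M := by rw [htop]; trivial
      exact Subgroup.mem_subgroupOf.mp this
    · intro N' hN'
      by_contra hne
      have hSN : (S : Subgroup G) ≤ N'.map M.subtype := by
        intro s hs
        exact ⟨⟨s, hSM hs⟩, hN'.le (Subgroup.mem_subgroupOf.mpr hs), rfl⟩
      have hNM : N'.map M.subtype < M := by
        refine lt_of_le_of_ne (Subgroup.map_subtype_le N') ?_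
        intro heq
        apply hne
        rw [eq_top_iff]
        intro x _
        have hx : (x : G) ∈ N'.map M.subtype := by rw [heq]; exact x.2
        obtain ⟨y, hy, hyx⟩ := hx
        have : y = x := hinj hyx
        rw [← this]
        exact hy
      have h1 := hmin _ hSN hNM
      apply hN'.ne
      apply le_antisymm hN'.le
      intro x hx
      rw [Subgroup.mem_subgroupOf, ← h1]
      exact Subgroup.mem_map_of_mem _ hx
  have hco : ∀ T' : Sylow p ↥M, IsCoatom (T' : Subgroup ↥M) := by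
    intro T'
    obtain ⟨g, hg⟩ := MulAction.exists_smul_eq ↥M (S.subtype hSM : Sylow p ↥M) T'
    rw [← hg, Sylow.coe_subgroup_smul]
    exact ((MulEquiv.mapSubgroup (MulAut.conj g)).isCoatom_iff _).mpr hcoS
  have hquot := hquot_of_coatom hp (S.subtype hSM : Sylow p ↥M) hcoS
  have hcX : Subgroup.centralizer (Cfsg.pCore p ↥M : Set ↥M) ≤ Cfsg.pCore p ↥M := by
    have hQ'n : ((Cfsg.pCore p G).subgroupOf M).Normal := hQn.subgroupOf M
    have hQ'p : IsPGroup p ↥((Cfsg.pCore p G).subgroupOf M) := hQp.comap_subtype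
    have hQ'le := Cfsg.Agent.Lib.helper40.le_pCore _ hQ'n hQ'p
    intro x hx
    apply hQ'le
    rw [Subgroup.mem_subgroupOf]
    apply hc
    rw [Subgroup.mem_centralizer_iff]
    intro q hq
    have hqM : q ∈ M := hSM (hQS hq)
    have h1 := Subgroup.mem_centralizer_iff.mp hx ⟨q, hqM⟩
      (hQ'le (Subgroup.mem_subgroupOf.mpr hq))
    exact congrArg Subtype.val h1
  have hAx : AxFam ((S.subtype hSM : Sylow p ↥M) : Subgroup ↥M) (axSub M 𝒜) := by
    rw [Sylow.coe_subtype]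
    exact axFam_sub hSM h𝒜
  have hnorm := axFam_normal (S.subtype hSM : Sylow p ↥M) (axSub M 𝒜) hAx hcX
    (fun P _ hP => Cfsg.Agent.Lib.helper1.isPStableOn_of_coatom p hp hquot hco P hP)
  apply hM
  apply hN.mono
  intro m hm
  apply Cfsg.Agent.Lib.helper40.mem_normalizer_of_map_conj_le
  rintro _ ⟨w, hw, rfl⟩
  have hw' : w ∈ sInf 𝒜 := hw
  have hwM : w ∈ M := hSM (h𝒜.sInf_le_top hw')
  have h1 : (⟨w, hwM⟩ : ↥M) ∈ sInf (axSub M 𝒜) := by
    rw [Subgroup.mem_sInf]
    intro A' hA'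
    have h2 : w ∈ A'.map M.subtype := (Subgroup.mem_sInf.mp hw') _ hA'
    obtain ⟨y, hy, hyw⟩ := h2
    have : y = ⟨w, hwM⟩ := Subtype.ext hyw
    rw [← this]
    exact hy
  have h2 := hnorm.conj_mem _ h1 ⟨m, hm⟩
  show (MulAut.conj m) w ∈ sInf 𝒜
  rw [MulAut.conj_apply, Subgroup.mem_sInf]
  intro A hA
  have h3 := (Subgroup.mem_sInf.mp h2) _
    (subgroupOf_mem_axSub hA ((h𝒜.le A hA).trans hSM))
  exact Subgroup.mem_subgroupOf.mp h3

theorem axFam_pn (hp : p ≠ 2) (S : Sylow p G)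
    (hc : Subgroup.centralizer (Cfsg.pCore p G : Set G) ≤ Cfsg.pCore p G)
    (𝒜 : Set (Subgroup G)) (h𝒜 : AxFam (S : Subgroup G) 𝒜)
    (hN : PN p (Subgroup.normalizer ((sInf 𝒜 : Subgroup G) : Set G))) :
    PN p (⊤ : Subgroup G) :=
  axFam_pn_aux hp S hc 𝒜 h𝒜 hN _ ⊤ le_top rfl

end

end Cfsg.Agent.Lib.helper52
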