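import Mathlib
import Cfsg.Agent.Lib.helper52.AxGroup
import Cfsg.Agent.Lib.helper88.GT5
import Cfsg.Agent.Lib.helper88.TH2

/-!
# An axiomatic Glauberman–Thompson theorem for fusion systems (helper52)

`ax_fusion`: `p` odd, `F` saturated over the finite `p`-group `S`, `𝒜` an axiomatic family of
abelian subgroups of `S` (`AxFus F 𝒜`: invariance under `F`-automorphisms and replacement for
subgroups of class at most two).  If some automorphism of `F` is not a `p`-element, then some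
automorphism of `N_F(⋂ 𝒜)` is not a `p`-element.

The induction (on `|S| - |O_p(F)|`) follows helper88's `gt_fusion`, which is used as a black box
for the factor system and for the case of trivial core; the constrained case is the group theorem
`axFam_pn` in a model.
-/

set_option autoImplicit false

namespace Cfsg.Agent.Lib.helper52

open Cfsg Cfsg.FusionSystem Cfsg.Agent.Lib.helper88 Cfsg.Agent.Lib.lead

universe u

/-- hypotheses on an axiomatic family, relative to a fusion system -/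
structure AxFus {Ω : Type*} [Group Ω] {S : Subgroup Ω} (F : FusionSystem S)
    (𝒜 : Set (Subgroup Ω)) : Prop where
  le : ∀ A ∈ 𝒜, A ≤ S
  comm : ∀ A ∈ 𝒜, ∀ x ∈ A, ∀ y ∈ A, x * y = y * x
  ne : 𝒜.Nonempty
  inv : ∀ Q : Subgroup Ω, Q ≤ S → (∃ A ∈ 𝒜, A ≤ Q) → ∀ α : MulAut Q,
    Q.subtype.comp α.toMonoidHom ∈ F.Hom Q → ∀ x : Q, (∀ A ∈ 𝒜, A ≤ Q → (x : Ω) ∈ A) →
      ∀ A ∈ 𝒜, A ≤ Q → ((α x : Q) : Ω) ∈ A
  rep : ∀ B : Subgroup Ω, B ≤ S → ⁅⁅B, B⁆, B⁆ = ⊥ → (∃ A ∈ 𝒜, ⁅B, B⁆ ≤ A ∧ ¬ B ≤ A) →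
    ∃ A ∈ 𝒜, ⁅B, B⁆ ≤ A ∧ ¬ B ≤ A ∧ B ≤ Subgroup.normalizer (A : Set Ω)

section basic

variable {Ω : Type*} [Group Ω] {S : Subgroup Ω} {F : FusionSystem S} {𝒜 : Set (Subgroup Ω)}

theorem AxFus.sInf_le (h : AxFus F 𝒜) : sInf 𝒜 ≤ S := by
  obtain ⟨A, hA⟩ := h.ne
  exact (_root_.sInf_le hA).trans (h.le A hA)

theorem AxFus.conj_mem (h : AxFus F 𝒜) {s : Ω} (hs : s ∈ S) {w : Ω} (hw : w ∈ sInf 𝒜) :
    s * w * s⁻¹ ∈ sInf 𝒜 := by
  obtain ⟨A₁, hA₁⟩ := h.ne
  have hwS : w ∈ S := h.sInf_le hw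
  have hα : S.subtype.comp (MulAut.conj (⟨s, hs⟩ : S)).toMonoidHom ∈ F.Hom S := by
    have : S.subtype.comp (MulAut.conj (⟨s, hs⟩ : S)).toMonoidHom = conjHom S s := by
      ext x
      rfl
    rw [this]
    exact F.conj_mem le_rfl hs
  rw [Subgroup.mem_sInf]
  intro A hA
  exact h.inv S le_rfl ⟨A₁, hA₁, h.le A₁ hA₁⟩ (MulAut.conj (⟨s, hs⟩ : S)) hα ⟨w, hwS⟩
    (fun A' hA' _ => (Subgroup.mem_sInf.mp hw) A' hA') A hA (h.le A hA)

theorem AxFus.le_normalizer (h : AxFus F 𝒜) :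
    S ≤ Subgroup.normalizer ((sInf 𝒜 : Subgroup Ω) : Set Ω) := by
  intro s hs
  rw [Subgroup.mem_normalizer_iff]
  intro w
  constructor
  · intro hw
    exact h.conj_mem hs hw
  · intro hw
    have h1 := h.conj_mem (S.inv_mem hs) hw
    have h2 : s⁻¹ * (s * w * s⁻¹) * s⁻¹⁻¹ = w := by group
    rwa [h2] at h1

end basic

section realized

variable {Ω : Type*} [Group Ω] {S : Subgroup Ω}

theorem map_mem_normalizer_im {G : Type*} [Group G] (ι : S →* G) (A : Subgroup Ω) (b : S)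
    (hb : (b : Ω) ∈ Subgroup.normalizer (A : Set Ω)) :
    ι b ∈ Subgroup.normalizer (((A.subgroupOf S).map ι : Subgroup G) : Set G) := by
  apply Subgroup.le_normalizer_map ι
  refine ⟨b, ?_, rfl⟩
  show b ∈ Subgroup.normalizer ((A.subgroupOf S : Subgroup S) : Set S)
  rw [Subgroup.mem_normalizer_iff] at hb ⊢
  intro y
  rw [Subgroup.mem_subgroupOf, Subgroup.mem_subgroupOf]
  exact hb y

/-- the family transported to a group realizing the fusion system -/
theorem axFam_of_realized [Finite S] {p : ℕ} (F : FusionSystem S) (𝒜 : Set (Subgroup Ω))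
    (h𝒜 : AxFus F 𝒜) {G : Type*} [Group G] {ι : S →* G} (hR : F.IsRealizedBy ι)
    (T : Sylow p G) (hT : (T : Subgroup G) = ι.range) :
    AxFam (T : Subgroup G) ((fun A : Subgroup Ω => (A.subgroupOf S).map ι) '' 𝒜) := by
  have hinj := hR.1
  have hmem_im : ∀ (A : Subgroup Ω) (s : S), ι s ∈ (A.subgroupOf S).map ι ↔ (s : Ω) ∈ A := by
    intro A s
    constructor
    · rintro ⟨t, ht, hts⟩
      have : t = s := hinj hts
      rw [← this]
      exact Subgroup.mem_subgroupOf.mp ht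
    · intro hs
      exact ⟨s, Subgroup.mem_subgroupOf.mpr hs, rfl⟩
  have him_le : ∀ A : Subgroup Ω, (A.subgroupOf S).map ι ≤ ι.range := by
    rintro A _ ⟨t, -, rfl⟩
    exact ⟨t, rfl⟩
  refine ⟨?_, ?_, ?_, ?_, ?_⟩
  · rintro _ ⟨A, hA, rfl⟩
    rw [hT]
    exact him_le A
  · rintro _ ⟨A, hA, rfl⟩ _ ⟨s, hs, rfl⟩ _ ⟨t, ht, rfl⟩
    rw [← map_mul, ← map_mul]
    congr 1
    apply Subtype.ext
    exact h𝒜.comm A hA _ (Subgroup.mem_subgroupOf.mp hs) _ (Subgroup.mem_subgroupOf.mp ht)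
  · obtain ⟨A, hA⟩ := h𝒜.ne
    exact ⟨_, A, hA, rfl⟩
  · intro Q hQT hex g hg x hx A'' hA'' hA''Q
    obtain ⟨A', ⟨A₁, hA₁, rfl⟩, hA₁Q⟩ := hex
    obtain ⟨A₂, hA₂, rfl⟩ := hA''
    have hPS : FusionSystem.preimageAlong ι Q ≤ S := Cfsg.Agent.Lib.helper87.preimageAlong_le ι Q
    have hmemP : ∀ z : Ω, z ∈ FusionSystem.preimageAlong ι Q ↔ ∃ hz : z ∈ S, ι ⟨z, hz⟩ ∈ Q :=
      fun z => Cfsg.Agent.Lib.helper87.mem_preimageAlong ι Q z
    have hQr : Q ≤ ι.range := hT ▸ hQT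
    have hgQ : ∀ q ∈ Q, g * q * g⁻¹ ∈ Q := fun q hq => (Subgroup.mem_normalizer_iff.mp hg q).mp hq
    have hconj : ∀ z : ↥(FusionSystem.preimageAlong ι Q),
        g * ι ⟨z, hPS z.2⟩ * g⁻¹ ∈ ι.range := by
      intro z
      obtain ⟨hz, hzQ⟩ := (hmemP z).mp z.2
      exact hQr (hgQ _ hzQ)
    obtain ⟨ψ, hψ, hψι⟩ := Cfsg.Agent.Lib.helper87.exists_mem_hom_of_conj hR hPS g hconj
    have hψS := (F.le_of_mem hψ).2
    have hψP : ∀ z : ↥(FusionSystem.preimageAlong ι Q), ψ z ∈ FusionSystem.preimageAlong ι Q := by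
      intro z
      rw [hmemP]
      refine ⟨hψS z, ?_⟩
      rw [hψι z (hψS z)]
      obtain ⟨hz, hzQ⟩ := (hmemP z).mp z.2
      exact hgQ _ hzQ
    obtain ⟨α, hα⟩ := Cfsg.Agent.Lib.helper89.exists_aut_of_mem F hψ hψP
    have hαF : (FusionSystem.preimageAlong ι Q).subtype.comp α.toMonoidHom ∈
        F.Hom (FusionSystem.preimageAlong ι Q) := by
      have : (FusionSystem.preimageAlong ι Q).subtype.comp α.toMonoidHom = ψ := by
        ext z
        exact hα z
      rw [this]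
      exact hψ
    have hAP : ∀ A : Subgroup Ω, A ≤ S →
        ((A.subgroupOf S).map ι ≤ Q ↔ A ≤ FusionSystem.preimageAlong ι Q) := by
      intro A hAS
      constructor
      · intro hle a ha
        rw [hmemP]
        exact ⟨hAS ha, hle ((hmem_im A ⟨a, hAS ha⟩).mpr ha)⟩
      · rintro hle _ ⟨s, hs, rfl⟩
        obtain ⟨hz, hzQ⟩ := (hmemP s).mp (hle (Subgroup.mem_subgroupOf.mp hs))
        exact hzQ
    have hxA₁ : x ∈ (A₁.subgroupOf S).map ι := hx _ ⟨A₁, hA₁, rfl⟩ hA₁Q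
    obtain ⟨s, hs, rfl⟩ := hxA₁
    have hsP : (s : Ω) ∈ FusionSystem.preimageAlong ι Q :=
      ((hAP A₁ (h𝒜.le A₁ hA₁)).mp hA₁Q) (Subgroup.mem_subgroupOf.mp hs)
    have key := h𝒜.inv (FusionSystem.preimageAlong ι Q) hPS
      ⟨A₁, hA₁, (hAP A₁ (h𝒜.le A₁ hA₁)).mp hA₁Q⟩ α hαF ⟨s, hsP⟩ ?_ A₂ hA₂
      ((hAP A₂ (h𝒜.le A₂ hA₂)).mp hA''Q)
    · have h5 := hψι ⟨s, hsP⟩ (hψS _)
      have h6 : g * ι s * g⁻¹ = ι ⟨ψ ⟨s, hsP⟩, hψS _⟩ := h5.symm
      rw [h6, hmem_im]
      show ψ ⟨s, hsP⟩ ∈ A₂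
      rw [← hα]
      exact key
    · intro A hA hAP'
      have := hx _ ⟨A, hA, rfl⟩ ((hAP A (h𝒜.le A hA)).mpr hAP')
      exact (hmem_im A s).mp this
  · intro B hBT hcl hex
    obtain ⟨_, ⟨A₁, hA₁, rfl⟩, hA₁1, hA₁2⟩ := hex
    have hBr : B ≤ ι.range := hT ▸ hBT
    have hBmap : (B.comap ι).map ι = B := by
      rw [Subgroup.map_comap_eq, inf_eq_right.mpr hBr]
    have hcl₀ : ⁅⁅(B.comap ι).map S.subtype, (B.comap ι).map S.subtype⁆,
        (B.comap ι).map S.subtype⁆ = ⊥ := by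
      have h1 : (⁅⁅B.comap ι, B.comap ι⁆, B.comap ι⁆).map ι = ⊥ := by
        rw [Subgroup.map_commutator, Subgroup.map_commutator, hBmap, hcl]
      have h2 : ⁅⁅B.comap ι, B.comap ι⁆, B.comap ι⁆ = ⊥ :=
        (Subgroup.map_eq_bot_iff_of_injective _ hinj).mp h1
      rw [← Subgroup.map_commutator, ← Subgroup.map_commutator, h2, Subgroup.map_bot]
    have hsub : ∀ (X : Subgroup S) (A : Subgroup Ω),
        (X.map ι ≤ (A.subgroupOf S).map ι ↔ X.map S.subtype ≤ A) := by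
      intro X A
      rw [Subgroup.map_le_map_iff_of_injective hinj]
      constructor
      · rintro hle _ ⟨y, hy, rfl⟩
        exact Subgroup.mem_subgroupOf.mp (hle hy)
      · intro hle y hy
        exact Subgroup.mem_subgroupOf.mpr (hle (Subgroup.mem_map_of_mem _ hy))
    have hcomm₀ : ∀ A : Subgroup Ω, (⁅B, B⁆ ≤ (A.subgroupOf S).map ι ↔
        ⁅(B.comap ι).map S.subtype, (B.comap ι).map S.subtype⁆ ≤ A) := by
      intro A
      have h1 : ⁅B, B⁆ = (⁅B.comap ι, B.comap ι⁆).map ι := by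
        rw [Subgroup.map_commutator, hBmap]
      rw [h1, hsub, Subgroup.map_commutator]
    have hle₀ : ∀ A : Subgroup Ω, (B ≤ (A.subgroupOf S).map ι ↔
        (B.comap ι).map S.subtype ≤ A) := by
      intro A
      have h1 := hsub (B.comap ι) A
      rwa [hBmap] at h1
    obtain ⟨A, hA, hA1, hA2, hA3⟩ := h𝒜.rep ((B.comap ι).map S.subtype)
      (Subgroup.map_subtype_le _) hcl₀
      ⟨A₁, hA₁, (hcomm₀ A₁).mp hA₁1, fun hle => hA₁2 ((hle₀ A₁).mpr hle)⟩
    refine ⟨(A.subgroupOf S).map ι, ⟨A, hA, rfl⟩, (hcomm₀ A).mpr hA1,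
      fun hle => hA2 ((hle₀ A).mp hle), ?_⟩
    rw [← hBmap]
    rintro _ ⟨b, hb, rfl⟩
    exact map_mem_normalizer_im ι A b (hA3 (Subgroup.mem_map_of_mem _ hb))

/-- the constrained case: a realized system -/
theorem ax_realized [Finite S] {p : ℕ} [Fact p.Prime] (hp : p ≠ 2) (F : FusionSystem S)
    (𝒜 : Set (Subgroup Ω)) (h𝒜 : AxFus F 𝒜) {G : Type*} [Group G] [Finite G] {ι : S →* G}
    (hR : F.IsRealizedBy ι) (T : Sylow p G) (hT : (T : Subgroup G) = ι.range)
    (hc : Subgroup.centralizer (Cfsg.pCore p G : Set G) ≤ Cfsg.pCore p G)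
    (h : NonInner p F) : NormNonInner p F (sInf 𝒜) := by
  by_contra hcon
  have hinj := hR.1
  have hmem_im : ∀ (A : Subgroup Ω) (s : S), ι s ∈ (A.subgroupOf S).map ι ↔ (s : Ω) ∈ A := by
    intro A s
    constructor
    · rintro ⟨t, ht, hts⟩
      have : t = s := hinj hts
      rw [← this]
      exact Subgroup.mem_subgroupOf.mp ht
    · intro hs
      exact ⟨s, Subgroup.mem_subgroupOf.mpr hs, rfl⟩
  have hW'T : ((sInf 𝒜 : Subgroup Ω).subgroupOf S).map ι ≤ T := by
    rw [hT]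
    rintro _ ⟨t, -, rfl⟩
    exact ⟨t, rfl⟩
  have hTH : (T : Subgroup G) ≤ Subgroup.normalizer
      ((((sInf 𝒜 : Subgroup Ω).subgroupOf S).map ι : Subgroup G) : Set G) := by
    rw [hT]
    rintro _ ⟨s, rfl⟩
    exact map_mem_normalizer_im ι _ s (h𝒜.le_normalizer s.2)
  have h1 := hasNPC_normalizer_of_not_normNonInner' F hR T hT (sInf 𝒜)
    (((sInf 𝒜 : Subgroup Ω).subgroupOf S).map ι) (fun x => (hmem_im (sInf 𝒜) x).symm)
    h𝒜.sInf_le hW'T hTH h𝒜.le_normalizer hcon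
  have hAx := axFam_of_realized F 𝒜 h𝒜 hR T hT
  have hsInf : sInf ((fun A : Subgroup Ω => (A.subgroupOf S).map ι) '' 𝒜) =
      ((sInf 𝒜 : Subgroup Ω).subgroupOf S).map ι := by
    ext y
    rw [Subgroup.mem_sInf]
    constructor
    · intro hy
      obtain ⟨A₁, hA₁⟩ := h𝒜.ne
      obtain ⟨s, hs, rfl⟩ := hy _ ⟨A₁, hA₁, rfl⟩
      refine ⟨s, ?_, rfl⟩
      show s ∈ (sInf 𝒜 : Subgroup Ω).subgroupOf S
      rw [Subgroup.mem_subgroupOf, Subgroup.mem_sInf]
      intro A hA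
      exact (hmem_im A s).mp (hy _ ⟨A, hA, rfl⟩)
    · rintro ⟨s, hs, rfl⟩ _ ⟨A, hA, rfl⟩
      exact (hmem_im A s).mpr ((Subgroup.mem_sInf.mp (Subgroup.mem_subgroupOf.mp hs)) A hA)
  have h2 : PN p (Subgroup.normalizer
      ((sInf ((fun A : Subgroup Ω => (A.subgroupOf S).map ι) '' 𝒜) : Subgroup G) : Set G)) := by
    rw [hsInf]
    exact (hasNormalPComplement_subgroup_iff _).mp h1
  have h3 := axFam_pn hp T hc _ hAx h2
  exact not_nonInner_of_hasNPC F hR T hT (PN_top_iff.mp h3) h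

end realized

theorem ax_fusion_aux {p : ℕ} [Fact p.Prime] (hp : p ≠ 2) :
    ∀ (d : ℕ) {Ω : Type u} [Group Ω] (S : Subgroup Ω) [Finite S], IsPGroup p S →
      ∀ F : FusionSystem S, F.IsSaturated p → ∀ 𝒜 : Set (Subgroup Ω), AxFus F 𝒜 →
        Nat.card S - Nat.card F.core = d → NonInner p F → NormNonInner p F (sInf 𝒜) := by
  intro d
  induction d using Nat.strong_induction_on with
  | _ d IH =>
  intro Ω _ S _ hS F hF 𝒜 h𝒜 hd hNI
  have hQn : F.IsNormal F.core := isNormal_core F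
  have hQS : F.core ≤ S := hQn.1
  have hcardQ : Nat.card F.core ≤ Nat.card S := Subgroup.card_le_of_le hQS
  -- a normal subgroup of `S` larger than the core whose normalizer system is not inner
  have step_normal : ∀ L : Subgroup Ω, L ≤ S → S ≤ Subgroup.normalizer (L : Set Ω) →
      NormNonInner p F L → Nat.card F.core < Nat.card L → NormNonInner p F (sInf 𝒜) := by
    intro L hLS hSL hNL hlt
    have hfn : F.IsFullyNormalized L := fullyNormalized_of_le_normalizer F hLS hSL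
    have hE := Cfsg.Agent.Lib.helper89.isNormalizerSystem_normalizerSystem F L hLS
    have hEsat := Cfsg.Agent.S5098.result p hS F hF L hfn _ hE
    have hT : normalizerIn S L = S := normalizerIn_eq_of_le_normalizer hSL
    haveI hfinT : Finite ↥(normalizerIn S L) := finite_of_le (normalizerIn_le S L)
    have hTp : IsPGroup p ↥(normalizerIn S L) := hS.to_le (normalizerIn_le S L)
    have hcardT : Nat.card ↥(normalizerIn S L) = Nat.card S := by rw [hT]
    have hEn := isNormal_of_isNormalizerSystem F hLS _ hE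
    have hLcore : L ≤ (Cfsg.Agent.Lib.helper89.normalizerSystem F L hLS).core := le_sSup hEn
    have hcore_le : (Cfsg.Agent.Lib.helper89.normalizerSystem F L hLS).core ≤ normalizerIn S L :=
      (isNormal_core _).1
    have h1 : Nat.card L ≤ Nat.card (Cfsg.Agent.Lib.helper89.normalizerSystem F L hLS).core := by
      haveI : Finite ↥(Cfsg.Agent.Lib.helper89.normalizerSystem F L hLS).core :=
        finite_of_le hcore_le
      exact Subgroup.card_le_of_le hLcore
    have h2 : Nat.card (Cfsg.Agent.Lib.helper89.normalizerSystem F L hLS).core ≤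
        Nat.card ↥(normalizerIn S L) := Subgroup.card_le_of_le hcore_le
    have hENI : NonInner p (Cfsg.Agent.Lib.helper89.normalizerSystem F L hLS) :=
      (nonInner_iff_of_isNormalizerSystem F L _ hE).mpr hNL
    have hsub : ∀ P : Subgroup Ω,
        (Cfsg.Agent.Lib.helper89.normalizerSystem F L hLS).Hom P ⊆ F.Hom P :=
      fun P φ hφ => by rw [hE P] at hφ; exact hφ.1
    have hAxE : AxFus (Cfsg.Agent.Lib.helper89.normalizerSystem F L hLS) 𝒜 :=
      ⟨fun A hA => (h𝒜.le A hA).trans hT.ge, h𝒜.comm, h𝒜.ne,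
        fun Q hQ hex α hα => h𝒜.inv Q (hQ.trans (normalizerIn_le S L)) hex α (hsub Q hα),
        fun B hB => h𝒜.rep B (hB.trans (normalizerIn_le S L))⟩
    have h3 := IH (Nat.card ↥(normalizerIn S L) -
      Nat.card (Cfsg.Agent.Lib.helper89.normalizerSystem F L hLS).core) (by omega)
      (normalizerIn S L) hTp _ hEsat 𝒜 hAxE rfl hENI
    exact NormNonInner.of_le (normalizerIn_le S L) hsub h3
  by_cases hcen : F.IsCentric F.core
  · -- constrained case: a model
    obtain ⟨G, _, ι, hM⟩ := exists_model hS F ⟨hF, F.core, hQn, hcen⟩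
    obtain ⟨hfin, hR, ⟨T, hT⟩, hc⟩ := hM
    exact ax_realized hp F 𝒜 h𝒜 hR T hT hc hNI
  by_cases hQ1 : F.core = ⊥
  · -- trivial core: Glauberman–Thompson for `Z(J(S))`
    have hZJ := gt_fusion hp hS F hF hNI
    haveI : Finite ↥(Cfsg.centerThompsonAOf S) := finite_of_le (centerThompsonAOf_le S)
    refine step_normal (Cfsg.centerThompsonAOf S) (centerThompsonAOf_le S)
      (Subgroup.le_normalizer.trans (normalizer_le_normalizer_centerThompsonAOf S)) hZJ ?_
    rw [hQ1, Subgroup.card_bot]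
    exact (Subgroup.one_lt_card_iff_ne_bot _).mpr (centerThompsonAOf_ne_bot S hS hNI.ne_bot)
  · -- nontrivial, non-centric core: the factor system
    by_contra hcon
    have hsc : F.StronglyClosed F.core :=
      Cfsg.Agent.Lib.helper86.stronglyClosed_of_isNormal F hQn
    haveI hQ'n : (F.core.subgroupOf S).Normal := by
      refine ⟨fun x hx g => ?_⟩
      rw [Subgroup.mem_subgroupOf] at hx ⊢
      exact Cfsg.Agent.Lib.helper89.conj_mem_of_stronglyClosed F hsc g.2 hx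
    obtain ⟨E', hE'⟩ := Cfsg.Agent.S5132.result p hS F F.core hsc
    have hsm := Cfsg.Agent.S5134.result p hS F hF F.core hsc _ E' hE'
    have hE'sat : E'.IsSaturated p := Cfsg.Agent.S5133.result p hS F hF E' _ hsm
    have hker : ∀ s : S, (QuotientGroup.mk' (F.core.subgroupOf S)) s = 1 ↔ (s : Ω) ∈ F.core :=
      hE'.2.1
    have hTp : IsPGroup p ↥(⊤ : Subgroup (S ⧸ F.core.subgroupOf S)) :=
      (hS.to_quotient (F.core.subgroupOf S)).to_subgroup ⊤
    haveI hfinQ : Finite ↥F.core := finite_of_le hQS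
    have hB1 : ¬ NormNonInner p E'
        (Cfsg.centerThompsonAOf (⊤ : Subgroup (S ⧸ F.core.subgroupOf S))) := by
      intro h1
      have h2 := h1.lift hsm
      have hLS := Cfsg.Agent.Lib.helper87.preimageAlong_le
        (QuotientGroup.mk' (F.core.subgroupOf S))
        (Cfsg.centerThompsonAOf (⊤ : Subgroup (S ⧸ F.core.subgroupOf S)))
      have hmemL := Cfsg.Agent.Lib.helper87.mem_preimageAlong
        (QuotientGroup.mk' (F.core.subgroupOf S))
        (Cfsg.centerThompsonAOf (⊤ : Subgroup (S ⧸ F.core.subgroupOf S)))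
      haveI hfinL : Finite ↥(FusionSystem.preimageAlong (QuotientGroup.mk' (F.core.subgroupOf S))
        (Cfsg.centerThompsonAOf (⊤ : Subgroup (S ⧸ F.core.subgroupOf S)))) := finite_of_le hLS
      have hSL : S ≤ Subgroup.normalizer ((FusionSystem.preimageAlong
          (QuotientGroup.mk' (F.core.subgroupOf S))
          (Cfsg.centerThompsonAOf (⊤ : Subgroup (S ⧸ F.core.subgroupOf S))) : Subgroup Ω) :
            Set Ω) := by
        intro x hx
        apply mem_normalizer_of_conj_mem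
        intro l hl
        obtain ⟨hlS, hlW⟩ := (hmemL l).mp hl
        rw [hmemL]
        refine ⟨S.mul_mem (S.mul_mem hx hlS) (S.inv_mem hx), ?_⟩
        have h3 : (⟨x * l * x⁻¹, S.mul_mem (S.mul_mem hx hlS) (S.inv_mem hx)⟩ : S) =
            ⟨x, hx⟩ * ⟨l, hlS⟩ * ⟨x, hx⟩⁻¹ := rfl
        rw [h3, map_mul, map_mul, map_inv]
        have h4 : (QuotientGroup.mk' (F.core.subgroupOf S)) ⟨x, hx⟩ ∈ Subgroup.normalizer
            ((⊤ : Subgroup (S ⧸ F.core.subgroupOf S)) : Set (S ⧸ F.core.subgroupOf S)) := by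
          rw [Subgroup.mem_normalizer_iff]
          intro h
          simp
        exact (Subgroup.mem_normalizer_iff.mp
          (normalizer_le_normalizer_centerThompsonAOf _ h4) _).mp hlW
      have hQL : F.core ≤ FusionSystem.preimageAlong (QuotientGroup.mk' (F.core.subgroupOf S))
          (Cfsg.centerThompsonAOf (⊤ : Subgroup (S ⧸ F.core.subgroupOf S))) :=
        Cfsg.Agent.Lib.helper87.le_preimageAlong _ hQS hker _
      have htop : (⊤ : Subgroup (S ⧸ F.core.subgroupOf S)) ≠ ⊥ := h1.nonInner.ne_bot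
      have hWne := centerThompsonAOf_ne_bot (⊤ : Subgroup (S ⧸ F.core.subgroupOf S)) hTp htop
      obtain ⟨⟨w, hw⟩, hw1⟩ := (Subgroup.ne_bot_iff_exists_ne_one).mp hWne
      obtain ⟨s, rfl⟩ := QuotientGroup.mk'_surjective (F.core.subgroupOf S) w
      have hsL : (s : Ω) ∈ FusionSystem.preimageAlong (QuotientGroup.mk' (F.core.subgroupOf S))
          (Cfsg.centerThompsonAOf (⊤ : Subgroup (S ⧸ F.core.subgroupOf S))) :=
        (hmemL s).mpr ⟨s.2, hw⟩
      have hsQ : (s : Ω) ∉ F.core := by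
        intro h3
        apply hw1
        apply Subtype.ext
        exact (hker s).mpr h3
      have hlt : Nat.card F.core < Nat.card ↥(FusionSystem.preimageAlong
          (QuotientGroup.mk' (F.core.subgroupOf S))
          (Cfsg.centerThompsonAOf (⊤ : Subgroup (S ⧸ F.core.subgroupOf S)))) := by
        by_contra h5
        push Not at h5
        have h6 := Subgroup.eq_of_le_of_card_ge hQL h5
        apply hsQ
        rw [h6]
        exact hsL
      exact hcon (step_normal _ hLS hSL h2 hlt)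
    have hB2 : ¬ NonInner p E' := fun h1 =>
      hB1 (gt_fusion hp hTp E' hE'sat h1)
    exact hcen (isCentric_core_of_factor hS F hF hsm.1 hker hB2)

/-- **Axiomatic Glauberman–Thompson for fusion systems** (`p` odd). -/
theorem ax_fusion {Ω : Type u} [Group Ω] {S : Subgroup Ω} [Finite S] {p : ℕ} [Fact p.Prime]
    (hp : p ≠ 2) (hS : IsPGroup p S) (F : FusionSystem S) (hF : F.IsSaturated p)
    (𝒜 : Set (Subgroup Ω)) (h𝒜 : AxFus F 𝒜) (h : NonInner p F) :
    NormNonInner p F (sInf 𝒜) :=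
  ax_fusion_aux hp _ S hS F hF 𝒜 h𝒜 rfl h

end Cfsg.Agent.Lib.helper52
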