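import Cfsg.Agent.Lib.helper95.B2Defs

/-!
# S1083 piece C3 : `comm_X4` (helper52 for helper95)
-/

set_option autoImplicit false

namespace Cfsg.Agent.Lib.helper95.B2

open Matrix Cfsg Cfsg.Lie

variable {F : Type*} [Field F]

/-- `X4 r 1 - 1` squares to zero. -/
theorem helper52_e_sq (r : Fin 8) :
    (X4 r (1 : F) - 1) * (X4 r (1 : F) - 1) = 0 := by
  fin_cases r <;> ext i j <;> fin_cases i <;> fin_cases j <;>
    simp [X4, Matrix.mul_apply, Fin.sum_univ_four, Matrix.one_apply]

/-- If `g` anticommutes with `1 + e`, `e * e = 0`, and `2 ≠ 0`, then `g = 0`. -/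
theorem helper52_anti (h2 : (2 : F) ≠ 0) (g e : Matrix (Fin 4) (Fin 4) F) (he : e * e = 0)
    (h : g * (1 + e) = -((1 + e) * g)) : g = 0 := by
  have h1 : (2 : F) • g = -(g * e + e * g) := by
    have : g + g * e = -(g + e * g) := by
      simpa [mul_add, add_mul] using h
    rw [two_smul]
    have e1 : g + g = (g + g * e) + (g + e * g) - (g * e + e * g) := by abel
    rw [e1, this]
    abel
  have h3 : (2 : F) • (e * g * e) = 0 := by
    have := congrArg (fun X => e * X * e) h1
    simp only [Matrix.mul_smul, Matrix.smul_mul, mul_neg, neg_mul, mul_add, add_mul] at this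
    rw [this]
    have e1 : e * (g * e) * e = e * g * (e * e) := by simp only [Matrix.mul_assoc]
    have e2 : e * (e * g) * e = (e * e) * g * e := by simp only [Matrix.mul_assoc]
    rw [e1, e2, he]
    simp
  have h4 : e * g * e = 0 := by
    have := congrArg (fun X => (2 : F)⁻¹ • X) h3
    simpa [smul_smul, inv_mul_cancel₀ h2] using this
  have h5 : (2 : F) • (e * g) = 0 := by
    have := congrArg (fun X => e * X) h1
    simp only [Matrix.mul_smul, mul_neg, mul_add] at this
    rw [this]
    have e1 : e * (g * e) = e * g * e := by simp only [Matrix.mul_assoc]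
    have e2 : e * (e * g) = (e * e) * g := by simp only [Matrix.mul_assoc]
    rw [e1, e2, he, h4]
    simp
  have h6 : (2 : F) • (g * e) = 0 := by
    have := congrArg (fun X => X * e) h1
    simp only [Matrix.smul_mul, neg_mul, add_mul] at this
    rw [this]
    have e1 : g * e * e = g * (e * e) := by simp only [Matrix.mul_assoc]
    rw [e1, he, h4]
    simp
  have h7 : e * g = 0 := by
    have := congrArg (fun X => (2 : F)⁻¹ • X) h5
    simpa [smul_smul, inv_mul_cancel₀ h2] using this
  have h8 : g * e = 0 := by
    have := congrArg (fun X => (2 : F)⁻¹ • X) h6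
    simpa [smul_smul, inv_mul_cancel₀ h2] using this
  rw [h7, h8] at h1
  have := congrArg (fun X => (2 : F)⁻¹ • X) h1
  simpa [smul_smul, inv_mul_cancel₀ h2] using this

theorem comm_X4 (g : Matrix (Fin 4) (Fin 4) F) (hg : g ≠ 0)
    (h : ∀ r : Fin 8, g * X4 r 1 = X4 r 1 * g ∨ g * X4 r 1 = -(X4 r 1 * g)) :
    ∃ a : F, g = a • (1 : Matrix (Fin 4) (Fin 4) F) := by
  have key : ∀ r : Fin 8, g * X4 r 1 = X4 r 1 * g := by
    intro r
    rcases h r with h1 | h1
    · exact h1
    · by_cases h2 : (2 : F) = 0
      · rw [h1]
        have hneg : ∀ X : Matrix (Fin 4) (Fin 4) F, -X = X := by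
          intro X
          have : X + X = 0 := by
            rw [← two_smul F X, h2, zero_smul]
          exact neg_eq_of_add_eq_zero_left this
        exact hneg _
      · exfalso
        apply hg
        apply helper52_anti h2 g (X4 r 1 - 1) (helper52_e_sq r)
        have e1 : (1 : Matrix (Fin 4) (Fin 4) F) + (X4 r 1 - 1) = X4 r 1 := by abel
        rw [e1]
        exact h1
  have k0 := fun i j => congrFun (congrFun (key 0) i) j
  have k7 := fun i j => congrFun (congrFun (key 7) i) j
  have k3 := fun i j => congrFun (congrFun (key 3) i) j
  have k4 := fun i j => congrFun (congrFun (key 4) i) j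
  have k5 := fun i j => congrFun (congrFun (key 5) i) j
  -- entries from `r = 0` (`E₂₀`)
  have a02 : g 0 2 = 0 := by
    have e := k0 0 0
    simp [X4, Matrix.mul_apply, Fin.sum_univ_four] at e
    first | exact e | exact e.symm | linear_combination e | linear_combination -e
  have a12 : g 1 2 = 0 := by
    have e := k0 1 0
    simp [X4, Matrix.mul_apply, Fin.sum_univ_four] at e
    first | exact e | exact e.symm | linear_combination e | linear_combination -e
  have a32 : g 3 2 = 0 := by
    have e := k0 3 0
    simp [X4, Matrix.mul_apply, Fin.sum_univ_four] at e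
    first | exact e | exact e.symm | linear_combination e | linear_combination -e
  have a01 : g 0 1 = 0 := by
    have e := k0 2 1
    simp [X4, Matrix.mul_apply, Fin.sum_univ_four] at e
    first | exact e | exact e.symm | linear_combination e | linear_combination -e
  have a03 : g 0 3 = 0 := by
    have e := k0 2 3
    simp [X4, Matrix.mul_apply, Fin.sum_univ_four] at e
    first | exact e | exact e.symm | linear_combination e | linear_combination -e
  have d02 : g 2 2 = g 0 0 := by
    have e := k0 2 0
    simp [X4, Matrix.mul_apply, Fin.sum_univ_four] at e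
    first | exact e | exact e.symm | linear_combination e | linear_combination -e
  -- entries from `r = 7` (`E₀₂`)
  have a10 : g 1 0 = 0 := by
    have e := k7 1 2
    simp [X4, Matrix.mul_apply, Fin.sum_univ_four] at e
    first | exact e | exact e.symm | linear_combination e | linear_combination -e
  have a20 : g 2 0 = 0 := by
    have e := k7 2 2
    simp [X4, Matrix.mul_apply, Fin.sum_univ_four] at e
    first | exact e | exact e.symm | linear_combination e | linear_combination -e
  have a30 : g 3 0 = 0 := by
    have e := k7 3 2
    simp [X4, Matrix.mul_apply, Fin.sum_univ_four] at e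
    first | exact e | exact e.symm | linear_combination e | linear_combination -e
  have a21 : g 2 1 = 0 := by
    have e := k7 0 1
    simp [X4, Matrix.mul_apply, Fin.sum_univ_four] at e
    first | exact e | exact e.symm | linear_combination e | linear_combination -e
  have a23 : g 2 3 = 0 := by
    have e := k7 0 3
    simp [X4, Matrix.mul_apply, Fin.sum_univ_four] at e
    first | exact e | exact e.symm | linear_combination e | linear_combination -e
  -- entries from `r = 3` (`-E₃₁`)
  have a13 : g 1 3 = 0 := by
    have e := k3 1 1
    simp [X4, Matrix.mul_apply, Fin.sum_univ_four] at e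
    first | exact e | exact e.symm | linear_combination e | linear_combination -e
  have d13 : g 3 3 = g 1 1 := by
    have e := k3 3 1
    simp [X4, Matrix.mul_apply, Fin.sum_univ_four] at e
    first | exact e | exact e.symm | linear_combination e | linear_combination -e
  -- entries from `r = 4` (`-E₁₃`)
  have a31 : g 3 1 = 0 := by
    have e := k4 3 3
    simp [X4, Matrix.mul_apply, Fin.sum_univ_four] at e
    first | exact e | exact e.symm | linear_combination e | linear_combination -e
  -- `r = 5` (`E₀₁ - E₃₂`)
  have d01 : g 1 1 = g 0 0 := by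
    have e := k5 0 1
    simp [X4, Matrix.mul_apply, Fin.sum_univ_four] at e
    first | exact e | exact e.symm | linear_combination e | linear_combination -e
  refine ⟨g 0 0, ?_⟩
  ext i j
  fin_cases i <;> fin_cases j <;>
    simp [a01, a02, a03, a10, a12, a13, a20, a21, a23, a30, a31, a32, d02, d13, d01]

end Cfsg.Agent.Lib.helper95.B2
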