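import Cfsg.Agent.Lib.helper95.B2Defs

/-!
# S1083 piece D : `goursat` (helper52 for helper95)
-/

set_option autoImplicit false

namespace Cfsg.Agent.Lib.helper95.B2

theorem goursat {A B C : Type*} [Group A] [Group B] [Group C] (S : Subgroup (A × B × C))
    (h : ∀ p ∈ S, p.2.1 = 1 ↔ p.2.2 = 1) :
    Nonempty (↥(S.map ((MonoidHom.fst B C).comp (MonoidHom.snd A (B × C)))) ≃*
      ↥(S.map ((MonoidHom.snd B C).comp (MonoidHom.snd A (B × C))))) := by
  have hf : (((MonoidHom.fst B C).comp (MonoidHom.snd A (B × C))).comp S.subtype).range =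
      S.map ((MonoidHom.fst B C).comp (MonoidHom.snd A (B × C))) := by
    rw [MonoidHom.range_comp, Subgroup.range_subtype]
  have hg : (((MonoidHom.snd B C).comp (MonoidHom.snd A (B × C))).comp S.subtype).range =
      S.map ((MonoidHom.snd B C).comp (MonoidHom.snd A (B × C))) := by
    rw [MonoidHom.range_comp, Subgroup.range_subtype]
  have hker : (((MonoidHom.fst B C).comp (MonoidHom.snd A (B × C))).comp S.subtype).ker =
      (((MonoidHom.snd B C).comp (MonoidHom.snd A (B × C))).comp S.subtype).ker := by
    ext p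
    simp only [MonoidHom.mem_ker, MonoidHom.comp_apply, Subgroup.coe_subtype,
      MonoidHom.coe_fst, MonoidHom.coe_snd]
    exact h p.1 p.2
  exact ⟨(MulEquiv.subgroupCongr hf).symm.trans
    ((QuotientGroup.quotientKerEquivRange _).symm.trans
      ((QuotientGroup.quotientMulEquivOfEq hker).trans
        ((QuotientGroup.quotientKerEquivRange _).trans (MulEquiv.subgroupCongr hg))))⟩

end Cfsg.Agent.Lib.helper95.B2
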