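import Mathlib
import Cfsg.Agent.Lib.helper2.BGDefs
import Cfsg.Agent.Lib.helper20.D1EFinal
import Cfsg.Agent.Lib.helper4.CharDecomp
import Cfsg.Agent.Lib.helper81.Kernel
import Cfsg.Agent.Lib.helper78.KLCount
import Cfsg.Agent.Lib.helper40.BGO00

/-! S4504 split (helper2), piece L: `S1_formula` (helper52). -/

set_option autoImplicit false

open Cfsg Cfsg.Agent.Lib.helper20.D1E Cfsg.Agent.Lib.helper2.BF
open scoped ComplexConjugate

namespace Cfsg.Agent.Lib.helper2.BG

universe u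

variable {G : Type*} [Group G] [Fintype G]

/-- A central element acts on an irreducible character by the scalar `χ z / χ 1`. -/
theorem helper52_central_val (χ : IrrCharacter G) (z : G) (hz : z ∈ Subgroup.center G) (g : G) :
    (χ : G → ℂ) (g * z) * (χ : G → ℂ) 1 = (χ : G → ℂ) z * (χ : G → ℂ) g := by
  have hzc : ∀ h : G, h * z = z * h := fun h => (Subgroup.mem_center_iff.mp hz h)
  have h1 := Cfsg.Agent.Lib.helper78.irr_central_mul χ z hzc g
  have h0 := Cfsg.Agent.Lib.helper81.irr_one_ne_zero χ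
  rw [hzc g, h1]
  field_simp

/-- Sum of a constant over a set, as an indicator sum. -/
theorem helper52_sum_ind_const {α : Type*} [Fintype α] (S : Set α) (c : ℂ) :
    ∑ a : α, Set.indicator S (fun _ => c) a = (Nat.card S : ℂ) * c := by
  classical
  simp only [Set.indicator_apply]
  rw [Finset.sum_ite, Finset.sum_const_zero, add_zero, Finset.sum_const, nsmul_eq_mul]
  congr 2
  rw [Nat.card_eq_fintype_card, Fintype.card_subtype]

/-- The sum of `χ (g z)` over the centre, for `χ` trivial on the centre. -/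
theorem helper52_zsum_triv (χ : IrrCharacter G)
    (hs : ∀ z ∈ Subgroup.center G, (χ : G → ℂ) z = (χ : G → ℂ) 1) (g : G) :
    ∑ z : G, Set.indicator ((Subgroup.center G : Subgroup G) : Set G)
        (fun z => (χ : G → ℂ) (g * z)) z
      = (Nat.card (Subgroup.center G) : ℂ) * (χ : G → ℂ) g := by
  classical
  have h0 := Cfsg.Agent.Lib.helper81.irr_one_ne_zero χ
  have h1 : ∀ z : G, Set.indicator ((Subgroup.center G : Subgroup G) : Set G)
        (fun z => (χ : G → ℂ) (g * z)) z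
      = Set.indicator ((Subgroup.center G : Subgroup G) : Set G)
          (fun _ => (χ : G → ℂ) g) z := by
    intro z
    by_cases hz : z ∈ ((Subgroup.center G : Subgroup G) : Set G)
    · rw [Set.indicator_of_mem hz, Set.indicator_of_mem hz]
      have h2 := helper52_central_val χ z hz g
      rw [hs z hz] at h2
      exact mul_right_cancel₀ h0 (by rw [h2, mul_comm])
    · rw [Set.indicator_of_notMem hz, Set.indicator_of_notMem hz]
  rw [Finset.sum_congr rfl (fun z _ => h1 z)]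
  exact helper52_sum_ind_const _ _

/-- The sum of `χ (g z)` over the centre, for `χ` nontrivial on the centre. -/
theorem helper52_zsum_ne (χ : IrrCharacter G)
    (hs : ¬ ∀ z ∈ Subgroup.center G, (χ : G → ℂ) z = (χ : G → ℂ) 1) (g : G) :
    ∑ z : G, Set.indicator ((Subgroup.center G : Subgroup G) : Set G)
        (fun z => (χ : G → ℂ) (g * z)) z = 0 := by
  classical
  push Not at hs
  obtain ⟨z₀, hz₀, hne⟩ := hs
  have h1 : (∑ z : G, Set.indicator ((Subgroup.center G : Subgroup G) : Set G)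
        (fun z => (χ : G → ℂ) (g * z)) z) * (χ : G → ℂ) 1
      = (χ : G → ℂ) z₀ * ∑ z : G, Set.indicator ((Subgroup.center G : Subgroup G) : Set G)
        (fun z => (χ : G → ℂ) (g * z)) z := by
    rw [Finset.sum_mul, Finset.mul_sum, ← Equiv.sum_comp (Equiv.mulRight z₀)]
    refine Finset.sum_congr rfl fun z _ => ?_
    simp only [Equiv.coe_mulRight]
    by_cases hz : z ∈ ((Subgroup.center G : Subgroup G) : Set G)
    · have hz' : z * z₀ ∈ ((Subgroup.center G : Subgroup G) : Set G) :=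
        Subgroup.mul_mem _ hz hz₀
      rw [Set.indicator_of_mem hz', Set.indicator_of_mem hz]
      have := helper52_central_val χ z₀ hz₀ (g * z)
      rw [← mul_assoc]
      exact this
    · have hz' : z * z₀ ∉ ((Subgroup.center G : Subgroup G) : Set G) := by
        intro h
        apply hz
        have := Subgroup.mul_mem _ h (Subgroup.inv_mem _ hz₀)
        simpa using this
      rw [Set.indicator_of_notMem hz', Set.indicator_of_notMem hz]
      simp
  have h2 : (∑ z : G, Set.indicator ((Subgroup.center G : Subgroup G) : Set G)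
        (fun z => (χ : G → ℂ) (g * z)) z) * ((χ : G → ℂ) 1 - (χ : G → ℂ) z₀) = 0 := by
    linear_combination h1
  rcases mul_eq_zero.mp h2 with h | h
  · exact h
  · exact absurd (sub_eq_zero.mp h).symm hne

open Classical in
/-- Twisted column orthogonality: the characters trivial on the centre. -/
theorem helper52_twisted_orth (p : ℕ) [Fact p.Prime] (P : Sylow p G) (hP : Nat.card P = p)
    (x : G) (hx : x ∈ (P : Subgroup G)) (hx1 : x ≠ 1)
    (hK : ∀ k ∈ Subgroup.centralizer ((P : Subgroup G) : Set G), ¬ p ∣ orderOf k →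
      k ∈ Subgroup.center G)
    (hZ : ∀ z ∈ Subgroup.center G, ¬ p ∣ orderOf z) (w : G) (hw : w ^ p = 1) :
    ∑ χ : IrrCharacter G, Set.indicator
        {χ : IrrCharacter G | ∀ z ∈ Subgroup.center G, (χ : G → ℂ) z = (χ : G → ℂ) 1}
        (fun χ => (χ : G → ℂ) x * (χ : G → ℂ) w) χ
      = if IsConj x w⁻¹ then (p : ℂ) else 0 := by
  classical
  have hp : p.Prime := Fact.out
  obtain ⟨hxp, hxu⟩ := basic_x p P hP x hx hx1
  have hZne : (Nat.card (Subgroup.center G) : ℂ) ≠ 0 := by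
    exact_mod_cast (Nat.card_pos (α := Subgroup.center G)).ne'
  apply mul_left_cancel₀ hZne
  -- left side
  have hL : (Nat.card (Subgroup.center G) : ℂ) * ∑ χ : IrrCharacter G, Set.indicator
        {χ : IrrCharacter G | ∀ z ∈ Subgroup.center G, (χ : G → ℂ) z = (χ : G → ℂ) 1}
        (fun χ => (χ : G → ℂ) x * (χ : G → ℂ) w) χ
      = ∑ χ : IrrCharacter G, (χ : G → ℂ) w *
          ∑ z : G, Set.indicator ((Subgroup.center G : Subgroup G) : Set G)
            (fun z => (χ : G → ℂ) (x * z)) z := by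
    rw [Finset.mul_sum]
    refine Finset.sum_congr rfl fun χ _ => ?_
    by_cases hχ : ∀ z ∈ Subgroup.center G, (χ : G → ℂ) z = (χ : G → ℂ) 1
    · rw [Set.indicator_of_mem (show χ ∈ {χ : IrrCharacter G | ∀ z ∈ Subgroup.center G,
        (χ : G → ℂ) z = (χ : G → ℂ) 1} from hχ), helper52_zsum_triv χ hχ x]
      ring
    · rw [Set.indicator_of_notMem (show χ ∉ {χ : IrrCharacter G | ∀ z ∈ Subgroup.center G,
        (χ : G → ℂ) z = (χ : G → ℂ) 1} from hχ), helper52_zsum_ne χ hχ x]
      ring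
  rw [hL]
  -- swap the sums
  have hswap : ∑ χ : IrrCharacter G, (χ : G → ℂ) w *
          ∑ z : G, Set.indicator ((Subgroup.center G : Subgroup G) : Set G)
            (fun z => (χ : G → ℂ) (x * z)) z
      = ∑ z : G, Set.indicator ((Subgroup.center G : Subgroup G) : Set G)
          (fun z => ∑ χ : IrrCharacter G, (χ : G → ℂ) (x * z) * conj ((χ : G → ℂ) w⁻¹)) z := by
    simp_rw [Finset.mul_sum]
    rw [Finset.sum_comm]
    refine Finset.sum_congr rfl fun z _ => ?_
    by_cases hz : z ∈ ((Subgroup.center G : Subgroup G) : Set G)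
    · rw [Set.indicator_of_mem hz]
      refine Finset.sum_congr rfl fun χ _ => ?_
      rw [Set.indicator_of_mem hz, Cfsg.Agent.Lib.helper81.irr_inv χ w, Complex.conj_conj]
      ring
    · rw [Set.indicator_of_notMem hz]
      refine Finset.sum_eq_zero fun χ _ => ?_
      rw [Set.indicator_of_notMem hz, mul_zero]
  rw [hswap]
  -- only `z = 1` contributes
  have hone : ∀ z : G, z ≠ 1 → Set.indicator ((Subgroup.center G : Subgroup G) : Set G)
      (fun z => ∑ χ : IrrCharacter G, (χ : G → ℂ) (x * z) * conj ((χ : G → ℂ) w⁻¹)) z = 0 := by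
    intro z hz1
    by_cases hz : z ∈ ((Subgroup.center G : Subgroup G) : Set G)
    · rw [Set.indicator_of_mem hz, Cfsg.Agent.Lib.helper81.irr_col_orth (x * z) w⁻¹]
      rw [if_neg]
      intro hconj
      obtain ⟨c, hc⟩ := isConj_iff.mp hconj
      have h1 : (x * z) ^ p = 1 := by
        have h2 : (c * (x * z) * c⁻¹) ^ p = 1 := by
          rw [hc, inv_pow, hw, inv_one]
        rw [conj_pow] at h2
        have h3 : (x * z) ^ p = c⁻¹ * (c * (x * z) ^ p * c⁻¹) * c := by group
        rw [h3, h2]; group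
      have hcomm : Commute x z := (Subgroup.mem_center_iff.mp hz x)
      rw [hcomm.mul_pow, hxp, one_mul] at h1
      have h4 : orderOf z ∣ p := orderOf_dvd_of_pow_eq_one h1
      rcases (Nat.dvd_prime hp).mp h4 with h5 | h5
      · exact hz1 (orderOf_eq_one_iff.mp h5)
      · exact hZ z hz (by rw [h5])
    · rw [Set.indicator_of_notMem hz]
  rw [Finset.sum_eq_single (1 : G) (fun z _ hz => hone z hz) (fun h => absurd (Finset.mem_univ _) h)]
  rw [Set.indicator_of_mem (show (1 : G) ∈ ((Subgroup.center G : Subgroup G) : Set G) from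
    Subgroup.one_mem _), mul_one, Cfsg.Agent.Lib.helper81.irr_col_orth x w⁻¹]
  have hcard : Nat.card (Subgroup.centralizer ({x} : Set G)) = p * Nat.card (Subgroup.center G) := by
    rw [e1_centralizer_eq p P hP x hx hx1]
    exact (card_centralizer p P hP hK hZ).1
  split_ifs with hc
  · rw [hcard]; push_cast; ring
  · ring

/-- Exactly one of `x⁻¹`, `(x ^ mp)⁻¹` is conjugate to `x`. -/
theorem helper52_conj_xor (p : ℕ) [Fact p.Prime] (x : G) (hxp : x ^ p = 1)
    (H : Subgroup (ZMod p)ˣ)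
    (hH : ∀ r : (ZMod p)ˣ, r ∈ H ↔ ∃ n : G, n * x * n⁻¹ = x ^ ((r : ZMod p).val))
    (he : 2 * Nat.card H + 1 = p)
    (c : (ZMod p)ˣ) (hc : c ∉ H) (mp : ℕ) (hmc : (mp : ZMod p) = (c : ZMod p)) :
    (IsConj x x⁻¹ ∧ ¬ IsConj x (x ^ mp)⁻¹) ∨ (¬ IsConj x x⁻¹ ∧ IsConj x (x ^ mp)⁻¹) := by
  classical
  have hp : p.Prime := Fact.out
  have : NeZero p := ⟨hp.ne_zero⟩
  -- powers of `x` with exponents summing to `0` mod `p`
  have hmul : ∀ a b : ℕ, ((a + b : ℕ) : ZMod p) = 0 → x ^ a * x ^ b = 1 := by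
    intro a b hab
    obtain ⟨k, hk⟩ := (ZMod.natCast_eq_zero_iff (a + b) p).mp hab
    rw [← pow_add, hk, pow_mul, hxp, one_pow]
  have hinv1 : x⁻¹ = x ^ (((-1 : (ZMod p)ˣ) : ZMod p).val) := by
    have h1 : x ^ (((-1 : (ZMod p)ˣ) : ZMod p).val) * x ^ 1 = 1 := by
      apply hmul
      rw [Nat.cast_add, ZMod.natCast_zmod_val]
      simp
    rw [pow_one] at h1
    exact (eq_inv_of_mul_eq_one_left h1).symm
  have hinv2 : (x ^ mp)⁻¹ = x ^ (((-c : (ZMod p)ˣ) : ZMod p).val) := by
    have h1 : x ^ (((-c : (ZMod p)ˣ) : ZMod p).val) * x ^ mp = 1 := by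
      apply hmul
      rw [Nat.cast_add, ZMod.natCast_zmod_val, hmc]
      simp
    exact (eq_inv_of_mul_eq_one_left h1).symm
  have hc1 : IsConj x x⁻¹ ↔ (-1 : (ZMod p)ˣ) ∈ H := by
    rw [hinv1, isConj_iff, hH]
  have hc2 : IsConj x (x ^ mp)⁻¹ ↔ (-c : (ZMod p)ˣ) ∈ H := by
    rw [hinv2, isConj_iff, hH]
  have hidx : H.index = 2 := by
    have h1 := Subgroup.card_mul_index H
    have h2 : Nat.card (ZMod p)ˣ = p - 1 := by
      rw [Nat.card_eq_fintype_card, ZMod.card_units p]
    rw [h2] at h1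
    have h3 : 0 < Nat.card H := Nat.card_pos
    have h4 : Nat.card H * H.index = Nat.card H * 2 := by omega
    exact Nat.eq_of_mul_eq_mul_left h3 h4
  have hmem : (-c : (ZMod p)ˣ) ∈ H ↔ ((-1 : (ZMod p)ˣ) ∈ H ↔ c ∈ H) := by
    have h1 : (-c : (ZMod p)ˣ) = (-1) * c := by simp
    rw [h1]
    exact Subgroup.mul_mem_iff_of_index_two hidx
  rw [hc1, hc2, hmem]
  by_cases h1 : (-1 : (ZMod p)ˣ) ∈ H
  · left
    exact ⟨h1, fun h => hc (h.mp h1)⟩
  · right
    exact ⟨h1, ⟨fun h => absurd h h1, fun h => absurd h hc⟩⟩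

/-- L. -/
theorem helper52_S1_formula (p : ℕ) [Fact p.Prime] (P : Sylow p G) (hP : Nat.card P = p)
    (x : G) (hx : x ∈ (P : Subgroup G)) (hx1 : x ≠ 1) (H : Subgroup (ZMod p)ˣ)
    (hH : ∀ r : (ZMod p)ˣ, r ∈ H ↔ ∃ n : G, n * x * n⁻¹ = x ^ ((r : ZMod p).val))
    (M : Ideal AlgInt) (hM : IsPModular p M) (X Y : Set (IrrCharacter G))
    (εX : IrrCharacter G → ℤ) (ε : ℤ) (hD : PBData p M P (Nat.card H) X Y εX ε)
    (he : 2 * Nat.card H + 1 = p)
    (hK : ∀ k ∈ Subgroup.centralizer ((P : Subgroup G) : Set G), ¬ p ∣ orderOf k →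
      k ∈ Subgroup.center G)
    (hZ : ∀ z ∈ Subgroup.center G, ¬ p ∣ orderOf z)
    (c : (ZMod p)ˣ) (hc : c ∉ H) (mp : ℕ) (hmc : (mp : ZMod p) = (c : ZMod p))
    (h : G) (hh : ¬ p ∣ orderOf h) (υ : IrrCharacter G) (hυ : υ ∈ Y) (W : ℂ)
    (hW : ∑ᶠ ξ ∈ X, (ξ : G → ℂ) h / (ξ : G → ℂ) 1 + (υ : G → ℂ) h / (2 * (υ : G → ℂ) 1) = W)
    (hWr : conj W = W) :
    ∑ χ : IrrCharacter G, Set.indicator
        {χ : IrrCharacter G | ∀ z ∈ Subgroup.center G, (χ : G → ℂ) z = (χ : G → ℂ) 1}
        (fun χ => (χ : G → ℂ) x * ((χ : G → ℂ) x + (χ : G → ℂ) (x ^ mp)) *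
          conj ((χ : G → ℂ) h) / (χ : G → ℂ) 1) χ
      = 2 * W := by
  classical
  have hp : p.Prime := Fact.out
  have : NeZero p := ⟨hp.ne_zero⟩
  obtain ⟨hxp, hxu⟩ := basic_x p P hP x hx hx1
  have hmpnd : ¬ p ∣ mp := by
    intro hd
    have h0 : (mp : ZMod p) = 0 := (ZMod.natCast_eq_zero_iff mp p).mpr hd
    rw [hmc] at h0
    exact c.ne_zero h0
  have hxm1 : x ^ mp ≠ 1 := hxu mp hmpnd
  have hxmP : x ^ mp ∈ (P : Subgroup G) := Subgroup.pow_mem _ hx mp
  have hxmp : (x ^ mp) ^ p = 1 := by rw [← pow_mul, mul_comm, pow_mul, hxp, one_pow]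
  have hone_reg : ¬ p ∣ orderOf (1 : G) := by
    rw [orderOf_one]; exact hp.one_lt.ne' ∘ Nat.dvd_one.mp
  have hcenter_set : ∀ y : G, (y ∈ Subgroup.centralizer ((P : Subgroup G) : Set G) ∧
      ¬ p ∣ orderOf y) ↔ y ∈ Subgroup.center G := by
    intro y
    constructor
    · rintro ⟨h1, h2⟩; exact hK y h1 h2
    · intro hy
      exact ⟨Subgroup.center_le_centralizer _ hy, hZ y hy⟩
  have hZne : (Nat.card (Subgroup.center G) : ℂ) ≠ 0 := by
    exact_mod_cast (Nat.card_pos (α := Subgroup.center G)).ne'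
  -- characters trivial on the centre outside the principal block vanish at `x`
  have hvan : ∀ χ : IrrCharacter G,
      (∀ z ∈ Subgroup.center G, (χ : G → ℂ) z = (χ : G → ℂ) 1) →
      χ ∉ principalBlock M G → (χ : G → ℂ) x = 0 := by
    intro χ hχZ hχ
    have h1 := section_sum_eq_zero p M hM P hP x hx hx1 χ hχ
    have h2 : ∑ y : G, Set.indicator {y : G | y ∈ Subgroup.centralizer
          ((P : Subgroup G) : Set G) ∧ ¬ p ∣ orderOf y} (fun y => (χ : G → ℂ) (x * y)) y
        = ∑ z : G, Set.indicator ((Subgroup.center G : Subgroup G) : Set G)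
            (fun z => (χ : G → ℂ) (x * z)) z := by
      refine Finset.sum_congr rfl fun y _ => ?_
      by_cases hy : y ∈ Subgroup.center G
      · rw [Set.indicator_of_mem (show y ∈ {y : G | y ∈ Subgroup.centralizer
          ((P : Subgroup G) : Set G) ∧ ¬ p ∣ orderOf y} from (hcenter_set y).mpr hy),
          Set.indicator_of_mem (show y ∈ ((Subgroup.center G : Subgroup G) : Set G) from hy)]
      · rw [Set.indicator_of_notMem (show y ∉ {y : G | y ∈ Subgroup.centralizer
          ((P : Subgroup G) : Set G) ∧ ¬ p ∣ orderOf y} from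
            fun h => hy ((hcenter_set y).mp h)),
          Set.indicator_of_notMem (show y ∉ ((Subgroup.center G : Subgroup G) : Set G) from hy)]
    rw [h2, helper52_zsum_triv χ hχZ x] at h1
    exact (mul_eq_zero.mp h1).resolve_left hZne
  -- the principal block consists of characters trivial on the centre
  have hB0 : ∀ χ : IrrCharacter G, χ ∈ principalBlock M G →
      ∀ z ∈ Subgroup.center G, (χ : G → ℂ) z = (χ : G → ℂ) 1 := by
    intro χ hχ z hz
    obtain ⟨hne, hval⟩ := (principal_iff p M hM P hP x hx hx1 χ).mp hχ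
    have h1 := hval z ((hcenter_set z).mpr hz).1 ((hcenter_set z).mpr hz).2
    have h2 := helper52_central_val χ z hz x
    rw [h1] at h2
    exact (mul_left_cancel₀ hne (by rw [h2, mul_comm])).symm
  -- splitting a sum over the characters trivial on the centre
  have hsplit : ∀ F : IrrCharacter G → ℂ, (∀ χ : IrrCharacter G, (χ : G → ℂ) x = 0 → F χ = 0) →
      ∑ χ : IrrCharacter G, Set.indicator
        {χ : IrrCharacter G | ∀ z ∈ Subgroup.center G, (χ : G → ℂ) z = (χ : G → ℂ) 1} F χ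
      = ∑ χ : IrrCharacter G, Set.indicator X F χ + ∑ χ : IrrCharacter G, Set.indicator Y F χ := by
    intro F hF
    rw [← Finset.sum_add_distrib]
    refine Finset.sum_congr rfl fun χ _ => ?_
    by_cases hχX : χ ∈ X
    · have hχB : χ ∈ principalBlock M G := by rw [hD.union]; exact Or.inl hχX
      have hχY : χ ∉ Y := fun hY => (Set.disjoint_left.mp hD.disj hχX hY)
      rw [Set.indicator_of_mem (show χ ∈ {χ : IrrCharacter G | ∀ z ∈ Subgroup.center G,
        (χ : G → ℂ) z = (χ : G → ℂ) 1} from hB0 χ hχB), Set.indicator_of_mem hχX,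
        Set.indicator_of_notMem hχY, add_zero]
    · by_cases hχY : χ ∈ Y
      · have hχB : χ ∈ principalBlock M G := by rw [hD.union]; exact Or.inr hχY
        rw [Set.indicator_of_mem (show χ ∈ {χ : IrrCharacter G | ∀ z ∈ Subgroup.center G,
          (χ : G → ℂ) z = (χ : G → ℂ) 1} from hB0 χ hχB), Set.indicator_of_notMem hχX,
          Set.indicator_of_mem hχY, zero_add]
      · have hχB : χ ∉ principalBlock M G := by
          rw [hD.union]; rintro (h1 | h1)
          · exact hχX h1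
          · exact hχY h1
        rw [Set.indicator_of_notMem hχX, Set.indicator_of_notMem hχY, add_zero]
        by_cases hχZ : ∀ z ∈ Subgroup.center G, (χ : G → ℂ) z = (χ : G → ℂ) 1
        · rw [Set.indicator_of_mem (show χ ∈ {χ : IrrCharacter G | ∀ z ∈ Subgroup.center G,
            (χ : G → ℂ) z = (χ : G → ℂ) 1} from hχZ)]
          exact hF χ (hvan χ hχZ hχB)
        · rw [Set.indicator_of_notMem (show χ ∉ {χ : IrrCharacter G | ∀ z ∈ Subgroup.center G,
            (χ : G → ℂ) z = (χ : G → ℂ) 1} from hχZ)]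
  -- values on `X`
  have hXval : ∀ ξ ∈ X, (ξ : G → ℂ) x = (εX ξ : ℂ) ∧ (ξ : G → ℂ) (x ^ mp) = (εX ξ : ℂ) := by
    intro ξ hξ
    have h1 := hD.valX ξ hξ x hx hx1 1 (Subgroup.one_mem _) hone_reg
    have h2 := hD.valX ξ hξ (x ^ mp) hxmP hxm1 1 (Subgroup.one_mem _) hone_reg
    rw [mul_one] at h1 h2
    exact ⟨h1, h2⟩
  have hXsq : ∀ ξ ∈ X, (εX ξ : ℂ) * (εX ξ : ℂ) = 1 := by
    intro ξ hξ
    rcases hD.signX ξ hξ with h1 | h1 <;> rw [h1] <;> norm_num
  -- the total over the characters trivial on the centre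
  have htot : ∑ χ : IrrCharacter G, Set.indicator
        {χ : IrrCharacter G | ∀ z ∈ Subgroup.center G, (χ : G → ℂ) z = (χ : G → ℂ) 1}
        (fun χ => (χ : G → ℂ) x * ((χ : G → ℂ) x + (χ : G → ℂ) (x ^ mp))) χ = (p : ℂ) := by
    have h1 := helper52_twisted_orth p P hP x hx hx1 hK hZ x hxp
    have h2 := helper52_twisted_orth p P hP x hx hx1 hK hZ (x ^ mp) hxmp
    have h3 : ∀ χ : IrrCharacter G, Set.indicator
        {χ : IrrCharacter G | ∀ z ∈ Subgroup.center G, (χ : G → ℂ) z = (χ : G → ℂ) 1}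
        (fun χ => (χ : G → ℂ) x * ((χ : G → ℂ) x + (χ : G → ℂ) (x ^ mp))) χ
        = Set.indicator
        {χ : IrrCharacter G | ∀ z ∈ Subgroup.center G, (χ : G → ℂ) z = (χ : G → ℂ) 1}
        (fun χ => (χ : G → ℂ) x * (χ : G → ℂ) x) χ + Set.indicator
        {χ : IrrCharacter G | ∀ z ∈ Subgroup.center G, (χ : G → ℂ) z = (χ : G → ℂ) 1}
        (fun χ => (χ : G → ℂ) x * (χ : G → ℂ) (x ^ mp)) χ := by
      intro χ
      by_cases hχ : χ ∈ {χ : IrrCharacter G | ∀ z ∈ Subgroup.center G,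
          (χ : G → ℂ) z = (χ : G → ℂ) 1}
      · rw [Set.indicator_of_mem hχ, Set.indicator_of_mem hχ, Set.indicator_of_mem hχ]; ring
      · rw [Set.indicator_of_notMem hχ, Set.indicator_of_notMem hχ, Set.indicator_of_notMem hχ]
        ring
    rw [Finset.sum_congr rfl (fun χ _ => h3 χ), Finset.sum_add_distrib, h1, h2]
    rcases helper52_conj_xor p x hxp H hH he c hc mp hmc with ⟨ha, hb⟩ | ⟨ha, hb⟩
    · rw [if_pos ha, if_neg hb, add_zero]
    · rw [if_neg ha, if_pos hb, zero_add]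
  -- the `X`-part of the total
  have hXtot : ∑ χ : IrrCharacter G, Set.indicator X
        (fun χ => (χ : G → ℂ) x * ((χ : G → ℂ) x + (χ : G → ℂ) (x ^ mp))) χ
      = 2 * (Nat.card H : ℂ) := by
    have h1 : ∀ χ : IrrCharacter G, Set.indicator X
        (fun χ => (χ : G → ℂ) x * ((χ : G → ℂ) x + (χ : G → ℂ) (x ^ mp))) χ
        = Set.indicator X (fun _ => (2 : ℂ)) χ := by
      intro χ
      by_cases hχ : χ ∈ X
      · rw [Set.indicator_of_mem hχ, Set.indicator_of_mem hχ, (hXval χ hχ).1, (hXval χ hχ).2]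
        have := hXsq χ hχ
        linear_combination 2 * this
      · rw [Set.indicator_of_notMem hχ, Set.indicator_of_notMem hχ]
    rw [Finset.sum_congr rfl (fun χ _ => h1 χ), helper52_sum_ind_const, hD.cardX]
    ring
  -- hence the `Y`-part of the total is `1`
  have hYtot : ∑ χ : IrrCharacter G, Set.indicator Y
        (fun χ => (χ : G → ℂ) x * ((χ : G → ℂ) x + (χ : G → ℂ) (x ^ mp))) χ = 1 := by
    have h1 := hsplit (fun χ => (χ : G → ℂ) x * ((χ : G → ℂ) x + (χ : G → ℂ) (x ^ mp)))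
      (fun χ h0 => by simp only [h0, zero_mul])
    rw [htot, hXtot] at h1
    have h2 : ((2 * Nat.card H + 1 : ℕ) : ℂ) = (p : ℂ) := by rw [he]
    push_cast at h2
    linear_combination -h1 - h2
  -- the main sum
  have hmain := hsplit (fun χ => (χ : G → ℂ) x * ((χ : G → ℂ) x + (χ : G → ℂ) (x ^ mp)) *
          conj ((χ : G → ℂ) h) / (χ : G → ℂ) 1)
      (fun χ h0 => by simp only [h0, zero_mul, zero_div])
  rw [hmain]
  -- the `X`-part
  have hXmain : ∑ χ : IrrCharacter G, Set.indicator X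
        (fun χ => (χ : G → ℂ) x * ((χ : G → ℂ) x + (χ : G → ℂ) (x ^ mp)) *
          conj ((χ : G → ℂ) h) / (χ : G → ℂ) 1) χ
      = 2 * ∑ χ : IrrCharacter G, Set.indicator X
        (fun χ => conj ((χ : G → ℂ) h) / (χ : G → ℂ) 1) χ := by
    rw [Finset.mul_sum]
    refine Finset.sum_congr rfl fun χ _ => ?_
    by_cases hχ : χ ∈ X
    · rw [Set.indicator_of_mem hχ, Set.indicator_of_mem hχ, (hXval χ hχ).1, (hXval χ hχ).2]
      have := hXsq χ hχ
      have h3 : (εX χ : ℂ) * ((εX χ : ℂ) + (εX χ : ℂ)) = 2 := by linear_combination 2 * this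
      rw [h3, mul_div_assoc]
    · rw [Set.indicator_of_notMem hχ, Set.indicator_of_notMem hχ, mul_zero]
  -- the `Y`-part
  have hYmain : ∑ χ : IrrCharacter G, Set.indicator Y
        (fun χ => (χ : G → ℂ) x * ((χ : G → ℂ) x + (χ : G → ℂ) (x ^ mp)) *
          conj ((χ : G → ℂ) h) / (χ : G → ℂ) 1) χ
      = conj ((υ : G → ℂ) h) / (υ : G → ℂ) 1 := by
    have h1 : ∀ χ : IrrCharacter G, Set.indicator Y
        (fun χ => (χ : G → ℂ) x * ((χ : G → ℂ) x + (χ : G → ℂ) (x ^ mp)) *
          conj ((χ : G → ℂ) h) / (χ : G → ℂ) 1) χ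
        = Set.indicator Y
        (fun χ => (χ : G → ℂ) x * ((χ : G → ℂ) x + (χ : G → ℂ) (x ^ mp))) χ *
          (conj ((υ : G → ℂ) h) / (υ : G → ℂ) 1) := by
      intro χ
      by_cases hχ : χ ∈ Y
      · rw [Set.indicator_of_mem hχ, Set.indicator_of_mem hχ, hD.regY χ hχ υ hυ h hh,
          hD.regY χ hχ υ hυ 1 hone_reg, mul_div_assoc]
      · rw [Set.indicator_of_notMem hχ, Set.indicator_of_notMem hχ, zero_mul]
    rw [Finset.sum_congr rfl (fun χ _ => h1 χ), ← Finset.sum_mul, hYtot, one_mul]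
  rw [hXmain, hYmain]
  -- compare with `W`
  have hconj1 : ∀ χ : IrrCharacter G, conj ((χ : G → ℂ) 1) = (χ : G → ℂ) 1 := by
    intro χ
    rw [Cfsg.Agent.Lib.helper81.irr_one_eq_charDegree χ, Complex.conj_natCast]
  have hWc : conj W = ∑ χ : IrrCharacter G, Set.indicator X
        (fun χ => conj ((χ : G → ℂ) h) / (χ : G → ℂ) 1) χ
      + conj ((υ : G → ℂ) h) / (2 * (υ : G → ℂ) 1) := by
    rw [← hW, finsum_mem_def, finsum_eq_sum_of_fintype, map_add, map_sum]
    congr 1
    · refine Finset.sum_congr rfl fun χ _ => ?_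
      by_cases hχ : χ ∈ X
      · rw [Set.indicator_of_mem hχ, Set.indicator_of_mem hχ, map_div₀, hconj1 χ]
      · rw [Set.indicator_of_notMem hχ, Set.indicator_of_notMem hχ, map_zero]
    · rw [map_div₀, map_mul, hconj1 υ]
      have h2c : (starRingEnd ℂ) (2 : ℂ) = 2 := Complex.conj_ofNat 2
      rw [h2c]
  have hυ1 := Cfsg.Agent.Lib.helper81.irr_one_ne_zero υ
  rw [← hWr, hWc]
  field_simp

end Cfsg.Agent.Lib.helper2.BG
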