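import Mathlib
import Cfsg.Prelude.Def_MonsterType
import Cfsg.Agent.Lib.helper13.BMQ

/-!
S5412 PIECE G (helper52): transfer of `helper13.bm_quot` from `K = C_G(t)` to data living in
`C_G(z)`.
-/

set_option autoImplicit false
open Cfsg

namespace Cfsg.Agent.Lib.helper52

/-- PIECE G of S5412: transfer from the centralizer of `z` to `C_G(t) / ⟨t⟩`. -/
theorem bm_cent {G : Type*} [Group G] [Finite G] (z t : G)
    [hn : ((Subgroup.zpowers t).subgroupOf (Subgroup.centralizer ({t} : Set G))).Normal]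
    (hzz : z * z = 1) (hz1 : z ≠ 1) (htt : t * t = 1) (ht1 : t ≠ 1) (hzt : z ≠ t)
    (hnc : ∀ x : G, x * t = t * x → x * z * x⁻¹ ≠ z * t)
    (zC tC : ↥(Subgroup.centralizer ({z} : Set G))) (hzC : (zC : G) = z) (htC : (tC : G) = t)
    (R : Subgroup ↥(Subgroup.centralizer ({z} : Set G))) (htR : tC ∈ R) (hzR : zC ∈ R)
    (hRt : ∀ r ∈ R, r * tC = tC * r)
    (hRn : ∀ h : ↥(Subgroup.centralizer ({z} : Set G)), h * tC = tC * h →
      ∀ r ∈ R, h * r * h⁻¹ ∈ R)
    (hcard : Nat.card R = 2 ^ 24)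
    (hsq : ∀ r ∈ R, r * r = 1 ∨ r * r = zC)
    (hcomm : ∀ r ∈ R, ∀ s ∈ R, r * s = s * r ∨ r * s = zC * (s * r))
    (hcent : ∀ x ∈ R, (∀ r ∈ R, r * x = x * r) → x = 1 ∨ x = zC ∨ x = tC ∨ x = zC * tC)
    (hnonab : ∃ x ∈ R, ∃ y ∈ R, x * y ≠ y * x)
    (ρ : ↥(Subgroup.centralizer ({tC} : Set ↥(Subgroup.centralizer ({z} : Set G)))) →*
      ↥Spor.Co2)
    (hρs : Function.Surjective ρ)
    (hρk : ∀ h : ↥(Subgroup.centralizer ({tC} : Set ↥(Subgroup.centralizer ({z} : Set G)))),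
      ρ h = 1 ↔ (h : ↥(Subgroup.centralizer ({z} : Set G))) ∈ R)
    (hO2 : ∀ N : Subgroup ↥Spor.Co2, N.Normal → IsPGroup 2 N → N = ⊥)
    (Ψ : ↥leechPerpU → ↥(Subgroup.centralizer ({z} : Set G))) (hΨR : ∀ x, Ψ x ∈ R)
    (hΨadd : ∀ x y, ∃ c : ↥(Subgroup.centralizer ({z} : Set G)),
      (c = 1 ∨ c = zC ∨ c = tC ∨ c = zC * tC) ∧ Ψ (x + y) = c * (Ψ x * Ψ y))
    (hΨsurj : ∀ r ∈ R, ∃ x, ∃ c : ↥(Subgroup.centralizer ({z} : Set G)),
      (c = 1 ∨ c = zC ∨ c = tC ∨ c = zC * tC) ∧ r = c * Ψ x)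
    (hΨker : ∀ x : ↥leechPerpU, (Ψ x = 1 ∨ Ψ x = zC ∨ Ψ x = tC ∨ Ψ x = zC * tC) ↔
        ((∃ w : ↥leechLattice, (x : ↥leechLattice) = w + w) ∨
         ∃ w : ↥leechLattice, (x : ↥leechLattice) = Spor.leechU + (w + w)))
    (hΨeq : ∀ (h : ↥(Subgroup.centralizer ({tC} : Set ↥(Subgroup.centralizer ({z} : Set G)))))
        (x y : ↥leechPerpU), (ρ h) • (x : ↥leechLattice) = (y : ↥leechLattice) →
        ∃ c : ↥(Subgroup.centralizer ({z} : Set G)),
          (c = 1 ∨ c = zC ∨ c = tC ∨ c = zC * tC) ∧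
          (h : ↥(Subgroup.centralizer ({z} : Set G))) * Ψ x *
            (h : ↥(Subgroup.centralizer ({z} : Set G)))⁻¹ = c * Ψ y)
    (hCQ : ∀ h : ↥(Subgroup.centralizer ({z} : Set G)), h * tC = tC * h →
        (∀ r ∈ R, h * r * h⁻¹ * r⁻¹ = 1 ∨ h * r * h⁻¹ * r⁻¹ = tC) → h ∈ R)
    (hnwc : ∃ g : G, g * t = t * g ∧
        (∃ hc : g * z * g⁻¹ ∈ Subgroup.centralizer ({z} : Set G),
          (⟨g * z * g⁻¹, hc⟩ : ↥(Subgroup.centralizer ({z} : Set G))) ∈ R) ∧ g * z * g⁻¹ ≠ z) :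
    IsOfBabyMonsterType (↥(Subgroup.centralizer ({t} : Set G)) ⧸
      (Subgroup.zpowers t).subgroupOf (Subgroup.centralizer ({t} : Set G))) := by
  classical
  have hzt_comm : z * t = t * z := by
    have h1 := Subgroup.mem_centralizer_iff.1 tC.2 z rfl
    rwa [htC] at h1
  have memK : ∀ g : G, g ∈ Subgroup.centralizer ({t} : Set G) ↔ t * g = g * t := by
    intro g
    rw [Subgroup.mem_centralizer_iff]
    constructor
    · intro h
      exact h t rfl
    · intro h y hy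
      rw [Set.mem_singleton_iff] at hy
      rw [hy]
      exact h
  have memC : ∀ g : G, g ∈ Subgroup.centralizer ({z} : Set G) ↔ z * g = g * z := by
    intro g
    rw [Subgroup.mem_centralizer_iff]
    constructor
    · intro h
      exact h z rfl
    · intro h y hy
      rw [Set.mem_singleton_iff] at hy
      rw [hy]
      exact h
  obtain ⟨tK, htK⟩ : ∃ tK : ↥(Subgroup.centralizer ({t} : Set G)), (tK : G) = t := ⟨⟨t, (memK t).2 rfl⟩, rfl⟩
  obtain ⟨zK, hzK⟩ : ∃ zK : ↥(Subgroup.centralizer ({t} : Set G)), (zK : G) = z := ⟨⟨z, (memK z).2 hzt_comm.symm⟩, rfl⟩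
  obtain ⟨RK, memRK⟩ : ∃ RK : Subgroup ↥(Subgroup.centralizer ({t} : Set G)), ∀ k : ↥(Subgroup.centralizer ({t} : Set G)), k ∈ RK ↔ ∃ r ∈ R, (r : G) = (k : G) :=
    ⟨(R.map (Subgroup.centralizer ({z} : Set G)).subtype).comap
      (Subgroup.centralizer ({t} : Set G)).subtype, fun k => Iff.rfl⟩
  have hRtG : ∀ r ∈ R, t * (r : G) = (r : G) * t := by
    intro r hr
    have h1 : (r : G) * (tC : G) = (tC : G) * (r : G) := congrArg Subtype.val (hRt r hr)
    rw [htC] at h1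
    exact h1.symm
  have four_comm : ∀ c : ↥(Subgroup.centralizer ({z} : Set G)), (c = 1 ∨ c = zC ∨ c = tC ∨ c = zC * tC) →
      t * (c : G) = (c : G) * t := by
    rintro c (rfl | rfl | rfl | rfl)
    · simp
    · rw [hzC]
      exact hzt_comm.symm
    · rw [htC]
    · rw [Subgroup.coe_mul, hzC, htC, ← mul_assoc, ← hzt_comm]
  have four_iff : ∀ (k : ↥(Subgroup.centralizer ({t} : Set G))) (c : ↥(Subgroup.centralizer ({z} : Set G))), (k : G) = (c : G) →
      ((k = 1 ∨ k = zK ∨ k = tK ∨ k = zK * tK) ↔ (c = 1 ∨ c = zC ∨ c = tC ∨ c = zC * tC)) := by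
    intro k c hkc
    simp only [Subtype.ext_iff, Subgroup.coe_one, Subgroup.coe_mul, hzC, htC, hzK, htK, hkc]
  have hT : ∀ x : ↥(Subgroup.centralizer ({t} : Set G)), x ∈ (Subgroup.zpowers t).subgroupOf (Subgroup.centralizer ({t} : Set G)) ↔
      x = 1 ∨ x = tK := by
    intro x
    rw [Subgroup.mem_subgroupOf]
    simp only [Subtype.ext_iff, Subgroup.coe_one, htK]
    constructor
    · intro hx
      obtain ⟨k, hk⟩ := Subgroup.mem_zpowers_iff.1 hx
      rw [← hk]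
      rcases Int.even_or_odd' k with ⟨j, rfl | rfl⟩
      · left
        rw [zpow_mul, zpow_ofNat, pow_two, htt, one_zpow]
      · right
        rw [zpow_add, zpow_mul, zpow_ofNat, pow_two, htt, one_zpow, one_mul, zpow_one]
    · rintro (h1 | h1)
      · rw [h1]
        exact Subgroup.one_mem _
      · rw [h1]
        exact Subgroup.mem_zpowers _
  have ht1' : tK ≠ 1 := by
    intro h
    exact ht1 (htK.symm.trans (congrArg Subtype.val h))
  have htc : ∀ x : ↥(Subgroup.centralizer ({t} : Set G)), x * tK = tK * x := by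
    intro x
    apply Subtype.ext
    show (x : G) * (tK : G) = (tK : G) * (x : G)
    rw [htK]
    exact ((memK x).1 x.2).symm
  have hzz' : zK * zK = 1 := by
    apply Subtype.ext
    show (zK : G) * (zK : G) = 1
    rw [hzK]
    exact hzz
  have hz1' : zK ≠ 1 := by
    intro h
    exact hz1 (hzK.symm.trans (congrArg Subtype.val h))
  have hzt' : zK ≠ tK := by
    intro h
    exact hzt (hzK.symm.trans ((congrArg Subtype.val h).trans htK))
  have hnc' : ∀ x : ↥(Subgroup.centralizer ({t} : Set G)), x * zK * x⁻¹ ≠ zK * tK := by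
    intro x h
    apply hnc (x : G) ((memK x).1 x.2).symm
    have h1 : (x : G) * (zK : G) * (x : G)⁻¹ = (zK : G) * (tK : G) := congrArg Subtype.val h
    rw [hzK, htK] at h1
    exact h1
  have htR' : tK ∈ RK := (memRK tK).2 ⟨tC, htR, htC.trans htK.symm⟩
  have hzR' : zK ∈ RK := (memRK zK).2 ⟨zC, hzR, hzC.trans hzK.symm⟩
  have hRC : ∀ r ∈ RK, r * zK = zK * r := by
    intro r hr
    obtain ⟨r', hr', hrr⟩ := (memRK r).1 hr
    apply Subtype.ext
    show (r : G) * (zK : G) = (zK : G) * (r : G)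
    rw [← hrr, hzK]
    exact ((memC _).1 r'.2).symm
  have hRn' : ∀ h : ↥(Subgroup.centralizer ({t} : Set G)), h * zK = zK * h → ∀ r ∈ RK, h * r * h⁻¹ ∈ RK := by
    intro h hh r hr
    obtain ⟨r', hr', hrr⟩ := (memRK r).1 hr
    have hhz : z * (h : G) = (h : G) * z := by
      have h1 : (h : G) * (zK : G) = (zK : G) * (h : G) := congrArg Subtype.val hh
      rw [hzK] at h1
      exact h1.symm
    have hht : t * (h : G) = (h : G) * t := (memK h).1 h.2
    obtain ⟨hC', hhC'⟩ : ∃ hC' : ↥(Subgroup.centralizer ({z} : Set G)), (hC' : G) = (h : G) := ⟨⟨(h : G), (memC _).2 hhz⟩, rfl⟩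
    have h1 : hC' * tC = tC * hC' := by
      apply Subtype.ext
      show (hC' : G) * (tC : G) = (tC : G) * (hC' : G)
      rw [htC, hhC']
      exact hht.symm
    have h2 := hRn hC' h1 r' hr'
    refine (memRK _).2 ⟨hC' * r' * hC'⁻¹, h2, ?_⟩
    show (hC' : G) * (r' : G) * (hC' : G)⁻¹ = (h : G) * (r : G) * (h : G)⁻¹
    rw [hrr, hhC']
  have hcard' : Nat.card RK = 2 ^ 24 := by
    rw [← hcard]
    symm
    refine Nat.card_congr (Equiv.ofBijective
      (fun r : R => (⟨⟨((r : ↥(Subgroup.centralizer ({z} : Set G))) : G), (memK _).2 (hRtG r r.2)⟩,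
        (memRK _).2 ⟨r, r.2, rfl⟩⟩ : RK)) ⟨?_, ?_⟩)
    · intro r r' hrr
      have h1 : ((r : ↥(Subgroup.centralizer ({z} : Set G))) : G) = ((r' : ↥(Subgroup.centralizer ({z} : Set G))) : G) :=
        congrArg (fun k : RK => ((k : ↥(Subgroup.centralizer ({t} : Set G))) : G)) hrr
      exact Subtype.ext (Subtype.ext h1)
    · intro k
      obtain ⟨r, hr, hrk⟩ := (memRK k).1 k.2
      exact ⟨⟨r, hr⟩, Subtype.ext (Subtype.ext hrk)⟩
  have hsq' : ∀ r ∈ RK, r * r = 1 ∨ r * r = zK := by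
    intro r hr
    obtain ⟨r', hr', hrr⟩ := (memRK r).1 hr
    rcases hsq r' hr' with h1 | h1
    · left
      apply Subtype.ext
      show (r : G) * (r : G) = 1
      rw [← hrr]
      exact congrArg Subtype.val h1
    · right
      apply Subtype.ext
      show (r : G) * (r : G) = (zK : G)
      have h2 : (r' : G) * (r' : G) = (zC : G) := congrArg Subtype.val h1
      rw [hzC] at h2
      rw [← hrr, hzK]
      exact h2
  have hcomm' : ∀ r ∈ RK, ∀ s ∈ RK, r * s = s * r ∨ r * s = zK * (s * r) := by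
    intro r hr s hs
    obtain ⟨r', hr', hrr⟩ := (memRK r).1 hr
    obtain ⟨s', hs', hss⟩ := (memRK s).1 hs
    rcases hcomm r' hr' s' hs' with h1 | h1
    · left
      apply Subtype.ext
      show (r : G) * (s : G) = (s : G) * (r : G)
      rw [← hrr, ← hss]
      exact congrArg Subtype.val h1
    · right
      apply Subtype.ext
      show (r : G) * (s : G) = (zK : G) * ((s : G) * (r : G))
      have h2 : (r' : G) * (s' : G) = (zC : G) * ((s' : G) * (r' : G)) := congrArg Subtype.val h1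
      rw [hzC] at h2
      rw [← hrr, ← hss, hzK]
      exact h2
  have hcent' : ∀ x ∈ RK, (∀ r ∈ RK, r * x = x * r) → x = 1 ∨ x = zK ∨ x = tK ∨ x = zK * tK := by
    intro x hx hall
    obtain ⟨x', hx', hxx⟩ := (memRK x).1 hx
    have h1 : ∀ r ∈ R, r * x' = x' * r := by
      intro r hr
      have h2 := hall ⟨(r : G), (memK _).2 (hRtG r hr)⟩ ((memRK _).2 ⟨r, hr, rfl⟩)
      apply Subtype.ext
      show (r : G) * (x' : G) = (x' : G) * (r : G)
      rw [hxx]
      exact congrArg Subtype.val h2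
    exact (four_iff x x' hxx.symm).2 (hcent x' hx' h1)
  have hnonab' : ∃ x ∈ RK, ∃ y ∈ RK, x * y ≠ y * x := by
    obtain ⟨x, hx, y, hy, hxy⟩ := hnonab
    refine ⟨⟨(x : G), (memK _).2 (hRtG x hx)⟩, (memRK _).2 ⟨x, hx, rfl⟩,
      ⟨(y : G), (memK _).2 (hRtG y hy)⟩, (memRK _).2 ⟨y, hy, rfl⟩, ?_⟩
    intro h
    apply hxy
    apply Subtype.ext
    have h1 : (x : G) * (y : G) = (y : G) * (x : G) := congrArg Subtype.val h
    exact h1
  -- the comparison homomorphism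
  have hφ1 : ∀ h : ↥(Subgroup.centralizer ({zK} : Set ↥(Subgroup.centralizer ({t} : Set G)))),
      (((h : ↥(Subgroup.centralizer ({t} : Set G))) : G)) ∈ Subgroup.centralizer ({z} : Set G) := by
    intro h
    rw [memC]
    have h1 := Subgroup.mem_centralizer_iff.1 h.2 zK rfl
    have h2 : (zK : G) * ((h : ↥(Subgroup.centralizer ({t} : Set G))) : G) = ((h : ↥(Subgroup.centralizer ({t} : Set G))) : G) * (zK : G) := congrArg Subtype.val h1
    rw [hzK] at h2
    exact h2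
  have hφ2 : ∀ h : ↥(Subgroup.centralizer ({zK} : Set ↥(Subgroup.centralizer ({t} : Set G)))),
      (⟨((h : ↥(Subgroup.centralizer ({t} : Set G))) : G), hφ1 h⟩ : ↥(Subgroup.centralizer ({z} : Set G))) ∈ Subgroup.centralizer ({tC} : Set ↥(Subgroup.centralizer ({z} : Set G))) := by
    intro h
    rw [Subgroup.mem_centralizer_iff]
    intro y hy
    rw [Set.mem_singleton_iff] at hy
    rw [hy]
    apply Subtype.ext
    show (tC : G) * ((h : ↥(Subgroup.centralizer ({t} : Set G))) : G) = ((h : ↥(Subgroup.centralizer ({t} : Set G))) : G) * (tC : G)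
    rw [htC]
    exact (memK _).1 (h : ↥(Subgroup.centralizer ({t} : Set G))).2
  obtain ⟨φ, hφ⟩ : ∃ φ : ↥(Subgroup.centralizer ({zK} : Set ↥(Subgroup.centralizer ({t} : Set G)))) →*
      ↥(Subgroup.centralizer ({tC} : Set ↥(Subgroup.centralizer ({z} : Set G)))),
      ∀ h, (((φ h : ↥(Subgroup.centralizer ({tC} : Set ↥(Subgroup.centralizer ({z} : Set G))))) : ↥(Subgroup.centralizer ({z} : Set G))) : G) = ((h : ↥(Subgroup.centralizer ({t} : Set G))) : G) :=
    ⟨{ toFun := fun h => ⟨⟨((h : ↥(Subgroup.centralizer ({t} : Set G))) : G), hφ1 h⟩, hφ2 h⟩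
       map_one' := rfl
       map_mul' := fun a b => rfl }, fun h => rfl⟩
  have hφs : Function.Surjective φ := by
    intro c
    have h1 : t * ((c : ↥(Subgroup.centralizer ({z} : Set G))) : G) = ((c : ↥(Subgroup.centralizer ({z} : Set G))) : G) * t := by
      have h2 := Subgroup.mem_centralizer_iff.1 c.2 tC rfl
      have h3 : (tC : G) * ((c : ↥(Subgroup.centralizer ({z} : Set G))) : G) = ((c : ↥(Subgroup.centralizer ({z} : Set G))) : G) * (tC : G) := congrArg Subtype.val h2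
      rw [htC] at h3
      exact h3
    have h4 : (⟨((c : ↥(Subgroup.centralizer ({z} : Set G))) : G), (memK _).2 h1⟩ : ↥(Subgroup.centralizer ({t} : Set G))) ∈ Subgroup.centralizer ({zK} : Set ↥(Subgroup.centralizer ({t} : Set G))) := by
      rw [Subgroup.mem_centralizer_iff]
      intro y hy
      rw [Set.mem_singleton_iff] at hy
      rw [hy]
      apply Subtype.ext
      show (zK : G) * ((c : ↥(Subgroup.centralizer ({z} : Set G))) : G) = ((c : ↥(Subgroup.centralizer ({z} : Set G))) : G) * (zK : G)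
      rw [hzK]
      exact (memC _).1 (c : ↥(Subgroup.centralizer ({z} : Set G))).2
    refine ⟨⟨⟨((c : ↥(Subgroup.centralizer ({z} : Set G))) : G), (memK _).2 h1⟩, h4⟩, ?_⟩
    exact Subtype.ext (Subtype.ext (hφ _))
  have hρs' : Function.Surjective (ρ.comp φ) := by
    rw [MonoidHom.coe_comp]
    exact hρs.comp hφs
  have hρk' : ∀ h : ↥(Subgroup.centralizer ({zK} : Set ↥(Subgroup.centralizer ({t} : Set G)))),
      (ρ.comp φ) h = 1 ↔ (h : ↥(Subgroup.centralizer ({t} : Set G))) ∈ RK := by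
    intro h
    rw [MonoidHom.comp_apply, hρk, memRK]
    constructor
    · intro h1
      exact ⟨(φ h : ↥(Subgroup.centralizer ({z} : Set G))), h1, hφ h⟩
    · rintro ⟨r, hr, hrr⟩
      have h2 : r = (φ h : ↥(Subgroup.centralizer ({z} : Set G))) := Subtype.ext (hrr.trans (hφ h).symm)
      rw [← h2]
      exact hr
  obtain ⟨ΨK, hΨK⟩ : ∃ ΨK : ↥leechPerpU → ↥(Subgroup.centralizer ({t} : Set G)), ∀ x, ((ΨK x : ↥(Subgroup.centralizer ({t} : Set G))) : G) = ((Ψ x : ↥(Subgroup.centralizer ({z} : Set G))) : G) :=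
    ⟨fun x => ⟨(Ψ x : G), (memK _).2 (hRtG (Ψ x) (hΨR x))⟩, fun x => rfl⟩
  have hΨR' : ∀ x, ΨK x ∈ RK := fun x => (memRK _).2 ⟨Ψ x, hΨR x, (hΨK x).symm⟩
  have hΨadd' : ∀ x y, ∃ c : ↥(Subgroup.centralizer ({t} : Set G)), (c = 1 ∨ c = zK ∨ c = tK ∨ c = zK * tK) ∧
      ΨK (x + y) = c * (ΨK x * ΨK y) := by
    intro x y
    obtain ⟨c, hc, hxy⟩ := hΨadd x y
    refine ⟨⟨(c : G), (memK _).2 (four_comm c hc)⟩, (four_iff _ c rfl).2 hc, ?_⟩
    apply Subtype.ext
    show ((ΨK (x + y) : ↥(Subgroup.centralizer ({t} : Set G))) : G) = (c : G) * (((ΨK x : ↥(Subgroup.centralizer ({t} : Set G))) : G) * ((ΨK y : ↥(Subgroup.centralizer ({t} : Set G))) : G))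
    rw [hΨK, hΨK, hΨK]
    exact congrArg Subtype.val hxy
  have hΨsurj' : ∀ r ∈ RK, ∃ x, ∃ c : ↥(Subgroup.centralizer ({t} : Set G)), (c = 1 ∨ c = zK ∨ c = tK ∨ c = zK * tK) ∧
      r = c * ΨK x := by
    intro r hr
    obtain ⟨r', hr', hrr⟩ := (memRK r).1 hr
    obtain ⟨x, c, hc, hrc⟩ := hΨsurj r' hr'
    refine ⟨x, ⟨(c : G), (memK _).2 (four_comm c hc)⟩, (four_iff _ c rfl).2 hc, ?_⟩
    apply Subtype.ext
    show (r : G) = (c : G) * ((ΨK x : ↥(Subgroup.centralizer ({t} : Set G))) : G)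
    rw [← hrr, hΨK]
    exact congrArg Subtype.val hrc
  have hΨker' : ∀ x : ↥leechPerpU, (ΨK x = 1 ∨ ΨK x = zK ∨ ΨK x = tK ∨ ΨK x = zK * tK) ↔
        ((∃ w : ↥leechLattice, (x : ↥leechLattice) = w + w) ∨
         ∃ w : ↥leechLattice, (x : ↥leechLattice) = Spor.leechU + (w + w)) :=
    fun x => (four_iff (ΨK x) (Ψ x) (hΨK x)).trans (hΨker x)
  have hΨeq' : ∀ (h : ↥(Subgroup.centralizer ({zK} : Set ↥(Subgroup.centralizer ({t} : Set G))))) (x y : ↥leechPerpU),
        ((ρ.comp φ) h) • (x : ↥leechLattice) = (y : ↥leechLattice) →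
        ∃ c : ↥(Subgroup.centralizer ({t} : Set G)), (c = 1 ∨ c = zK ∨ c = tK ∨ c = zK * tK) ∧
          (h : ↥(Subgroup.centralizer ({t} : Set G))) * ΨK x * (h : ↥(Subgroup.centralizer ({t} : Set G)))⁻¹ = c * ΨK y := by
    intro h x y hxy
    obtain ⟨c, hc, hcc⟩ := hΨeq (φ h) x y hxy
    refine ⟨⟨(c : G), (memK _).2 (four_comm c hc)⟩, (four_iff _ c rfl).2 hc, ?_⟩
    apply Subtype.ext
    show ((h : ↥(Subgroup.centralizer ({t} : Set G))) : G) * ((ΨK x : ↥(Subgroup.centralizer ({t} : Set G))) : G) * ((h : ↥(Subgroup.centralizer ({t} : Set G))) : G)⁻¹ = (c : G) * ((ΨK y : ↥(Subgroup.centralizer ({t} : Set G))) : G)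
    rw [hΨK, hΨK, ← hφ h]
    exact congrArg Subtype.val hcc
  have hCQ' : ∀ h : ↥(Subgroup.centralizer ({t} : Set G)), h * zK = zK * h →
      (∀ r ∈ RK, h * r * h⁻¹ * r⁻¹ ∈
        (Subgroup.zpowers t).subgroupOf (Subgroup.centralizer ({t} : Set G))) → h ∈ RK := by
    intro h hh hall
    have hhz : z * (h : G) = (h : G) * z := by
      have h1 : (h : G) * (zK : G) = (zK : G) * (h : G) := congrArg Subtype.val hh
      rw [hzK] at h1
      exact h1.symm
    have hht : t * (h : G) = (h : G) * t := (memK h).1 h.2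
    obtain ⟨hC', hhC'⟩ : ∃ hC' : ↥(Subgroup.centralizer ({z} : Set G)), (hC' : G) = (h : G) := ⟨⟨(h : G), (memC _).2 hhz⟩, rfl⟩
    have h1 : hC' * tC = tC * hC' := by
      apply Subtype.ext
      show (hC' : G) * (tC : G) = (tC : G) * (hC' : G)
      rw [htC, hhC']
      exact hht.symm
    have h2 : ∀ r ∈ R, hC' * r * hC'⁻¹ * r⁻¹ = 1 ∨ hC' * r * hC'⁻¹ * r⁻¹ = tC := by
      intro r hr
      have h3 := hall ⟨(r : G), (memK _).2 (hRtG r hr)⟩ ((memRK _).2 ⟨r, hr, rfl⟩)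
      rcases (hT _).1 h3 with h4 | h4
      · left
        apply Subtype.ext
        show (hC' : G) * (r : G) * (hC' : G)⁻¹ * (r : G)⁻¹ = 1
        rw [hhC']
        exact congrArg Subtype.val h4
      · right
        apply Subtype.ext
        show (hC' : G) * (r : G) * (hC' : G)⁻¹ * (r : G)⁻¹ = (tC : G)
        have h5 : (h : G) * (r : G) * (h : G)⁻¹ * (r : G)⁻¹ = (tK : G) := congrArg Subtype.val h4
        rw [htK] at h5
        rw [hhC', htC]
        exact h5
    exact (memRK _).2 ⟨hC', hCQ hC' h1 h2, hhC'⟩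
  have hnwc' : ∃ g : ↥(Subgroup.centralizer ({t} : Set G)), g * zK * g⁻¹ ∈ RK ∧ g * zK * g⁻¹ ≠ zK := by
    obtain ⟨g, hgt, ⟨hc, hgR⟩, hgz⟩ := hnwc
    have hgK : g ∈ Subgroup.centralizer ({t} : Set G) := (memK g).2 hgt.symm
    refine ⟨⟨g, hgK⟩, (memRK _).2 ⟨⟨g * z * g⁻¹, hc⟩, hgR, ?_⟩, ?_⟩
    · show g * z * g⁻¹ = g * (zK : G) * g⁻¹
      rw [hzK]
    · intro h
      apply hgz
      have h1 : g * (zK : G) * g⁻¹ = (zK : G) := congrArg Subtype.val h
      rw [hzK] at h1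
      exact h1
  exact Cfsg.Agent.Lib.helper13.bm_quot
    ((Subgroup.zpowers t).subgroupOf (Subgroup.centralizer ({t} : Set G))) tK zK hT ht1' htc
    hzz' hz1' hzt' hnc' RK htR' hzR' hRC hRn' hcard' hsq' hcomm' hcent' hnonab' (ρ.comp φ) hρs'
    hρk' hO2 ΨK hΨR' hΨadd' hΨsurj' hΨker' hΨeq' hCQ' hnwc'

end Cfsg.Agent.Lib.helper52
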