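import Mathlib

/-!
# A coprime automorphism centralizing the centralizer of an involution (helper52)

Let `α` be an automorphism of prime order `r` of a finite group `G` with `r ∤ |G|`, `F` its fixed
subgroup, and `τ` an involution with `C_G(τ) ≤ F`.

* `fixed_of_conj_fixed`: `g τ g⁻¹ ∈ F → g ∈ F` (so every conjugate of `τ` fixes exactly one coset
  of `F`).
* `fixed_of_conj_le`: an `α`-invariant subgroup one of whose conjugates lies in `F` lies in `F`.
* `common_fix` (the midpoint lemma): two involutions `d, d'` with `d⁻¹ d' ∈ F` are simultaneously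
  conjugate into `F`.
* `smul_eq_of_fixed`: any two conjugates of `τ` lying in `F` induce the same permutation of `G ⧸ F`.
* `mem_normalCore`: hence their quotient lies in the normal core of `F`.
-/

set_option autoImplicit false

namespace Cfsg.Agent.Lib.helper52.CoprimeInv

open scoped Pointwise

variable {G : Type*} [Group G]

/-- The subgroup of fixed points of an automorphism. -/
def fixSub (α : MulAut G) : Subgroup G where
  carrier := {x | α x = x}
  mul_mem' := by
    intro a b ha hb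
    simp only [Set.mem_ofPred_eq] at *
    rw [map_mul, ha, hb]
  one_mem' := map_one α
  inv_mem' := by
    intro a ha
    simp only [Set.mem_ofPred_eq] at *
    rw [map_inv, ha]

lemma mem_fixSub {α : MulAut G} {x : G} : x ∈ fixSub α ↔ α x = x := Iff.rfl

lemma pow_apply_of_fixed (α : MulAut G) {c : G} (hc : α c = c) (k : ℕ) : (α ^ k) c = c := by
  induction k with
  | zero => simp
  | succ k ih => rw [pow_succ, MulAut.mul_apply, hc, ih]

lemma pow_apply_mul (α : MulAut G) {g c : G} (hc : α c = c) (hg : α g = g * c) (k : ℕ) :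
    (α ^ k) g = g * c ^ k := by
  induction k with
  | zero => simp
  | succ k ih =>
    rw [pow_succ, MulAut.mul_apply, hg, map_mul, ih, pow_apply_of_fixed α hc, pow_succ, mul_assoc]

lemma eq_one_of_twist [Finite G] (α : MulAut G) {r : ℕ} (hαr : α ^ r = 1)
    (hcop : Nat.Coprime r (Nat.card G)) {g c : G} (hc : α c = c) (hg : α g = g * c) : c = 1 := by
  have h1 := pow_apply_mul α hc hg r
  rw [hαr, MulAut.one_apply] at h1
  have h2 : c ^ r = 1 := by
    have h3 : g * 1 = g * c ^ r := by rw [mul_one]; exact h1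
    exact (mul_left_cancel h3).symm
  have h3 : orderOf c ∣ r := orderOf_dvd_of_pow_eq_one h2
  have h4 : orderOf c ∣ Nat.card G := orderOf_dvd_natCard c
  have h5 : orderOf c ∣ 1 := by
    have := Nat.dvd_gcd h3 h4
    rwa [hcop.gcd_eq_one] at this
  exact orderOf_eq_one_iff.mp (Nat.dvd_one.mp h5)

/-- If `α` fixes `C_G(τ)` elementwise and fixes `g τ g⁻¹`, then it fixes `g`. -/
lemma fixed_of_conj_fixed [Finite G] (α : MulAut G) {r : ℕ} (hαr : α ^ r = 1)
    (hcop : Nat.Coprime r (Nat.card G)) (τ : G)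
    (hC : ∀ c : G, c * τ = τ * c → α c = c) {g : G}
    (h : α (g * τ * g⁻¹) = g * τ * g⁻¹) : α g = g := by
  have hτ : α τ = τ := hC τ rfl
  have hcomm : (g⁻¹ * α g) * τ = τ * (g⁻¹ * α g) := by
    rw [map_mul, map_mul, map_inv, hτ] at h
    calc g⁻¹ * α g * τ = g⁻¹ * (α g * τ * (α g)⁻¹) * α g := by group
      _ = g⁻¹ * (g * τ * g⁻¹) * α g := by rw [h]
      _ = τ * (g⁻¹ * α g) := by group
  have hc : α (g⁻¹ * α g) = g⁻¹ * α g := hC _ hcomm
  have hg : α g = g * (g⁻¹ * α g) := by group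
  have h1 := eq_one_of_twist α hαr hcop hc hg
  rw [hg, h1, mul_one]

/-- An `α`-invariant subgroup with a conjugate inside the fixed subgroup is fixed elementwise. -/
lemma fixed_of_conj_le [Finite G] (α : MulAut G) {r : ℕ} (hαr : α ^ r = 1)
    (hcop : Nat.Coprime r (Nat.card G)) (T : Subgroup G) (hT : ∀ x ∈ T, α x ∈ T) (g : G)
    (hg : ∀ x ∈ T, α (g⁻¹ * x * g) = g⁻¹ * x * g) : ∀ x ∈ T, α x = x := by
  have h1 : ∀ x ∈ T, α x = (α g * g⁻¹) * x * (α g * g⁻¹)⁻¹ := by
    intro x hx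
    have h := hg x hx
    rw [map_mul, map_mul, map_inv] at h
    calc α x = α g * ((α g)⁻¹ * α x * α g) * (α g)⁻¹ := by group
      _ = α g * (g⁻¹ * x * g) * (α g)⁻¹ := by rw [h]
      _ = (α g * g⁻¹) * x * (α g * g⁻¹)⁻¹ := by group
  have h2 : ∀ j : ℕ, ∀ x ∈ T, (α ^ j) x = (α g * g⁻¹) ^ j * x * ((α g * g⁻¹) ^ j)⁻¹ := by
    intro j
    induction j with
    | zero => intro x _; simp
    | succ j ih =>
      intro x hx
      rw [pow_succ, MulAut.mul_apply, ih (α x) (hT x hx), h1 x hx, pow_succ]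
      group
  intro x hx
  have h3 : (α ^ orderOf (α g * g⁻¹)) x = x := by
    rw [h2 _ x hx, pow_orderOf_eq_one]; group
  have h4 : (α ^ r) x = x := by rw [hαr, MulAut.one_apply]
  have hco : Nat.Coprime (orderOf (α g * g⁻¹)) r :=
    Nat.Coprime.coprime_dvd_left (orderOf_dvd_natCard _) hcop.symm
  have hS1 : α ^ orderOf (α g * g⁻¹) ∈ MulAction.stabilizer (MulAut G) x := by
    rw [MulAction.mem_stabilizer_iff, MulAut.smul_def]; exact h3
  have hS2 : α ^ r ∈ MulAction.stabilizer (MulAut G) x := by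
    rw [MulAction.mem_stabilizer_iff, MulAut.smul_def]; exact h4
  have hS : α ∈ MulAction.stabilizer (MulAut G) x := by
    have e : α = (α ^ orderOf (α g * g⁻¹)) ^ (Nat.gcdA (orderOf (α g * g⁻¹)) r)
        * (α ^ r) ^ (Nat.gcdB (orderOf (α g * g⁻¹)) r) := by
      calc α = α ^ (1 : ℤ) := (zpow_one α).symm
        _ = α ^ ((orderOf (α g * g⁻¹) : ℤ) * Nat.gcdA (orderOf (α g * g⁻¹)) r
              + (r : ℤ) * Nat.gcdB (orderOf (α g * g⁻¹)) r) := by
            rw [← Nat.gcd_eq_gcd_ab, hco.gcd_eq_one, Nat.cast_one]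
        _ = _ := by rw [zpow_add, zpow_mul, zpow_mul, zpow_natCast, zpow_natCast]
    rw [e]
    exact mul_mem (zpow_mem hS1 _) (zpow_mem hS2 _)
  rw [MulAction.mem_stabilizer_iff, MulAut.smul_def] at hS
  exact hS

lemma smul_coe_eq_iff (F : Subgroup G) (x h h' : G) :
    x • (h : G ⧸ F) = (h' : G ⧸ F) ↔ h'⁻¹ * x * h ∈ F := by
  rw [MulAction.Quotient.smul_coe, smul_eq_mul, QuotientGroup.eq]
  constructor
  · intro hh
    have := F.inv_mem hh
    convert this using 1
    group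
  · intro hh
    have := F.inv_mem hh
    convert this using 1
    group

/-- A conjugate `g τ g⁻¹` fixes exactly the coset `g F`. -/
lemma conj_smul_eq_iff [Finite G] (α : MulAut G) {r : ℕ} (hαr : α ^ r = 1)
    (hcop : Nat.Coprime r (Nat.card G)) (τ : G)
    (hC : ∀ c : G, c * τ = τ * c → α c = c) (g : G) (q : G ⧸ fixSub α) :
    (g * τ * g⁻¹) • q = q ↔ q = (g : G ⧸ fixSub α) := by
  obtain ⟨h, rfl⟩ := QuotientGroup.mk_surjective q
  rw [smul_coe_eq_iff, QuotientGroup.eq, mem_fixSub, mem_fixSub]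
  have e : h⁻¹ * (g * τ * g⁻¹) * h = (h⁻¹ * g) * τ * (h⁻¹ * g)⁻¹ := by group
  rw [e]
  constructor
  · intro hh
    exact fixed_of_conj_fixed α hαr hcop τ hC hh
  · intro hh
    rw [map_mul, map_mul, map_inv, hh, hC τ rfl]

lemma odd_card_quot [Finite G] (α : MulAut G) {r : ℕ} (hαr : α ^ r = 1)
    (hcop : Nat.Coprime r (Nat.card G)) (τ : G) (hτ : orderOf τ = 2)
    (hC : ∀ c : G, c * τ = τ * c → α c = c) : ¬ 2 ∣ Nat.card (G ⧸ fixSub α) := by
  have : Fact (Nat.Prime 2) := ⟨Nat.prime_two⟩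
  have hP : IsPGroup 2 (Subgroup.zpowers τ) :=
    IsPGroup.of_card (n := 1) (by rw [Nat.card_zpowers, hτ, pow_one])
  have h1 := hP.card_modEq_card_fixedPoints (G ⧸ fixSub α)
  have h2 : MulAction.fixedPoints (Subgroup.zpowers τ) (G ⧸ fixSub α)
      = {((1 : G) : G ⧸ fixSub α)} := by
    ext q
    rw [MulAction.mem_fixedPoints, Set.mem_singleton_iff]
    constructor
    · intro hq
      have h3 : τ • q = q := hq ⟨τ, Subgroup.mem_zpowers τ⟩
      have e : τ = 1 * τ * 1⁻¹ := by group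
      rw [e] at h3
      exact (conj_smul_eq_iff α hαr hcop τ hC 1 q).mp h3
    · rintro rfl ⟨x, hx⟩
      show x • ((1 : G) : G ⧸ fixSub α) = ((1 : G) : G ⧸ fixSub α)
      rw [smul_coe_eq_iff]
      obtain ⟨k, rfl⟩ := Subgroup.mem_zpowers_iff.mp hx
      have h3 : τ ∈ fixSub α := hC τ rfl
      simpa using (fixSub α).zpow_mem h3 k
  rw [h2] at h1
  have h3 : Nat.card ({((1 : G) : G ⧸ fixSub α)} : Set (G ⧸ fixSub α)) = 1 := by
    simp
  rw [h3] at h1
  intro hd
  have := Nat.mod_eq_zero_of_dvd hd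
  unfold Nat.ModEq at h1
  omega

/-- Every `2`-subgroup has a conjugate inside the fixed subgroup. -/
lemma exists_conj_fixed [Finite G] (α : MulAut G) {r : ℕ} (hαr : α ^ r = 1)
    (hcop : Nat.Coprime r (Nat.card G)) (τ : G) (hτ : orderOf τ = 2)
    (hC : ∀ c : G, c * τ = τ * c → α c = c) (T : Subgroup G) (hT : IsPGroup 2 T) :
    ∃ g : G, ∀ x ∈ T, α (g⁻¹ * x * g) = g⁻¹ * x * g := by
  have : Fact (Nat.Prime 2) := ⟨Nat.prime_two⟩
  obtain ⟨q, hq⟩ := hT.nonempty_fixed_point_of_prime_not_dvd_card (G ⧸ fixSub α)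
    (odd_card_quot α hαr hcop τ hτ hC)
  obtain ⟨g, rfl⟩ := QuotientGroup.mk_surjective q
  refine ⟨g, fun x hx => ?_⟩
  have h1 : x • (g : G ⧸ fixSub α) = (g : G ⧸ fixSub α) := hq ⟨x, hx⟩
  rw [smul_coe_eq_iff] at h1
  exact h1

/-- The restriction of an automorphism to an invariant subgroup. -/
noncomputable def restrictAut [Finite G] (α : MulAut G) (N : Subgroup G)
    (hN : ∀ x ∈ N, α x ∈ N) : MulAut N :=
  MulEquiv.ofBijective
    ((α.toMonoidHom.comp N.subtype).codRestrict N (fun x => hN x x.2))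
    (by
      have hinj : Function.Injective
          ((α.toMonoidHom.comp N.subtype).codRestrict N (fun x => hN x x.2)) := by
        intro a b hab
        have h1 := congrArg Subtype.val hab
        have h2 : α (a : G) = α (b : G) := h1
        exact Subtype.ext (α.injective h2)
      exact ⟨hinj, Finite.surjective_of_injective hinj⟩)

lemma restrictAut_apply [Finite G] (α : MulAut G) (N : Subgroup G)
    (hN : ∀ x ∈ N, α x ∈ N) (x : N) : ((restrictAut α N hN x : N) : G) = α (x : G) := rfl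

lemma restrictAut_pow_apply [Finite G] (α : MulAut G) (N : Subgroup G)
    (hN : ∀ x ∈ N, α x ∈ N) (k : ℕ) (x : N) :
    ((((restrictAut α N hN) ^ k) x : N) : G) = (α ^ k) (x : G) := by
  induction k generalizing x with
  | zero => simp
  | succ k ih =>
    rw [pow_succ, MulAut.mul_apply, ih, restrictAut_apply, pow_succ, MulAut.mul_apply]

/-- An invariant subgroup has an invariant Sylow `2`-subgroup. -/
lemma exists_invariant_sylow [Finite G] (α : MulAut G) {r : ℕ} (hr : r.Prime) (hαr : α ^ r = 1)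
    (hcop : Nat.Coprime r (Nat.card G)) (N : Subgroup G) (hN : ∀ x ∈ N, α x ∈ N) :
    ∃ P : Sylow 2 N, ∀ x ∈ P, restrictAut α N hN x ∈ P := by
  have : Fact r.Prime := ⟨hr⟩
  have : Fact (Nat.Prime 2) := ⟨Nat.prime_two⟩
  have hβ : (restrictAut α N hN) ^ r = 1 := by
    ext x
    rw [restrictAut_pow_apply, hαr]
    rfl
  have hP : IsPGroup r (Subgroup.zpowers (restrictAut α N hN)) := by
    have h1 : orderOf (restrictAut α N hN) ∣ r := orderOf_dvd_of_pow_eq_one hβ
    rcases (Nat.dvd_prime hr).mp h1 with h | h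
    · exact IsPGroup.of_card (n := 0) (by rw [Nat.card_zpowers, h, pow_zero])
    · exact IsPGroup.of_card (n := 1) (by rw [Nat.card_zpowers, h, pow_one])
  have hcard : ¬ r ∣ Nat.card (Sylow 2 N) := by
    intro hd
    obtain ⟨P⟩ : Nonempty (Sylow 2 N) := inferInstance
    have h1 : Nat.card (Sylow 2 N) ∣ Nat.card N :=
      (P.card_dvd_index).trans (Subgroup.index_dvd_card _)
    have h2 : Nat.card N ∣ Nat.card G := Subgroup.card_subgroup_dvd_card N
    have h3 : r ∣ Nat.card G := hd.trans (h1.trans h2)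
    have h4 : r ∣ 1 := by
      have := Nat.dvd_gcd dvd_rfl h3
      rwa [hcop.gcd_eq_one] at this
    exact hr.one_lt.ne' (Nat.dvd_one.mp h4)
  obtain ⟨P, hPfix⟩ := hP.nonempty_fixed_point_of_prime_not_dvd_card (Sylow 2 N) hcard
  refine ⟨P, fun x hx => ?_⟩
  have h1 : (restrictAut α N hN) • P = P :=
    hPfix ⟨restrictAut α N hN, Subgroup.mem_zpowers _⟩
  have h2 : restrictAut α N hN x ∈ ((restrictAut α N hN • P : Sylow 2 N) : Subgroup N) := by
    rw [Sylow.pointwise_smul_def]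
    exact Subgroup.smul_mem_pointwise_smul x (restrictAut α N hN) P hx
  rw [h1] at h2
  exact h2

/-- An involution of `N` is `N`-conjugate into any given Sylow `2`-subgroup of `N`. -/
lemma exists_conj_mem_sylow [Finite G] (N : Subgroup G) (P : Sylow 2 N) (d : N)
    (hd : d * d = 1) : ∃ y : N, y⁻¹ * d * y ∈ P := by
  have : Fact (Nat.Prime 2) := ⟨Nat.prime_two⟩
  have hz : IsPGroup 2 (Subgroup.zpowers d) := by
    have h1 : orderOf d ∣ 2 := orderOf_dvd_of_pow_eq_one (by rw [pow_two]; exact hd)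
    rcases (Nat.dvd_prime Nat.prime_two).mp h1 with h | h
    · exact IsPGroup.of_card (n := 0) (by rw [Nat.card_zpowers, h, pow_zero])
    · exact IsPGroup.of_card (n := 1) (by rw [Nat.card_zpowers, h, pow_one])
  obtain ⟨Q, hQ⟩ := hz.exists_le_sylow
  obtain ⟨y, hy⟩ := MulAction.exists_smul_eq N P Q
  refine ⟨y, ?_⟩
  have h1 : d ∈ (Q : Subgroup N) := hQ (Subgroup.mem_zpowers d)
  rw [← hy, Sylow.smul_def, Sylow.pointwise_smul_def,
    Subgroup.mem_pointwise_smul_iff_inv_smul_mem] at h1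
  have e : (MulAut.conj y)⁻¹ • d = y⁻¹ * d * y := by
    rw [MulAut.smul_def, MulAut.conj_inv_apply]
  rwa [e] at h1

/-- Auxiliary form of the midpoint lemma, for an `α`-invariant subgroup `N` containing the
involution `d` and all of whose elements conjugate `f` into the fixed subgroup. -/
lemma common_fix_aux [Finite G] (α : MulAut G) {r : ℕ} (hr : r.Prime) (hαr : α ^ r = 1)
    (hcop : Nat.Coprime r (Nat.card G)) (τ : G) (hτ : orderOf τ = 2)
    (hC : ∀ c : G, c * τ = τ * c → α c = c) (N : Subgroup G) (hN : ∀ x ∈ N, α x ∈ N)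
    {d f : G} (hd : d * d = 1) (hdN : d ∈ N)
    (hf : ∀ y ∈ N, α (y⁻¹ * f * y) = y⁻¹ * f * y) :
    ∃ y : G, α (y⁻¹ * d * y) = y⁻¹ * d * y ∧ α (y⁻¹ * (d * f) * y) = y⁻¹ * (d * f) * y := by
  obtain ⟨P, hP⟩ := exists_invariant_sylow α hr hαr hcop N hN
  -- the image of `P` in `G` is fixed by `α`
  have hPfix : ∀ x ∈ (P : Subgroup N).map N.subtype, α x = x := by
    have hT : IsPGroup 2 ((P : Subgroup N).map N.subtype) := P.isPGroup'.map _
    obtain ⟨g, hg⟩ := exists_conj_fixed α hαr hcop τ hτ hC _ hT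
    refine fixed_of_conj_le α hαr hcop _ ?_ g hg
    intro x hx
    obtain ⟨x', hx', rfl⟩ := Subgroup.mem_map.mp hx
    exact Subgroup.mem_map.mpr ⟨restrictAut α N hN x', hP x' hx', rfl⟩
  obtain ⟨y, hy⟩ := exists_conj_mem_sylow N P ⟨d, hdN⟩ (Subtype.ext hd)
  have h1 : α ((y : G)⁻¹ * d * y) = (y : G)⁻¹ * d * y :=
    hPfix _ (Subgroup.mem_map.mpr ⟨_, hy, rfl⟩)
  refine ⟨(y : G), h1, ?_⟩
  have e : (y : G)⁻¹ * (d * f) * y = ((y : G)⁻¹ * d * y) * ((y : G)⁻¹ * f * y) := by group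
  rw [e, map_mul, h1, hf y y.2]

/-- The midpoint lemma: two involutions whose quotient is fixed by `α` are simultaneously
conjugate into the fixed subgroup. -/
lemma common_fix [Finite G] (α : MulAut G) {r : ℕ} (hr : r.Prime) (hαr : α ^ r = 1)
    (hcop : Nat.Coprime r (Nat.card G)) (τ : G) (hτ : orderOf τ = 2)
    (hC : ∀ c : G, c * τ = τ * c → α c = c) {d d' : G} (hd : d * d = 1) (hd' : d' * d' = 1)
    (hf : α (d⁻¹ * d') = d⁻¹ * d') :
    ∃ y : G, α (y⁻¹ * d * y) = y⁻¹ * d * y ∧ α (y⁻¹ * d' * y) = y⁻¹ * d' * y := by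
  have hdinv : d⁻¹ = d := inv_eq_of_mul_eq_one_left hd
  have hd'inv : d'⁻¹ = d' := inv_eq_of_mul_eq_one_left hd'
  have hconj : d * (d⁻¹ * d') * d⁻¹ = (d⁻¹ * d')⁻¹ := by
    rw [mul_inv_rev, inv_inv, hdinv, hd'inv, ← mul_assoc, hd, one_mul]
  have hconjz : ∀ k : ℤ, d * (d⁻¹ * d') ^ k * d⁻¹ = (d⁻¹ * d') ^ (-k) := by
    intro k
    rw [← MulAut.conj_apply, map_zpow, MulAut.conj_apply, hconj, inv_zpow, zpow_neg]
  have hdN : d ∈ Subgroup.normalizer ((Subgroup.zpowers (d⁻¹ * d') : Subgroup G) : Set G) := by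
    rw [Subgroup.mem_set_normalizer_iff]
    intro x
    constructor
    · intro hx
      obtain ⟨k, rfl⟩ := Subgroup.mem_zpowers_iff.mp hx
      rw [hconjz]
      exact Subgroup.zpow_mem_zpowers _ _
    · intro hx
      obtain ⟨k, hk⟩ := Subgroup.mem_zpowers_iff.mp hx
      have e : x = (d⁻¹ * d') ^ (-k) := by
        rw [← hconjz, hk, hdinv]
        calc x = (d * d) * x * (d * d) := by rw [hd, one_mul, mul_one]
          _ = d * (d * x * d) * d := by group
      rw [e]
      exact Subgroup.zpow_mem_zpowers _ _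
  have hz : ∀ n : G, n ∈ Subgroup.zpowers (d⁻¹ * d') → α n = n := by
    intro n hn
    obtain ⟨k, rfl⟩ := Subgroup.mem_zpowers_iff.mp hn
    rw [map_zpow, hf]
  have hz' : ∀ n : G, n ∈ Subgroup.zpowers (d⁻¹ * d') → α.symm n = n := by
    intro n hn
    rw [MulEquiv.symm_apply_eq, hz n hn]
  have hNinv : ∀ x ∈ Subgroup.normalizer ((Subgroup.zpowers (d⁻¹ * d') : Subgroup G) : Set G),
      α x ∈ Subgroup.normalizer ((Subgroup.zpowers (d⁻¹ * d') : Subgroup G) : Set G) := by
    intro x hx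
    rw [Subgroup.mem_set_normalizer_iff] at hx ⊢
    intro n
    constructor
    · intro hn
      have h1 := (hx n).mp hn
      have h2 := hz _ h1
      rw [map_mul, map_mul, map_inv, hz n hn] at h2
      rw [SetLike.mem_coe, h2]
      exact h1
    · intro hn
      have h1 : α.symm (α x * n * (α x)⁻¹) = x * α.symm n * x⁻¹ := by
        rw [map_mul, map_mul, map_inv, MulEquiv.symm_apply_apply]
      have h2 := hz' _ hn
      rw [h1] at h2
      have h3 : x * α.symm n * x⁻¹ ∈ Subgroup.zpowers (d⁻¹ * d') := by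
        rw [h2]; exact hn
      have h4 := (hx (α.symm n)).mpr h3
      have h5 := hz _ h4
      rw [MulEquiv.apply_symm_apply] at h5
      rw [SetLike.mem_coe, h5]
      exact h4
  have hfN : ∀ y ∈ Subgroup.normalizer ((Subgroup.zpowers (d⁻¹ * d') : Subgroup G) : Set G),
      α (y⁻¹ * (d⁻¹ * d') * y) = y⁻¹ * (d⁻¹ * d') * y := by
    intro y hy
    rw [Subgroup.mem_set_normalizer_iff''] at hy
    exact hz _ ((hy _).mp (Subgroup.mem_zpowers _))
  obtain ⟨y, hy1, hy2⟩ := common_fix_aux α hr hαr hcop τ hτ hC _ hNinv hd hdN hfN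
  refine ⟨y, hy1, ?_⟩
  have e : d * (d⁻¹ * d') = d' := by group
  rw [e] at hy2
  exact hy2

/-- If two involutions move a coset of the fixed subgroup to the same coset, they have a common
fixed coset. -/
lemma common_fixed_point [Finite G] (α : MulAut G) {r : ℕ} (hr : r.Prime) (hαr : α ^ r = 1)
    (hcop : Nat.Coprime r (Nat.card G)) (τ : G) (hτ : orderOf τ = 2)
    (hC : ∀ c : G, c * τ = τ * c → α c = c) {d d' : G} (hd : d * d = 1) (hd' : d' * d' = 1)
    (p : G ⧸ fixSub α) (hp : d • p = d' • p) :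
    ∃ c : G ⧸ fixSub α, d • c = c ∧ d' • c = c := by
  obtain ⟨h, rfl⟩ := QuotientGroup.mk_surjective p
  rw [MulAction.Quotient.smul_coe, MulAction.Quotient.smul_coe, smul_eq_mul, smul_eq_mul,
    QuotientGroup.eq, mem_fixSub] at hp
  have h1 : (h⁻¹ * d * h) * (h⁻¹ * d * h) = 1 := by
    calc (h⁻¹ * d * h) * (h⁻¹ * d * h) = h⁻¹ * (d * d) * h := by group
      _ = 1 := by rw [hd]; group
  have h2 : (h⁻¹ * d' * h) * (h⁻¹ * d' * h) = 1 := by
    calc (h⁻¹ * d' * h) * (h⁻¹ * d' * h) = h⁻¹ * (d' * d') * h := by group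
      _ = 1 := by rw [hd']; group
  have h3 : α ((h⁻¹ * d * h)⁻¹ * (h⁻¹ * d' * h)) = (h⁻¹ * d * h)⁻¹ * (h⁻¹ * d' * h) := by
    have e : (h⁻¹ * d * h)⁻¹ * (h⁻¹ * d' * h) = (d * h)⁻¹ * (d' * h) := by group
    rw [e]; exact hp
  obtain ⟨y, hy1, hy2⟩ := common_fix α hr hαr hcop τ hτ hC h1 h2 h3
  refine ⟨((h * y : G) : G ⧸ fixSub α), ?_, ?_⟩
  · rw [smul_coe_eq_iff, mem_fixSub]
    have e : (h * y)⁻¹ * d * (h * y) = y⁻¹ * (h⁻¹ * d * h) * y := by group
    rw [e]; exact hy1
  · rw [smul_coe_eq_iff, mem_fixSub]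
    have e : (h * y)⁻¹ * d' * (h * y) = y⁻¹ * (h⁻¹ * d' * h) * y := by group
    rw [e]; exact hy2

/-- Any two conjugates of `τ` with the same fixed coset induce the same permutation of `G ⧸ F`. -/
lemma smul_eq_of_conj [Finite G] (α : MulAut G) {r : ℕ} (hr : r.Prime) (hαr : α ^ r = 1)
    (hcop : Nat.Coprime r (Nat.card G)) (τ : G) (hτ : orderOf τ = 2)
    (hC : ∀ c : G, c * τ = τ * c → α c = c) (g₁ g₂ : G)
    (hg : (g₁ : G ⧸ fixSub α) = (g₂ : G ⧸ fixSub α)) (p : G ⧸ fixSub α) :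
    (g₁ * τ * g₁⁻¹) • p = (g₂ * τ * g₂⁻¹) • p := by
  classical
  have hττ : τ * τ = 1 := by rw [← pow_two, ← hτ, pow_orderOf_eq_one]
  have hinv : ∀ g : G, (g * τ * g⁻¹) * (g * τ * g⁻¹) = 1 := by
    intro g
    calc (g * τ * g⁻¹) * (g * τ * g⁻¹) = g * (τ * τ) * g⁻¹ := by group
      _ = 1 := by rw [hττ]; group
  -- the key claim: for every conjugate whose fixed coset is not `p`
  have key : ∀ g : G, (g : G ⧸ fixSub α) ≠ p →
      (g * τ * g⁻¹) • p = ((g : G ⧸ fixSub α).out * τ * ((g : G ⧸ fixSub α).out)⁻¹) • p := by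
    intro g hgp
    -- the map `q ↦ t_q • p` on `{q // q ≠ p}`
    have hne : ∀ q : G ⧸ fixSub α, q ≠ p → (q.out * τ * q.out⁻¹) • p ≠ p := by
      intro q hq hfix
      have h1 := (conj_smul_eq_iff α hαr hcop τ hC q.out p).mp hfix
      rw [QuotientGroup.out_eq'] at h1
      exact hq h1.symm
    let ψ : {q : G ⧸ fixSub α // q ≠ p} → {q : G ⧸ fixSub α // q ≠ p} :=
      fun q => ⟨(q.1.out * τ * q.1.out⁻¹) • p, hne q.1 q.2⟩
    have hψinj : Function.Injective ψ := by
      intro q₁ q₂ h12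
      have h1 : (q₁.1.out * τ * q₁.1.out⁻¹) • p = (q₂.1.out * τ * q₂.1.out⁻¹) • p :=
        congrArg Subtype.val h12
      obtain ⟨c, hc1, hc2⟩ := common_fixed_point α hr hαr hcop τ hτ hC (hinv _) (hinv _) p h1
      have e1 := (conj_smul_eq_iff α hαr hcop τ hC _ c).mp hc1
      have e2 := (conj_smul_eq_iff α hαr hcop τ hC _ c).mp hc2
      rw [QuotientGroup.out_eq'] at e1 e2
      exact Subtype.ext (e1.symm.trans e2)
    have hψsurj : Function.Surjective ψ := Finite.surjective_of_injective hψinj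
    have hgp' : (g * τ * g⁻¹) • p ≠ p := by
      intro hfix
      exact hgp ((conj_smul_eq_iff α hαr hcop τ hC g p).mp hfix).symm
    obtain ⟨q, hq⟩ := hψsurj ⟨(g * τ * g⁻¹) • p, hgp'⟩
    have h1 : (q.1.out * τ * q.1.out⁻¹) • p = (g * τ * g⁻¹) • p := congrArg Subtype.val hq
    obtain ⟨c, hc1, hc2⟩ := common_fixed_point α hr hαr hcop τ hτ hC (hinv _) (hinv _) p h1
    have e1 := (conj_smul_eq_iff α hαr hcop τ hC _ c).mp hc1
    have e2 := (conj_smul_eq_iff α hαr hcop τ hC _ c).mp hc2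
    rw [QuotientGroup.out_eq'] at e1
    have e3 : q.1 = (g : G ⧸ fixSub α) := e1.symm.trans e2
    rw [← h1, e3]
  by_cases hp : (g₁ : G ⧸ fixSub α) = p
  · have h1 : (g₁ * τ * g₁⁻¹) • p = p :=
      (conj_smul_eq_iff α hαr hcop τ hC g₁ p).mpr hp.symm
    have h2 : (g₂ * τ * g₂⁻¹) • p = p :=
      (conj_smul_eq_iff α hαr hcop τ hC g₂ p).mpr (hg ▸ hp).symm
    rw [h1, h2]
  · rw [key g₁ hp, key g₂ (hg ▸ hp), hg]

/-- Two conjugates of `τ` inside the fixed subgroup differ by an element of its normal core. -/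
lemma mem_normalCore [Finite G] (α : MulAut G) {r : ℕ} (hr : r.Prime) (hαr : α ^ r = 1)
    (hcop : Nat.Coprime r (Nat.card G)) (τ : G) (hτ : orderOf τ = 2)
    (hC : ∀ c : G, c * τ = τ * c → α c = c) (g : G) (hg : α (g * τ * g⁻¹) = g * τ * g⁻¹) :
    (g * τ * g⁻¹)⁻¹ * τ ∈ (fixSub α).normalCore := by
  have hgF : α g = g := fixed_of_conj_fixed α hαr hcop τ hC hg
  have h1 : (g : G ⧸ fixSub α) = ((1 : G) : G ⧸ fixSub α) := by
    rw [QuotientGroup.eq, mul_one]
    exact (fixSub α).inv_mem hgF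
  intro b
  have h2 := smul_eq_of_conj α hr hαr hcop τ hτ hC g 1 h1 ((b⁻¹ : G) : G ⧸ fixSub α)
  rw [MulAction.Quotient.smul_coe, MulAction.Quotient.smul_coe, smul_eq_mul, smul_eq_mul,
    QuotientGroup.eq] at h2
  convert h2 using 1
  group

end Cfsg.Agent.Lib.helper52.CoprimeInv
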