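import Cfsg.Agent.Lib.helper52.GfIRRMODEL

/-!
S4395 (helper3's split): IRRMATCH (racer copy by helper52), from the field model `h52_irr_model`.
-/

set_option autoImplicit false

namespace Cfsg.Agent.Lib.helper3.Gf

/-- IRRMATCH (racer copy) -/
theorem h52_irr_match (p q : ℕ) [Fact p.Prime] [Fact q.Prime] (hpq : p ≠ q) {V₁ V₂ : Type*}
    [AddCommGroup V₁] [Finite V₁] [AddCommGroup V₂] [Finite V₂]
    (T₁ : V₁ ≃+ V₁) (T₂ : V₂ ≃+ V₂) (h₁ : Irr p q T₁) (h₂ : Irr p q T₂) :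
    ∃ (m : ℕ) (ψ : V₁ ≃+ V₂), ¬ q ∣ m ∧ ∀ v : V₁, ψ (T₁ v) = (⇑T₂)^[m] (ψ v) := by
  classical
  have hq : q.Prime := Fact.out
  obtain ⟨K₁, _, _, _, ζ₁, e₁, a1, b1, c1, d1⟩ := h52_irr_model p q T₁ h₁
  obtain ⟨K₂, _, _, _, ζ₂, e₂, a2, b2, c2, d2⟩ := h52_irr_model p q T₂ h₂
  have hc1 := h52_model_card p q hpq K₁ ζ₁ a1 b1 d1
  have hc2 := h52_model_card p q hpq K₂ ζ₂ a2 b2 d2
  haveI := Fintype.ofFinite K₁
  haveI := Fintype.ofFinite K₂
  have hcard : Fintype.card K₁ = Fintype.card K₂ := by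
    rw [← Nat.card_eq_fintype_card, ← Nat.card_eq_fintype_card, hc1, hc2]
  let ι : K₁ ≃+* K₂ := FiniteField.ringEquivOfCardEq hcard
  have hprim : IsPrimitiveRoot ζ₂ q := by
    have hord : orderOf ζ₂ = q := orderOf_eq_prime a2 b2
    rw [← hord]
    exact IsPrimitiveRoot.orderOf ζ₂
  haveI : NeZero q := ⟨hq.ne_zero⟩
  obtain ⟨m, hm, hmz⟩ := hprim.eq_pow_of_pow_eq_one (ξ := ι ζ₁) (by rw [← map_pow, a1, map_one])
  have hiter : ∀ (k : ℕ) (y : K₂), e₂ (ζ₂ ^ k * y) = (⇑T₂)^[k] (e₂ y) := by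
    intro k
    induction k with
    | zero => intro y; simp
    | succ k ih =>
      intro y
      rw [pow_succ', mul_assoc, c2, ih, Function.iterate_succ_apply']
  refine ⟨m, (e₁.symm.trans ι.toAddEquiv).trans e₂, ?_, ?_⟩
  · intro hqm
    have hm0 : m = 0 := Nat.eq_zero_of_dvd_of_lt hqm hm
    subst hm0
    rw [pow_zero] at hmz
    exact b1 (ι.injective (by rw [← hmz, map_one]))
  · intro v
    have h1 : e₁.symm (T₁ v) = ζ₁ * e₁.symm v := by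
      apply e₁.injective
      rw [c1, AddEquiv.apply_symm_apply, AddEquiv.apply_symm_apply]
    show e₂ (ι (e₁.symm (T₁ v))) = (⇑T₂)^[m] (e₂ (ι (e₁.symm v)))
    rw [h1, map_mul, ← hmz, hiter]

end Cfsg.Agent.Lib.helper3.Gf
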