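import Cfsg.Agent.Lib.helper3.GfDefs

/-!
S4395 (helper3's split): the field model of an irreducible `Irr p q T` (racer copy by helper52).

`h52_irr_model` : `V ≃+ K` with `K = (ZMod p)[X] / ker (aeval T)` a finite field of characteristic `p`,
`T` becoming multiplication by `ζ`, `ζ ^ q = 1`, `ζ ≠ 1`, and `K` generated by `ζ` (in the form: a power of the
Frobenius fixing `ζ` fixes everything).
`h52_model_card` : such a field has `p ^ orderOf (p : ZMod q)` elements.
`h52_irr_card` : the statement of IRRDIM.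
-/

set_option autoImplicit false

namespace Cfsg.Agent.Lib.helper3.Gf

open Polynomial

theorem h52_irr_model (p q : ℕ) [Fact p.Prime] [Fact q.Prime] {V : Type*} [AddCommGroup V] [Finite V]
    (T : V ≃+ V) (h : Irr p q T) :
    ∃ (K : Type) (_ : Field K) (_ : Finite K) (_ : CharP K p) (ζ : K) (e : K ≃+ V),
      ζ ^ q = 1 ∧ ζ ≠ 1 ∧ (∀ x : K, e (ζ * x) = T (e x)) ∧
      (∀ n : ℕ, ζ ^ p ^ n = ζ → ∀ x : K, x ^ p ^ n = x) := by
  classical
  have hq : q.Prime := Fact.out
  have hp : p.Prime := Fact.out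
  haveI : Module (ZMod p) V := AddCommGroup.zmodModule h.exp
  let T' : Module.End (ZMod p) V := T.toAddMonoidHom.toZModLinearMap p
  have hT' : ∀ v, T' v = T v := fun v => rfl
  let f : (ZMod p)[X] →+* Module.End (ZMod p) V := (Polynomial.aeval T').toRingHom
  have hfX : f X = T' := Polynomial.aeval_X T'
  obtain ⟨v₀, hv₀T⟩ := h.ne
  have hv₀ : v₀ ≠ 0 := by
    rintro rfl
    exact hv₀T (map_zero T)
  -- an endomorphism commuting with `T` that kills a nonzero vector is zero
  have key : ∀ A : Module.End (ZMod p) V, A * T' = T' * A → ∀ v, v ≠ 0 → A v = 0 → A = 0 := by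
    intro A hA v hv hAv
    have hinv : ∀ w ∈ (LinearMap.ker A).toAddSubgroup, T w ∈ (LinearMap.ker A).toAddSubgroup := by
      intro w hw
      have hw' : A w = 0 := hw
      show A (T w) = 0
      have h1 : A (T' w) = T' (A w) := by
        have := congrArg (fun B : Module.End (ZMod p) V => B w) hA
        simpa using this
      rw [← hT', h1, hw', map_zero]
    rcases h.irr _ hinv with h0 | h1
    · exfalso
      have hmem : v ∈ (LinearMap.ker A).toAddSubgroup := hAv
      rw [h0] at hmem
      exact hv hmem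
    · ext w
      have hmem : w ∈ (LinearMap.ker A).toAddSubgroup := by rw [h1]; trivial
      exact hmem
  have hTq : T' ^ q = 1 := by
    ext v
    rw [Module.End.pow_apply]
    exact h.pow v
  have hT1 : T' ≠ 1 := by
    intro h1
    apply hv₀T
    have := congrArg (fun B : Module.End (ZMod p) V => B v₀) h1
    simpa [hT'] using this
  have hcommf : ∀ g : (ZMod p)[X], f g * T' = T' * f g := by
    intro g
    rw [← hfX, ← map_mul, ← map_mul, mul_comm]
  have hprime : (RingHom.ker f).IsPrime := by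
    rw [Ideal.isPrime_iff]
    refine ⟨?_, ?_⟩
    · intro htop
      have h1 : (1 : (ZMod p)[X]) ∈ RingHom.ker f := by rw [htop]; trivial
      rw [RingHom.mem_ker, map_one] at h1
      have := congrArg (fun B : Module.End (ZMod p) V => B v₀) h1
      exact hv₀ (by simpa using this)
    · intro g g' hgg'
      rw [RingHom.mem_ker, map_mul] at hgg'
      by_cases hg' : f g' = 0
      · right; exact hg'
      · left
        have : ∃ w, f g' w ≠ 0 := by
          by_contra hcon
          push Not at hcon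
          exact hg' (LinearMap.ext hcon)
        obtain ⟨w, hw⟩ := this
        apply key (f g) (hcommf g) (f g' w) hw
        have := congrArg (fun B : Module.End (ZMod p) V => B w) hgg'
        simpa using this
  have hne_bot : RingHom.ker f ≠ ⊥ := by
    intro hbot
    have hmem : (X ^ q - C (1 : ZMod p) : (ZMod p)[X]) ∈ RingHom.ker f := by
      rw [RingHom.mem_ker, map_sub, map_pow, hfX, hTq, C_1, map_one, sub_self]
    rw [hbot, Ideal.mem_bot] at hmem
    exact X_pow_sub_C_ne_zero hq.pos (1 : ZMod p) hmem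
  haveI hmax : (RingHom.ker f).IsMaximal := IsPrime.to_maximal_ideal hne_bot
  letI : Field ((ZMod p)[X] ⧸ RingHom.ker f) := Ideal.Quotient.field _
  let φ : (ZMod p)[X] ⧸ RingHom.ker f →+* Module.End (ZMod p) V := RingHom.kerLift f
  have hφinj : Function.Injective φ := RingHom.kerLift_injective f
  have hφmk : ∀ g, φ (Ideal.Quotient.mk _ g) = f g := fun g => RingHom.kerLift_mk f g
  let ζ : (ZMod p)[X] ⧸ RingHom.ker f := Ideal.Quotient.mk _ X
  have hφζ : φ ζ = T' := by rw [hφmk, hfX]
  have hcommφ : ∀ x, φ x * T' = T' * φ x := by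
    intro x
    obtain ⟨g, rfl⟩ := Ideal.Quotient.mk_surjective x
    rw [hφmk]; exact hcommf g
  let e₀ : (ZMod p)[X] ⧸ RingHom.ker f →+ V :=
    { toFun := fun x => φ x v₀
      map_zero' := by simp
      map_add' := fun x y => by simp }
  have he₀ : ∀ x, e₀ x = φ x v₀ := fun x => rfl
  have he₀ζ : ∀ x, e₀ (ζ * x) = T (e₀ x) := by
    intro x
    rw [he₀, he₀, map_mul, hφζ, ← hT']
    rfl
  have hinj : Function.Injective e₀ := by
    rw [injective_iff_map_eq_zero]
    intro x hx
    apply hφinj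
    rw [map_zero]
    exact key (φ x) (hcommφ x) v₀ hv₀ hx
  have hsurj : Function.Surjective e₀ := by
    have hinv : ∀ w ∈ e₀.range, T w ∈ e₀.range := by
      rintro w ⟨x, rfl⟩
      exact ⟨ζ * x, he₀ζ x⟩
    rcases h.irr _ hinv with h0 | h1
    · exfalso
      have hmem : v₀ ∈ e₀.range := ⟨1, by rw [he₀, map_one]; rfl⟩
      rw [h0] at hmem
      exact hv₀ hmem
    · intro w
      have hmem : w ∈ e₀.range := by rw [h1]; trivial
      exact hmem
  let e : (ZMod p)[X] ⧸ RingHom.ker f ≃+ V := AddEquiv.ofBijective e₀ ⟨hinj, hsurj⟩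
  haveI : Finite ((ZMod p)[X] ⧸ RingHom.ker f) := Finite.of_injective e₀ hinj
  haveI : CharP ((ZMod p)[X] ⧸ RingHom.ker f) p :=
    charP_of_injective_algebraMap (algebraMap (ZMod p) ((ZMod p)[X] ⧸ RingHom.ker f)).injective p
  refine ⟨(ZMod p)[X] ⧸ RingHom.ker f, inferInstance, inferInstance, inferInstance, ζ, e, ?_, ?_, ?_, ?_⟩
  · apply hφinj
    rw [map_pow, hφζ, hTq, map_one]
  · intro h1
    apply hT1
    rw [← hφζ, h1, map_one]
  · exact he₀ζ
  · intro n hn x
    have hhom : (iterateFrobenius ((ZMod p)[X] ⧸ RingHom.ker f) p n).comp (Ideal.Quotient.mk (RingHom.ker f))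
        = Ideal.Quotient.mk (RingHom.ker f) := by
      apply Polynomial.ringHom_ext
      · intro c
        rw [RingHom.comp_apply, iterateFrobenius_def, ← map_pow, ← C_pow, ZMod.pow_card_pow]
      · rw [RingHom.comp_apply, iterateFrobenius_def]
        exact hn
    obtain ⟨g, rfl⟩ := Ideal.Quotient.mk_surjective x
    have := congrArg (fun F : (ZMod p)[X] →+* (ZMod p)[X] ⧸ RingHom.ker f => F g) hhom
    simpa [iterateFrobenius_def] using this

theorem h52_model_card (p q : ℕ) [Fact p.Prime] [Fact q.Prime] (hpq : p ≠ q) (K : Type) [Field K] [Finite K]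
    [CharP K p] (ζ : K) (h1 : ζ ^ q = 1) (h2 : ζ ≠ 1)
    (h3 : ∀ n : ℕ, ζ ^ p ^ n = ζ → ∀ x : K, x ^ p ^ n = x) :
    Nat.card K = p ^ orderOf (p : ZMod q) := by
  classical
  have hq : q.Prime := Fact.out
  have hp : p.Prime := Fact.out
  haveI := Fintype.ofFinite K
  have hpne : (p : ZMod q) ≠ 0 := by
    intro h0
    rw [ZMod.natCast_eq_zero_iff] at h0
    exact hpq ((Nat.prime_dvd_prime_iff_eq hq hp).1 h0).symm
  have hapos : 0 < orderOf (p : ZMod q) := by
    rw [orderOf_pos_iff, isOfFinOrder_iff_pow_eq_one]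
    exact ⟨q - 1, Nat.sub_pos_of_lt hq.one_lt, ZMod.pow_card_sub_one_eq_one hpne⟩
  -- `q ∣ p ^ a - 1`
  have hdvd : q ∣ p ^ orderOf (p : ZMod q) - 1 := by
    rw [← ZMod.natCast_eq_zero_iff, Nat.cast_sub (Nat.one_le_pow _ _ hp.pos), Nat.cast_pow,
      pow_orderOf_eq_one, Nat.cast_one, sub_self]
  have hζa : ζ ^ p ^ orderOf (p : ZMod q) = ζ := by
    obtain ⟨k, hk⟩ := hdvd
    have : p ^ orderOf (p : ZMod q) = q * k + 1 := by
      have := Nat.one_le_pow (orderOf (p : ZMod q)) p hp.pos
      omega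
    rw [this, pow_succ, pow_mul, h1, one_pow, one_mul]
  have hall := h3 _ hζa
  -- upper bound
  have hle : Nat.card K ≤ p ^ orderOf (p : ZMod q) := by
    rw [Nat.card_eq_fintype_card]
    have hne := FiniteField.X_pow_card_pow_sub_X_ne_zero K hapos.ne' hp.one_lt
    have hdeg := FiniteField.X_pow_card_pow_sub_X_natDegree_eq K hapos.ne' hp.one_lt
    have hsub : (Finset.univ : Finset K).val ⊆ (X ^ p ^ orderOf (p : ZMod q) - X : K[X]).roots := by
      intro x _
      rw [mem_roots hne, IsRoot.def, eval_sub, eval_pow, eval_X, hall x, sub_self]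
    have := Polynomial.card_le_degree_of_subset_roots hsub
    rw [hdeg] at this
    simpa using this
  -- lower bound
  obtain ⟨n, -, hn⟩ := FiniteField.card K p
  have hord : orderOf ζ = q := orderOf_eq_prime h1 h2
  have hζ0 : ζ ≠ 0 := by
    rintro rfl
    rw [zero_pow hq.ne_zero] at h1
    exact zero_ne_one h1
  have hqd : q ∣ p ^ (n : ℕ) - 1 := by
    rw [← hord, ← hn]
    exact orderOf_dvd_of_pow_eq_one (FiniteField.pow_card_sub_one_eq_one ζ hζ0)
  have han : orderOf (p : ZMod q) ∣ (n : ℕ) := by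
    apply orderOf_dvd_of_pow_eq_one
    rw [← ZMod.natCast_eq_zero_iff, Nat.cast_sub (Nat.one_le_pow _ _ hp.pos), Nat.cast_pow,
      Nat.cast_one, sub_eq_zero] at hqd
    exact hqd
  have hge : p ^ orderOf (p : ZMod q) ≤ Nat.card K := by
    rw [Nat.card_eq_fintype_card, hn]
    exact Nat.pow_le_pow_right hp.pos (Nat.le_of_dvd n.pos han)
  exact le_antisymm hle hge

/-- IRRDIM (racer copy) -/
theorem h52_irr_card (p q : ℕ) [Fact p.Prime] [Fact q.Prime] (hpq : p ≠ q) {V : Type*} [AddCommGroup V] [Finite V]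
    (T : V ≃+ V) (h : Irr p q T) : Nat.card V = p ^ orderOf (p : ZMod q) := by
  obtain ⟨K, _, _, _, ζ, e, h1, h2, -, h4⟩ := h52_irr_model p q T h
  rw [← h52_model_card p q hpq K ζ h1 h2 h4]
  exact (Nat.card_congr e.toEquiv).symm

end Cfsg.Agent.Lib.helper3.Gf
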