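import Mathlib
import Cfsg.Prelude.Def_LieTypeChar
import Cfsg.Agent.Lib.helper44.LODefs
import Cfsg.Agent.Lib.helper15.LOCore
import Cfsg.Agent.S0243

set_option autoImplicit false

namespace Cfsg.Agent.Lib.helper44.LO

open Cfsg

/-- PSL2 (racer copy, helper52). -/
theorem h52_lo_psl_two {F : Type} [Field F] [Fintype F] (p : ℕ) (hp : p.Prime) [CharP F p] :
    Nat.card (Matrix.ProjectiveSpecialLinearGroup (Fin 2) F) <
        p ^ (3 * (Nat.card (Matrix.ProjectiveSpecialLinearGroup (Fin 2) F)).factorization p) ∧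
      Fintype.card F = p ^ (Nat.card (Matrix.ProjectiveSpecialLinearGroup (Fin 2) F)).factorization p := by
  classical
  have : Fact p.Prime := ⟨hp⟩
  obtain ⟨f, -, hf⟩ := FiniteField.card F p
  have hf1 : 1 ≤ (f : ℕ) := f.pos
  set G := Nat.card (Matrix.ProjectiveSpecialLinearGroup (Fin 2) F) with hG
  have h0 := Cfsg.Agent.S0243.result (F := F) (q := p ^ (f : ℕ)) hf 2 le_rfl
  rw [Fin.prod_univ_two] at h0
  simp only [Fin.val_zero, Fin.val_one, pow_zero, pow_one] at h0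
  -- notation
  have hq2 : 2 ≤ p ^ (f : ℕ) := by
    calc 2 ≤ p := hp.two_le
      _ = p ^ 1 := (pow_one p).symm
      _ ≤ p ^ (f : ℕ) := Nat.pow_le_pow_right hp.pos hf1
  generalize hqdef : p ^ (f : ℕ) = q at h0 hq2 hf
  have hpq : p ∣ q := by
    rw [← hqdef]; exact dvd_pow_self p (by omega)
  have hnd1 : ¬ p ∣ q - 1 := by
    intro h
    have h3 : p ∣ q - (q - 1) := Nat.dvd_sub hpq h
    have : q - (q - 1) = 1 := by omega
    rw [this] at h3
    exact hp.one_lt.ne' (Nat.dvd_one.mp h3)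
  have hnd2 : ¬ p ∣ q ^ 2 - 1 := by
    intro h
    have hq2' : 1 ≤ q ^ 2 := Nat.one_le_pow _ _ (by omega)
    have h3 : p ∣ q ^ 2 - (q ^ 2 - 1) := Nat.dvd_sub (dvd_pow hpq (by norm_num)) h
    have : q ^ 2 - (q ^ 2 - 1) = 1 := by omega
    rw [this] at h3
    exact hp.one_lt.ne' (Nat.dvd_one.mp h3)
  have hgpos : 0 < Nat.gcd 2 (q - 1) := Nat.gcd_pos_of_pos_left _ (by norm_num)
  have hgd : Nat.gcd 2 (q - 1) ∣ q - 1 := Nat.gcd_dvd_right _ _
  have hndg : ¬ p ∣ Nat.gcd 2 (q - 1) := fun h => hnd1 (h.trans hgd)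
  -- the core data
  have hc : (Nat.gcd 2 (q - 1) * (q - 1)) * G = (p ^ (f : ℕ)) ^ 1 * ((q ^ 2 - 1) * (q - 1)) := by
    rw [hqdef, pow_one]
    have e1 : q ^ 2 - q = q * (q - 1) := by
      rw [Nat.mul_sub, mul_one, sq]
    calc (Nat.gcd 2 (q - 1) * (q - 1)) * G = Nat.gcd 2 (q - 1) * ((q - 1) * G) := by ring
      _ = (q ^ 2 - 1) * (q ^ 2 - q) := h0
      _ = q * ((q ^ 2 - 1) * (q - 1)) := by rw [e1]; ring
  have hcp : ¬ p ∣ Nat.gcd 2 (q - 1) * (q - 1) := by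
    intro h
    rcases (Nat.Prime.dvd_mul hp).mp h with h | h
    · exact hndg h
    · exact hnd1 h
  have hMp : ¬ p ∣ (q ^ 2 - 1) * (q - 1) := by
    intro h
    rcases (Nat.Prime.dvd_mul hp).mp h with h | h
    · exact hnd2 h
    · exact hnd1 h
  have hM : (q ^ 2 - 1) * (q - 1) < (Nat.gcd 2 (q - 1) * (q - 1)) * (p ^ (f : ℕ)) ^ 2 := by
    rw [hqdef]
    have h1 : q ^ 2 - 1 < q ^ 2 := Nat.sub_lt (by positivity) Nat.one_pos
    have h2 : 0 < q - 1 := by omega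
    calc (q ^ 2 - 1) * (q - 1) < q ^ 2 * (q - 1) := Nat.mul_lt_mul_of_pos_right h1 h2
      _ = 1 * (q - 1) * q ^ 2 := by ring
      _ ≤ (Nat.gcd 2 (q - 1) * (q - 1)) * q ^ 2 :=
        Nat.mul_le_mul_right _ (Nat.mul_le_mul_right _ hgpos)
  obtain ⟨hfac, hlt⟩ := helper15_lo_arith hp (f : ℕ) _ G 1 _ 2 hc hcp hMp hM
  rw [mul_one] at hfac
  refine ⟨?_, ?_⟩
  · rw [hfac]
    calc G < (p ^ (f : ℕ)) ^ (1 + 2) := hlt
      _ = p ^ (3 * (f : ℕ)) := by rw [← pow_mul]; congr 1; ring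
  · rw [hfac, hf, hqdef]

end Cfsg.Agent.Lib.helper44.LO
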