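import Mathlib
import Cfsg.Agent.S1414
import Cfsg.Agent.Lib.helper1.SZ
import Cfsg.Agent.Lib.helper71.BGTwelveAux
import Cfsg.Agent.Lib.helper87.BG1425Main
import Cfsg.Agent.Lib.helper69.NADefs

/-!
# Bender-Glauberman (NA), piece P8 : `comm_sylow` (helper52 for helper69)
-/

set_option autoImplicit false
open Cfsg
open scoped commutatorElement

namespace Cfsg.Agent.Lib.helper69.NA

/-- Focal subgroup of a split extension `H = N ⋊ T`: `T ∩ H' = T'`. -/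
theorem p8_focal_abstract {H : Type*} [Group H] (N T : Subgroup H) [N.Normal]
    (hsup : N ⊔ T = ⊤) (hinf : N ⊓ T = ⊥) (x : H) (hxT : x ∈ T)
    (hx : x ∈ ⁅(⊤ : Subgroup H), (⊤ : Subgroup H)⁆) : x ∈ ⁅T, T⁆ := by
  have hTT : ⁅T, T⁆ ≤ T :=
    Subgroup.commutator_le.mpr (fun a ha b hb =>
      T.mul_mem (T.mul_mem (T.mul_mem ha hb) (T.inv_mem ha)) (T.inv_mem hb))
  have key : ⁅(⊤ : Subgroup H), (⊤ : Subgroup H)⁆ ≤ N ⊔ ⁅T, T⁆ := by
    rw [Subgroup.commutator_le]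
    intro g₁ _ g₂ _
    have h1 : g₁ ∈ ((N ⊔ T : Subgroup H) : Set H) := by rw [hsup]; exact Subgroup.mem_top _
    have h2 : g₂ ∈ ((N ⊔ T : Subgroup H) : Set H) := by rw [hsup]; exact Subgroup.mem_top _
    rw [Subgroup.normal_mul] at h1 h2
    obtain ⟨n₁, hn₁, t₁, ht₁, rfl⟩ := h1
    obtain ⟨n₂, hn₂, t₂, ht₂, rfl⟩ := h2
    have e1 : (QuotientGroup.mk' N) (n₁ * t₁) = (QuotientGroup.mk' N) t₁ := by
      rw [map_mul]
      have : (QuotientGroup.mk' N) n₁ = 1 := (QuotientGroup.eq_one_iff n₁).mpr hn₁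
      rw [this, one_mul]
    have e2 : (QuotientGroup.mk' N) (n₂ * t₂) = (QuotientGroup.mk' N) t₂ := by
      rw [map_mul]
      have : (QuotientGroup.mk' N) n₂ = 1 := (QuotientGroup.eq_one_iff n₂).mpr hn₂
      rw [this, one_mul]
    have hq : (QuotientGroup.mk' N) ⁅t₁, t₂⁆ = (QuotientGroup.mk' N) ⁅n₁ * t₁, n₂ * t₂⁆ := by
      rw [map_commutatorElement, map_commutatorElement, e1, e2]
    have hmem : ⁅t₁, t₂⁆⁻¹ * ⁅n₁ * t₁, n₂ * t₂⁆ ∈ N := QuotientGroup.eq.mp hq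
    have e3 : ⁅n₁ * t₁, n₂ * t₂⁆ = ⁅t₁, t₂⁆ * (⁅t₁, t₂⁆⁻¹ * ⁅n₁ * t₁, n₂ * t₂⁆) := by group
    rw [e3]
    exact Subgroup.mul_mem _
      (Subgroup.mem_sup_right (Subgroup.commutator_mem_commutator ht₁ ht₂))
      (Subgroup.mem_sup_left hmem)
  have hx' : x ∈ ((N ⊔ ⁅T, T⁆ : Subgroup H) : Set H) := key hx
  rw [Subgroup.normal_mul] at hx'
  obtain ⟨n, hn, c, hc, rfl⟩ := hx'
  have hcT : c ∈ T := hTT hc
  have hnT : n ∈ T := by
    have := T.mul_mem hxT (T.inv_mem hcT)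
    simpa using this
  have hn1 : n = 1 := by
    have : n ∈ N ⊓ T := ⟨hn, hnT⟩
    rw [hinf] at this
    exact Subgroup.mem_bot.mp this
  subst hn1
  have e : (fun x1 x2 : H => x1 * x2) 1 c = c := one_mul c
  rw [e]
  exact hc

variable {G : Type*} [Group G]

/-- PIECE P8 (step (7), second half, general). -/
theorem comm_sylow [Finite G] (hG : IsMinSimpleOddOrder G) (M1 : Subgroup G) (hM1 : IsCoatom M1)
    (r : ℕ) [Fact r.Prime] (hni : ¬ IsIdealPrime r G) (S1 : Sylow r G)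
    (hS1 : (S1 : Subgroup G) ≤ M1)
    (hN : Subgroup.normalizer ((S1 : Subgroup G) : Set G) ≤ M1) (a : G)
    (haS : a ∈ (S1 : Subgroup G)) (ha : a ∈ ⁅sigmaCore M1, sigmaCore M1⁆) :
    a ∈ ⁅(S1 : Subgroup G), (S1 : Subgroup G)⁆ := by
  have hrp : r.Prime := Fact.out
  by_cases hbot : (S1 : Subgroup G) = ⊥
  · rw [hbot, Subgroup.mem_bot] at haS
    rw [haS]; exact Subgroup.one_mem _
  have hrσ : r ∈ sigma M1 :=
    Cfsg.Agent.Lib.helper71.BG12.mem_sigma_of_sylow S1.isPGroup' S1.not_dvd_index hS1 hbot hN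
  have hle : (S1 : Subgroup G) ≤ sigmaCore M1 := by
    refine Cfsg.Agent.Lib.helper87.BG133.le_sigmaCore_of_pi hG M1 hM1 S1 hS1 ?_
    intro q hq hqd
    obtain ⟨n, hn⟩ := IsPGroup.iff_card.mp S1.isPGroup'
    rw [hn] at hqd
    rw [(Nat.prime_dvd_prime_iff_eq hq hrp).mp (hq.dvd_of_dvd_pow hqd)]
    exact hrσ
  have hrM : r ∣ Nat.card M1 := hrσ.2.1
  have hrβ : r ∉ beta M1 := fun h => hni h.2
  obtain ⟨-, hc, -⟩ := (Cfsg.Agent.S1414.result hG M1 hM1).2.2.2.2 r hrp hrM hrβ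
  obtain ⟨P, N, hNn, hNc⟩ := hc
  -- the Sylow subgroup `S1` of `M_σ`
  obtain ⟨g, hg⟩ := MulAction.exists_smul_eq ↥(sigmaCore M1) P (S1.subtype hle)
  have hNT : N.IsComplement' ((S1 : Subgroup G).subgroupOf (sigmaCore M1)) := by
    have h1 : ((g • P : Sylow r ↥(sigmaCore M1)) : Subgroup ↥(sigmaCore M1)) =
        (S1 : Subgroup G).subgroupOf (sigmaCore M1) := by rw [hg]; rfl
    rw [← h1, Sylow.coe_subgroup_smul]
    exact Cfsg.Agent.Lib.helper1.isComplement'_conj_smul hNc g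
  have hxT : (⟨a, hle haS⟩ : ↥(sigmaCore M1)) ∈ (S1 : Subgroup G).subgroupOf (sigmaCore M1) :=
    Subgroup.mem_subgroupOf.mpr haS
  have htop : (⊤ : Subgroup ↥(sigmaCore M1)).map (sigmaCore M1).subtype = sigmaCore M1 := by
    rw [← MonoidHom.range_eq_map, Subgroup.range_subtype]
  have hx : (⟨a, hle haS⟩ : ↥(sigmaCore M1)) ∈
      ⁅(⊤ : Subgroup ↥(sigmaCore M1)), (⊤ : Subgroup ↥(sigmaCore M1))⁆ := by
    have h2 : a ∈ (⁅(⊤ : Subgroup ↥(sigmaCore M1)), (⊤ : Subgroup ↥(sigmaCore M1))⁆).map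
        (sigmaCore M1).subtype := by
      rw [Subgroup.map_commutator, htop]
      exact ha
    obtain ⟨y, hy, hya⟩ := h2
    have : y = ⟨a, hle haS⟩ := Subtype.ext hya
    rw [← this]; exact hy
  have hfin := p8_focal_abstract N ((S1 : Subgroup G).subgroupOf (sigmaCore M1))
    hNT.sup_eq_top (disjoint_iff.mp hNT.disjoint) _ hxT hx
  have h3 : a ∈ (⁅(S1 : Subgroup G).subgroupOf (sigmaCore M1),
      (S1 : Subgroup G).subgroupOf (sigmaCore M1)⁆).map (sigmaCore M1).subtype :=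
    ⟨_, hfin, rfl⟩
  rw [Subgroup.map_commutator, Subgroup.map_subgroupOf_eq_of_le hle] at h3
  exact h3

end Cfsg.Agent.Lib.helper69.NA
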