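import Mathlib
import Cfsg.Agent.S1409
import Cfsg.Agent.S1414
import Cfsg.Agent.Lib.helper1.Coprime
import Cfsg.Agent.Lib.helper69.NADefs

/-!
# Bender-Glauberman (NA), piece T3 : `tau3_empty` (helper52 for helper69)
-/

set_option autoImplicit false
open Cfsg

namespace Cfsg.Agent.Lib.helper69.NA

variable {G : Type*} [Group G]

/-- `Ω₁(Z(Q))` of a nontrivial `q`-subgroup `Q` of a subgroup of `q`-rank one has order `q`, and it
is normalized by everything normalizing `Q`. -/
theorem t3_exists_order_q [Finite G] (q : ℕ) [Fact q.Prime] (M Q A : Subgroup G)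
    (hQp : IsPGroup q Q) (hQ1 : Q ≠ ⊥) (hQM : Q ≤ M) (hrk : PRankLE q 1 M)
    (hA : A ≤ Subgroup.normalizer (Q : Set G)) :
    ∃ X : Subgroup G, Nat.card X = q ∧ A ≤ Subgroup.normalizer (X : Set G) := by
  have hq : q.Prime := Fact.out
  let X : Subgroup G :=
    { carrier := {z | z ∈ Q ∧ z ^ q = 1 ∧ ∀ y ∈ Q, z * y = y * z}
      one_mem' := ⟨Q.one_mem, one_pow _, fun y _ => by rw [one_mul, mul_one]⟩
      mul_mem' := by
        rintro a b ⟨ha, ha1, ha2⟩ ⟨hb, hb1, hb2⟩
        refine ⟨Q.mul_mem ha hb, ?_, fun y hy => ?_⟩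
        · have hc : Commute a b := ha2 b hb
          rw [hc.mul_pow, ha1, hb1, one_mul]
        · rw [mul_assoc, hb2 y hy, ← mul_assoc, ha2 y hy, mul_assoc]
      inv_mem' := by
        rintro a ⟨ha, ha1, ha2⟩
        refine ⟨Q.inv_mem ha, by rw [inv_pow, ha1, inv_one], fun y hy => ?_⟩
        have hc : Commute a y := ha2 y hy
        exact hc.inv_left.eq }
  have hXmem : ∀ z : G, z ∈ X ↔ z ∈ Q ∧ z ^ q = 1 ∧ ∀ y ∈ Q, z * y = y * z := fun z => Iff.rfl
  have hXQ : X ≤ Q := fun z hz => hz.1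
  have hXM : X ≤ M := hXQ.trans hQM
  -- `|X| ≤ q`
  have hle : Nat.card X ≤ q := by
    have h := hrk (X.subgroupOf M) ?_ ?_
    · rw [pow_one] at h
      rwa [Nat.card_congr (Subgroup.subgroupOfEquivOfLe hXM).toEquiv] at h
    · refine ⟨⟨fun a b => ?_⟩⟩
      apply Subtype.ext
      apply Subtype.ext
      have ha : ((a : ↥M) : G) ∈ X := Subgroup.mem_subgroupOf.mp a.2
      have hb : ((b : ↥M) : G) ∈ X := Subgroup.mem_subgroupOf.mp b.2
      exact ha.2.2 _ (hXQ hb)
    · intro a ha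
      have ha' : (a : G) ∈ X := Subgroup.mem_subgroupOf.mp ha
      apply Subtype.ext
      simpa using ha'.2.1
  -- `X ≠ ⊥`
  have hXne : X ≠ ⊥ := by
    haveI : Nontrivial ↥Q := (Subgroup.nontrivial_iff_ne_bot Q).mpr hQ1
    have hcn : Nontrivial ↥(Subgroup.center ↥Q) := hQp.center_nontrivial
    have hcp : IsPGroup q ↥(Subgroup.center ↥Q) := hQp.to_subgroup _
    have hdvd : q ∣ Nat.card ↥(Subgroup.center ↥Q) := by
      rcases hcp.card_eq_or_dvd with h | h
      · exact absurd h (Finite.one_lt_card_iff_nontrivial.mpr hcn).ne'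
      · exact h
    obtain ⟨z, hz⟩ := exists_prime_orderOf_dvd_card' (G := ↥(Subgroup.center ↥Q)) q hdvd
    have hzX : ((z : ↥Q) : G) ∈ X := by
      refine ⟨(z : ↥Q).2, ?_, fun y hy => ?_⟩
      · have h1 : z ^ q = 1 := by rw [← hz]; exact pow_orderOf_eq_one z
        have h2 := congrArg (fun w : ↥(Subgroup.center ↥Q) => ((w : ↥Q) : G)) h1
        simpa using h2
      · have h1 := Subgroup.mem_center_iff.mp z.2 ⟨y, hy⟩
        have h2 := congrArg (fun w : ↥Q => (w : G)) h1
        simpa using h2.symm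
    intro hbot
    rw [hbot, Subgroup.mem_bot] at hzX
    have hz1 : z = 1 := by
      apply Subtype.ext
      apply Subtype.ext
      simpa using hzX
    rw [hz1, orderOf_one] at hz
    exact hq.one_lt.ne hz
  -- `|X| = q`
  have hXp : IsPGroup q ↥X := hQp.to_le hXQ
  have hcard : Nat.card X = q := by
    rcases hXp.card_eq_or_dvd with h | h
    · exact absurd ((Subgroup.card_eq_one).mp h) hXne
    · exact le_antisymm hle (Nat.le_of_dvd Nat.card_pos h)
  refine ⟨X, hcard, ?_⟩
  rw [Subgroup.le_normalizer_iff]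
  intro s hs z hz
  have hsN := hA hs
  have hconj : ∀ y : G, y ∈ Q ↔ s * y * s⁻¹ ∈ Q := fun y => Subgroup.mem_normalizer_iff.mp hsN y
  refine ⟨(hconj z).mp hz.1, ?_, fun y hy => ?_⟩
  · rw [conj_pow, hz.2.1, mul_one, mul_inv_cancel]
  · have hy' : s⁻¹ * y * s ∈ Q := by
      rw [hconj]
      have : s * (s⁻¹ * y * s) * s⁻¹ = y := by group
      rw [this]; exact hy
    have h1 := hz.2.2 _ hy'
    have e1 : s * z * s⁻¹ * y = s * (z * (s⁻¹ * y * s)) * s⁻¹ := by group
    have e2 : y * (s * z * s⁻¹) = s * ((s⁻¹ * y * s) * z) * s⁻¹ := by group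
    rw [e1, e2, h1]

/-- The normal `r`-complement of a subgroup `D`, as a subgroup of `G`. -/
theorem t3_normal_compl [Finite G] (r : ℕ) [Fact r.Prime] (D M : Subgroup G)
    (hDM : M ≤ Subgroup.normalizer (D : Set G)) (h : HasNormalPComplement r ↥D) :
    ∃ K : Subgroup G, K ≤ D ∧ M ≤ Subgroup.normalizer (K : Set G) ∧ ¬ r ∣ Nat.card K ∧
      ∀ x ∈ D, ¬ r ∣ orderOf x → x ∈ K := by
  have hr : r.Prime := Fact.out
  obtain ⟨P, N, hNn, hNc⟩ := h
  have hidx : N.index = Nat.card ↥(P : Subgroup ↥D) := hNc.symm.index_eq_card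
  have hcardN : Nat.card ↥N = (P : Subgroup ↥D).index := hNc.index_eq_card.symm
  have hNr : ¬ r ∣ Nat.card ↥N := by rw [hcardN]; exact P.not_dvd_index
  obtain ⟨k, hk⟩ := IsPGroup.iff_card.mp P.isPGroup'
  have hmemN : ∀ x : ↥D, ¬ r ∣ orderOf x → x ∈ N := by
    intro x hx
    rw [← QuotientGroup.eq_one_iff, ← orderOf_eq_one_iff]
    have h1 : orderOf (x : ↥D ⧸ N) ∣ r ^ k := by
      rw [← hk, ← hidx, Subgroup.index_eq_card]
      exact orderOf_dvd_natCard _
    have h2 : orderOf (x : ↥D ⧸ N) ∣ orderOf x := orderOf_map_dvd (QuotientGroup.mk' N) x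
    have hcop : Nat.Coprime (orderOf x) (r ^ k) :=
      Nat.Coprime.pow_right k ((Nat.Prime.coprime_iff_not_dvd hr).mpr hx).symm
    exact Nat.eq_one_of_dvd_coprimes hcop h2 h1
  have hKcard : Nat.card ↥(N.map D.subtype) = Nat.card ↥N :=
    Subgroup.card_map_of_injective D.subtype_injective
  have hKr : ¬ r ∣ Nat.card ↥(N.map D.subtype) := by rw [hKcard]; exact hNr
  have hKmem : ∀ x ∈ D, ¬ r ∣ orderOf x → x ∈ N.map D.subtype := by
    intro x hx hxr
    refine ⟨⟨x, hx⟩, hmemN ⟨x, hx⟩ ?_, rfl⟩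
    rwa [← Subgroup.orderOf_coe]
  refine ⟨N.map D.subtype, Subgroup.map_subtype_le N, ?_, hKr, hKmem⟩
  rw [Subgroup.le_normalizer_iff]
  intro m hm x hx
  have hxD : x ∈ D := Subgroup.map_subtype_le N hx
  have hmD : m * x * m⁻¹ ∈ D := (Subgroup.le_normalizer_iff.mp hDM) m hm x hxD
  apply hKmem _ hmD
  have ho : orderOf (m * x * m⁻¹) = orderOf x := by
    have := (MulAut.conj m).orderOf_eq x
    simpa [MulAut.conj_apply] using this
  rw [ho]
  intro hdvd
  exact hKr (hdvd.trans (Subgroup.orderOf_dvd_natCard _ hx))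

/-- PIECE T3 (step (5), general). A maximal subgroup that is the only one over a Sylow
`r`-subgroup of `G`, `r` not ideal, has no `τ₃`-prime. -/
theorem tau3_empty [Finite G] (hG : IsMinSimpleOddOrder G) (M1 : Subgroup G) (hM1 : IsCoatom M1)
    (r : ℕ) [Fact r.Prime] (hni : ¬ IsIdealPrime r G) (S1 : Sylow r G)
    (hS1 : (S1 : Subgroup G) ≤ M1)
    (huniq : ∀ L : Subgroup G, IsCoatom L → (S1 : Subgroup G) ≤ L → L = M1) :
    ∀ q : ℕ, q ∉ tau3 M1 := by
  rintro q ⟨hq, hqσ, hqd, hrk⟩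
  haveI : Fact q.Prime := ⟨hq⟩
  have hr : r.Prime := Fact.out
  obtain ⟨-, hsimple, hnc, hsolv⟩ := id hG
  haveI := hsimple
  have hS1top : (S1 : Subgroup G) ≠ ⊤ := by
    intro h
    apply hM1.1
    rw [eq_top_iff, ← h]
    exact hS1
  have hDM : ⁅M1, M1⁆ ≤ M1 :=
    Subgroup.commutator_le.mpr (fun a ha b hb =>
      M1.mul_mem (M1.mul_mem (M1.mul_mem ha hb) (M1.inv_mem ha)) (M1.inv_mem hb))
  have hqG : q ∣ Nat.card G := hqd.trans (Subgroup.card_subgroup_dvd_card _)
  -- a subgroup of order `q` normalized by `S1`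
  have key : ∃ X : Subgroup G, Nat.card X = q ∧
      (S1 : Subgroup G) ≤ Subgroup.normalizer (X : Set G) := by
    by_cases hqr : q = r
    · subst hqr
      have hS1ne : (S1 : Subgroup G) ≠ ⊥ := S1.ne_bot_of_dvd_card hqG
      exact t3_exists_order_q q M1 S1 S1 S1.isPGroup' hS1ne hS1 hrk Subgroup.le_normalizer
    · by_cases hrM : r ∣ Nat.card M1
      · have hrβ : r ∉ beta M1 := fun h => hni h.2
        obtain ⟨hc, -, -⟩ := (Cfsg.Agent.S1414.result hG M1 hM1).2.2.2.2 r hr hrM hrβ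
        have hnD : M1 ≤ Subgroup.normalizer ((⁅M1, M1⁆ : Subgroup G) : Set G) := by
          rw [Subgroup.le_normalizer_iff_commutator_le_left]
          exact Subgroup.commutator_mono hDM le_rfl
        obtain ⟨K, hKD, hKn, hKr, hKmem⟩ := t3_normal_compl r ⁅M1, M1⁆ M1 hnD hc
        have hqK : q ∣ Nat.card K := by
          obtain ⟨x, hx⟩ := exists_prime_orderOf_dvd_card' (G := ↥⁅M1, M1⁆) q hqd
          have hxK : (x : G) ∈ K := by
            apply hKmem _ x.2
            rw [Subgroup.orderOf_coe, hx]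
            intro hdvd
            exact hqr ((Nat.prime_dvd_prime_iff_eq hr hq).mp hdvd).symm
          have := Subgroup.orderOf_dvd_natCard K hxK
          rwa [Subgroup.orderOf_coe, hx] at this
        have hcop : (Nat.card ↥(S1 : Subgroup G)).Coprime (Nat.card K) := by
          obtain ⟨n, hn⟩ := IsPGroup.iff_card.mp S1.isPGroup'
          rw [hn]
          exact Nat.Coprime.pow_left n ((Nat.Prime.coprime_iff_not_dvd hr).mpr hKr)
        obtain ⟨Q, hQ⟩ := Cfsg.Agent.Lib.helper1.exists_invariant_sylow (p := q)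
          (S1 : Subgroup G) K (hS1.trans hKn) hcop (Or.inl (hsolv _ hS1top))
        have hQ1 : (Q : Subgroup ↥K).map K.subtype ≠ ⊥ := by
          rw [Ne, Subgroup.map_eq_bot_iff_of_injective _ K.subtype_injective]
          exact Q.ne_bot_of_dvd_card hqK
        exact t3_exists_order_q q M1 ((Q : Subgroup ↥K).map K.subtype) S1
          (Q.isPGroup'.map _) hQ1 ((Subgroup.map_subtype_le _).trans (hKD.trans hDM)) hrk hQ
      · have hS1bot : (S1 : Subgroup G) = ⊥ := by
          by_contra hne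
          apply hrM
          rcases S1.isPGroup'.card_eq_or_dvd with h | h
          · exact absurd ((Subgroup.card_eq_one).mp h) hne
          · exact h.trans (Subgroup.card_dvd_of_le hS1)
        obtain ⟨x, hx⟩ := exists_prime_orderOf_dvd_card' (G := G) q hqG
        refine ⟨Subgroup.zpowers x, by rw [Nat.card_zpowers, hx], ?_⟩
        rw [hS1bot]; exact bot_le
  obtain ⟨X, hXq, hXS⟩ := key
  have hX1 : X ≠ ⊥ := by
    intro h
    rw [h, Subgroup.card_bot] at hXq
    exact hq.one_lt.ne hXq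
  have hXtop : X ≠ ⊤ := by
    intro h
    apply hnc
    have hcard : Nat.card G = q := by rw [← hXq, h, Subgroup.card_top]
    haveI := isCyclic_of_prime_card hcard
    exact IsCyclic.isMulCommutative
  have hNtop : Subgroup.normalizer (X : Set G) ≠ ⊤ := by
    intro h
    have hXn : X.Normal := Subgroup.normalizer_eq_top_iff.mp h
    rcases hXn.eq_bot_or_eq_top with h1 | h1
    · exact hX1 h1
    · exact hXtop h1
  obtain ⟨L, hL, hNL⟩ := (eq_top_or_exists_le_coatom _).resolve_left hNtop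
  have hLM := huniq L hL (hXS.trans hNL)
  rw [hLM] at hNL
  exact (Cfsg.Agent.S1409.result hG M1 hM1 q hqσ X hXq hNL).1.2 hrk

end Cfsg.Agent.Lib.helper69.NA
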