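import Mathlib
import Cfsg.Prelude.Def_LocalEven
import Cfsg.Agent.Lib.helper7.CardSL
import Cfsg.Agent.Lib.helper53.Conj

set_option autoImplicit false

/-!
Coordinates for a natural `SL₂(F)`-module `V` of `L` inside a finite group: `V` is identified with
`F²`, `L` with `SL₂(F)`, and a given Sylow `p`-subgroup with the upper unitriangular matrices.
-/

namespace Cfsg.Agent.Lib.helper52

open Matrix

section Mat

variable {F : Type*} [Field F]

/-- The upper unitriangular matrix with entry `a`. -/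
def uMat (a : F) : SpecialLinearGroup (Fin 2) F := ⟨!![1, a; 0, 1], by simp [Matrix.det_fin_two]⟩

theorem uMat_val (a : F) : (uMat a).1 = !![1, a; 0, 1] := rfl

theorem uMat_mul (a b : F) : uMat a * uMat b = uMat (a + b) := by
  apply Subtype.ext
  show (!![1, a; 0, 1] : Matrix (Fin 2) (Fin 2) F) * !![1, b; 0, 1] = !![1, a + b; 0, 1]
  ext i j
  fin_cases i <;> fin_cases j <;> simp [Matrix.mul_apply, Fin.sum_univ_two, add_comm]

theorem uMat_zero : uMat (0 : F) = 1 := by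
  apply Subtype.ext
  show (!![1, 0; 0, 1] : Matrix (Fin 2) (Fin 2) F) = 1
  ext i j
  fin_cases i <;> fin_cases j <;> simp

theorem uMat_mulVec (a : F) (w : Fin 2 → F) : (uMat a).1 *ᵥ w = ![w 0 + a * w 1, w 1] := by
  rw [uMat_val]
  funext i
  fin_cases i <;> simp [Matrix.mulVec, dotProduct, Fin.sum_univ_two]

theorem uMat_injective : Function.Injective (uMat : F → SpecialLinearGroup (Fin 2) F) := by
  intro a b h
  have := congrArg (fun M : SpecialLinearGroup (Fin 2) F => M.1 0 1) h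
  simpa [uMat_val] using this

theorem conj_uMat (M : SpecialLinearGroup (Fin 2) F) (h : M.1 1 0 = 0) (a : F) :
    M * uMat a = uMat (M.1 0 0 ^ 2 * a) * M := by
  have hdet : M.1 0 0 * M.1 1 1 = 1 := by
    have := M.2
    rw [Matrix.det_fin_two, h, mul_zero, sub_zero] at this
    exact this
  apply Subtype.ext
  show M.1 * (!![1, a; 0, 1] : Matrix (Fin 2) (Fin 2) F) = !![1, M.1 0 0 ^ 2 * a; 0, 1] * M.1
  ext i j
  fin_cases i <;> fin_cases j <;> simp [Matrix.mul_apply, Fin.sum_univ_two, h]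
  have : M.1 0 0 ^ 2 * a * M.1 1 1 = M.1 0 0 * a * (M.1 0 0 * M.1 1 1) := by ring
  rw [this, hdet]; ring

/-- The diagonal matrix `diag(a, a⁻¹)`. -/
def hMat (a : F) (ha : a ≠ 0) : SpecialLinearGroup (Fin 2) F :=
  ⟨!![a, 0; 0, a⁻¹], by simp [Matrix.det_fin_two, ha]⟩

theorem hMat_val (a : F) (ha : a ≠ 0) : (hMat a ha).1 = !![a, 0; 0, a⁻¹] := rfl

theorem hMat_mulVec (a : F) (ha : a ≠ 0) (w : Fin 2 → F) :
    (hMat a ha).1 *ᵥ w = ![a * w 0, a⁻¹ * w 1] := by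
  rw [hMat_val]
  funext i
  fin_cases i <;> simp [Matrix.mulVec, dotProduct, Fin.sum_univ_two]

theorem one_add_pow_of_sq_zero (N : Matrix (Fin 2) (Fin 2) F) (hN : N * N = 0) (k : ℕ) :
    (1 + N) ^ k = 1 + (k : F) • N := by
  induction k with
  | zero => simp
  | succ k ih =>
    rw [pow_succ, ih, add_mul, one_mul, mul_add, mul_one, Matrix.smul_mul, hN, smul_zero,
      add_zero, Nat.cast_succ, add_smul, one_smul]
    abel

/-- In characteristic `p`, an element of `SL₂(F)` fixing a nonzero vector has order dividing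
`p`. -/
theorem sl2_pow_eq_one_of_fixed {p : ℕ} (hp : (p : F) = 0) (A : SpecialLinearGroup (Fin 2) F)
    {w : Fin 2 → F} (hw : w ≠ 0) (hfix : A.1 *ᵥ w = w) : A ^ p = 1 := by
  have hdet0 : (A.1 - 1).det = 0 := by
    apply Matrix.exists_mulVec_eq_zero_iff.mp
    exact ⟨w, hw, by rw [Matrix.sub_mulVec, hfix, Matrix.one_mulVec, sub_self]⟩
  have hdet : A.1 0 0 * A.1 1 1 - A.1 0 1 * A.1 1 0 = 1 := by
    have := A.2
    rwa [Matrix.det_fin_two] at this
  have htr : A.1 0 0 + A.1 1 1 = 2 := by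
    rw [Matrix.det_fin_two] at hdet0
    simp only [Matrix.sub_apply, Matrix.one_apply_eq, Matrix.one_apply_ne, ne_eq,
      zero_ne_one, one_ne_zero, not_false_eq_true, sub_zero] at hdet0
    linear_combination hdet - hdet0
  have hN : (A.1 - 1) * (A.1 - 1) = 0 := by
    ext i j
    fin_cases i <;> fin_cases j <;>
      simp [Matrix.mul_apply, Fin.sum_univ_two]
    · linear_combination (A.1 0 0) * htr - hdet
    · linear_combination (A.1 0 1) * htr
    · linear_combination (A.1 1 0) * htr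
    · linear_combination (A.1 1 1) * htr - hdet
  have e : A.1 = 1 + (A.1 - 1) := by abel
  apply Subtype.ext
  show A.1 ^ p = 1
  rw [e, one_add_pow_of_sq_zero _ hN p, hp, zero_smul, add_zero]

/-- The unitriangular subgroup as the range of a homomorphism. -/
def uHom (F : Type*) [Field F] : Multiplicative F →* SpecialLinearGroup (Fin 2) F where
  toFun a := uMat (Multiplicative.toAdd a)
  map_one' := uMat_zero
  map_mul' _ _ := (uMat_mul _ _).symm

theorem mem_uHom_range (M : SpecialLinearGroup (Fin 2) F) :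
    M ∈ (uHom F).range ↔ ∃ a, M = uMat a := by
  constructor
  · rintro ⟨a, rfl⟩
    exact ⟨Multiplicative.toAdd a, rfl⟩
  · rintro ⟨a, rfl⟩
    exact ⟨Multiplicative.ofAdd a, rfl⟩

theorem uHom_injective : Function.Injective (uHom F) := by
  intro a b h
  exact Multiplicative.toAdd.injective (uMat_injective (F := F) h)

theorem card_uHom_range [Fintype F] : Nat.card (uHom F).range = Fintype.card F := by
  have h := Nat.card_congr (MonoidHom.ofInjective (uHom_injective (F := F))).toEquiv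
  rw [← h]
  exact (Nat.card_congr Multiplicative.toAdd).trans Nat.card_eq_fintype_card

theorem factorization_card_SL2 [Fintype F] {p n : ℕ} [Fact p.Prime]
    (hF : Fintype.card F = p ^ n) :
    (Nat.card (SpecialLinearGroup (Fin 2) F)).factorization p = n := by
  have hp : p.Prime := Fact.out
  rw [Cfsg.Agent.Lib.helper7.card_SL2 hF]
  have hn : n ≠ 0 := by
    rintro rfl
    have : 1 < Fintype.card F := Fintype.one_lt_card
    rw [hF] at this
    simp at this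
  have hq : 1 < p ^ n := Nat.one_lt_pow hn hp.one_lt
  have h1 : 1 < (p ^ n) ^ 2 := Nat.one_lt_pow (by norm_num) hq
  have hnd : ¬ p ∣ (p ^ n) ^ 2 - 1 := by
    intro hd
    have h2 : p ∣ (p ^ n) ^ 2 := dvd_pow (dvd_pow_self p hn) (by norm_num)
    have h3 : p ∣ (p ^ n) ^ 2 - ((p ^ n) ^ 2 - 1) := Nat.dvd_sub h2 hd
    have h4 : (p ^ n) ^ 2 - ((p ^ n) ^ 2 - 1) = 1 := by omega
    rw [h4] at h3
    exact hp.one_lt.ne' (Nat.dvd_one.mp h3)
  rw [Nat.factorization_mul (by positivity) (by omega), Finsupp.add_apply,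
    Nat.factorization_eq_zero_of_not_dvd hnd, add_zero, Nat.factorization_pow,
    Finsupp.smul_apply, hp.factorization_self, smul_eq_mul, mul_one]

end Mat

section Coord

variable {G : Type*} [Group G] {F : Type*} [Field F]

/-- Coordinates for the natural module `V` of `L`, with `T` the unitriangular subgroup. -/
structure IsNatCoord (V L T : Subgroup G) (c : ↥V → Fin 2 → F)
    (r : ↥L →* SpecialLinearGroup (Fin 2) F) : Prop where
  le_norm : L ≤ Subgroup.normalizer (V : Set G)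
  T_le : T ≤ L
  c_bij : Function.Bijective c
  c_mul : ∀ v w : ↥V, c (v * w) = c v + c w
  r_bij : Function.Bijective r
  equiv : ∀ (l : ↥L) (v w : ↥V), (w : G) = (l : G) * (v : G) * (l : G)⁻¹ →
    c w = (r l).1 *ᵥ c v
  mem_T : ∀ l : ↥L, (l : G) ∈ T ↔ ∃ a, r l = uMat a

theorem exists_natCoord [Finite G] {p : ℕ} [Fact p.Prime] [Fintype F] {n : ℕ}
    (hF : Fintype.card F = p ^ n) (V L : Subgroup G) (hnat : Cfsg.IsNaturalSL2Module F V L)
    (hf : L ⊓ Subgroup.centralizer (V : Set G) = ⊥) (S : Sylow p ↥L) (T : Subgroup G)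
    (hT : T = ((S : Subgroup ↥L).map L.subtype)) :
    ∃ (c : ↥V → Fin 2 → F) (r : ↥L →* SpecialLinearGroup (Fin 2) F),
      IsNatCoord V L T c r := by
  obtain ⟨hLN, ρ, ψ, hsurj, hker, hact⟩ := hnat
  have hinj : Function.Injective ρ := by
    rw [← MonoidHom.ker_eq_bot_iff, hker, Subgroup.subgroupOf_eq_bot, disjoint_iff, inf_comm]
    exact hf
  have hcardU : Nat.card (uHom F).range =
      p ^ (Nat.card (SpecialLinearGroup (Fin 2) F)).factorization p := by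
    rw [card_uHom_range, factorization_card_SL2 hF, hF]
  let PU : Sylow p (SpecialLinearGroup (Fin 2) F) := Sylow.ofCard (uHom F).range hcardU
  let PS : Sylow p (SpecialLinearGroup (Fin 2) F) := S.mapSurjective hsurj
  obtain ⟨g, hg⟩ := MulAction.exists_smul_eq (SpecialLinearGroup (Fin 2) F) PU PS
  have hmem : ∀ m : SpecialLinearGroup (Fin 2) F,
      m ∈ (S : Subgroup ↥L).map ρ ↔ ∃ a, g⁻¹ * m * g = uMat a := by
    intro m
    have h1 : ((g • PU : Sylow p (SpecialLinearGroup (Fin 2) F)) :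
        Subgroup (SpecialLinearGroup (Fin 2) F)) =
        (PS : Subgroup (SpecialLinearGroup (Fin 2) F)) := by rw [hg]
    rw [Sylow.coe_subgroup_smul] at h1
    have h2 : (PS : Subgroup (SpecialLinearGroup (Fin 2) F)) = (S : Subgroup ↥L).map ρ := rfl
    have h3 : (PU : Subgroup (SpecialLinearGroup (Fin 2) F)) = (uHom F).range :=
      Sylow.coe_ofCard _ _
    rw [← h2, ← h1, Subgroup.mem_pointwise_smul_iff_inv_smul_mem, h3, mem_uHom_range]
    simp [MulAut.smul_def]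
  have hgg : g.1 * (g⁻¹).1 = 1 := by
    have := congrArg Subtype.val (mul_inv_cancel g)
    exact this
  have hgg' : (g⁻¹).1 * g.1 = 1 := by
    have := congrArg Subtype.val (inv_mul_cancel g)
    exact this
  refine ⟨fun v => (g⁻¹).1 *ᵥ ψ (Additive.ofMul v), (MulAut.conj g⁻¹).toMonoidHom.comp ρ, ?_⟩
  refine ⟨hLN, hT ▸ Subgroup.map_subtype_le _, ⟨?_, ?_⟩, ?_, ?_, ?_, ?_⟩
  · intro v w hvw
    have h := congrArg (fun x => g.1 *ᵥ x) hvw
    simp only [Matrix.mulVec_mulVec, hgg, Matrix.one_mulVec] at h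
    exact Additive.ofMul.injective (ψ.injective h)
  · intro w
    refine ⟨Additive.toMul (ψ.symm (g.1 *ᵥ w)), ?_⟩
    show (g⁻¹).1 *ᵥ ψ (Additive.ofMul (Additive.toMul (ψ.symm (g.1 *ᵥ w)))) = w
    rw [ofMul_toMul, AddEquiv.apply_symm_apply, Matrix.mulVec_mulVec, hgg', Matrix.one_mulVec]
  · intro v w
    show (g⁻¹).1 *ᵥ ψ (Additive.ofMul (v * w)) = _
    rw [ofMul_mul, map_add, Matrix.mulVec_add]
  · exact (MulAut.conj g⁻¹).bijective.comp ⟨hinj, hsurj⟩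
  · intro l v w hw
    obtain ⟨w', hw', hψ⟩ := hact l v
    have hww : w = w' := Subtype.ext (hw.trans hw'.symm)
    subst hww
    show (g⁻¹).1 *ᵥ ψ (Additive.ofMul w) =
      ((g⁻¹).1 * (ρ l).1 * (g⁻¹⁻¹).1) *ᵥ ((g⁻¹).1 *ᵥ ψ (Additive.ofMul v))
    rw [hψ, inv_inv, Matrix.mulVec_mulVec, Matrix.mulVec_mulVec, mul_assoc, mul_assoc, hgg,
      mul_one]
  · intro l
    have h1 : (l : G) ∈ T ↔ l ∈ (S : Subgroup ↥L) := by
      rw [hT, Subgroup.mem_map]
      constructor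
      · rintro ⟨x, hx, hxl⟩
        have : x = l := Subtype.ext hxl
        exact this ▸ hx
      · intro hl
        exact ⟨l, hl, rfl⟩
    rw [h1, ← Subgroup.mem_map_iff_mem hinj, hmem]
    have h2 : ((MulAut.conj g⁻¹).toMonoidHom.comp ρ) l = g⁻¹ * ρ l * g := by
      simp
    rw [h2]

namespace IsNatCoord

variable {V L T : Subgroup G} {c : ↥V → Fin 2 → F}
  {r : ↥L →* SpecialLinearGroup (Fin 2) F}

theorem c_one (h : IsNatCoord V L T c r) : c 1 = 0 := by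
  have h1 := h.c_mul 1 1
  rw [mul_one] at h1
  exact left_eq_add.mp h1

theorem c_inv (h : IsNatCoord V L T c r) (v : ↥V) : c v⁻¹ = - c v := by
  have h1 := h.c_mul v v⁻¹
  rw [mul_inv_cancel, h.c_one] at h1
  exact eq_neg_of_add_eq_zero_right h1.symm

theorem c_eq_zero_iff (h : IsNatCoord V L T c r) (v : ↥V) : c v = 0 ↔ v = 1 := by
  rw [← h.c_one]
  exact h.c_bij.1.eq_iff

theorem comm_V (h : IsNatCoord V L T c r) {v w : G} (hv : v ∈ V) (hw : w ∈ V) :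
    v * w = w * v := by
  have h1 : (⟨v, hv⟩ * ⟨w, hw⟩ : ↥V) = ⟨w, hw⟩ * ⟨v, hv⟩ :=
    h.c_bij.1 (by rw [h.c_mul, h.c_mul, add_comm])
  exact congrArg Subtype.val h1

theorem conj_mem (h : IsNatCoord V L T c r) {l : G} (hl : l ∈ L) {v : G} (hv : v ∈ V) :
    l * v * l⁻¹ ∈ V :=
  (Subgroup.mem_normalizer_iff.mp (h.le_norm hl) v).mp hv

theorem c_conj (h : IsNatCoord V L T c r) {l : G} (hl : l ∈ L) {v : G} (hv : v ∈ V) :
    c ⟨l * v * l⁻¹, h.conj_mem hl hv⟩ = (r ⟨l, hl⟩).1 *ᵥ c ⟨v, hv⟩ :=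
  h.equiv ⟨l, hl⟩ ⟨v, hv⟩ _ rfl

theorem c_conj_T (h : IsNatCoord V L T c r) {t : G} (ht : t ∈ T) {a : F}
    (ha : r ⟨t, h.T_le ht⟩ = uMat a) {v : G} (hv : v ∈ V) :
    c ⟨t * v * t⁻¹, h.conj_mem (h.T_le ht) hv⟩ =
      ![c ⟨v, hv⟩ 0 + a * c ⟨v, hv⟩ 1, c ⟨v, hv⟩ 1] := by
  rw [h.c_conj (h.T_le ht) hv, ha, uMat_mulVec]

theorem exists_uMat (h : IsNatCoord V L T c r) {t : G} (ht : t ∈ T) :
    ∃ a, r ⟨t, h.T_le ht⟩ = uMat a :=
  (h.mem_T ⟨t, h.T_le ht⟩).mp ht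

theorem exists_T (h : IsNatCoord V L T c r) (a : F) :
    ∃ t, ∃ ht : t ∈ T, r ⟨t, h.T_le ht⟩ = uMat a := by
  obtain ⟨l, hl⟩ := h.r_bij.2 (uMat a)
  have hlT : (l : G) ∈ T := (h.mem_T l).mpr ⟨a, hl⟩
  exact ⟨l, hlT, hl⟩

theorem exists_V (h : IsNatCoord V L T c r) (x y : F) :
    ∃ v, ∃ hv : v ∈ V, c ⟨v, hv⟩ = ![x, y] := by
  obtain ⟨v, hv⟩ := h.c_bij.2 ![x, y]
  exact ⟨v, v.2, hv⟩

theorem eq_of_coords (h : IsNatCoord V L T c r) {v w : G} (hv : v ∈ V) (hw : w ∈ V)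
    (h0 : c ⟨v, hv⟩ 0 = c ⟨w, hw⟩ 0) (h1 : c ⟨v, hv⟩ 1 = c ⟨w, hw⟩ 1) : v = w := by
  have h2 : c ⟨v, hv⟩ = c ⟨w, hw⟩ := by
    funext i
    fin_cases i
    · exact h0
    · exact h1
  exact congrArg Subtype.val (h.c_bij.1 h2)

theorem commute_iff (h : IsNatCoord V L T c r) {t : G} (ht : t ∈ T) {a : F}
    (ha : r ⟨t, h.T_le ht⟩ = uMat a) {v : G} (hv : v ∈ V) :
    t * v = v * t ↔ a * c ⟨v, hv⟩ 1 = 0 := by
  have h1 := h.c_conj_T ht ha hv
  constructor
  · intro hc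
    have h2 : (⟨t * v * t⁻¹, h.conj_mem (h.T_le ht) hv⟩ : ↥V) = ⟨v, hv⟩ :=
      Subtype.ext (by show t * v * t⁻¹ = v; rw [hc, mul_inv_cancel_right])
    rw [h2] at h1
    have h3 := congrFun h1 0
    simpa using h3
  · intro h0
    have h2 : t * v * t⁻¹ = v := by
      apply h.eq_of_coords (h.conj_mem (h.T_le ht) hv) hv
      · rw [h1, h0, add_zero]; rfl
      · rw [h1]; rfl
    exact mul_inv_eq_iff_eq_mul.mp h2

theorem mem_centralizer_T_iff (h : IsNatCoord V L T c r) {v : G} (hv : v ∈ V) :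
    v ∈ Subgroup.centralizer (T : Set G) ↔ c ⟨v, hv⟩ 1 = 0 := by
  rw [Subgroup.mem_centralizer_iff]
  constructor
  · intro hc
    obtain ⟨t, ht, hta⟩ := h.exists_T 1
    have h1 := (h.commute_iff ht hta hv).mp (hc t ht)
    rwa [one_mul] at h1
  · intro h0 t ht
    obtain ⟨a, ha⟩ := h.exists_uMat ht
    exact (h.commute_iff ht ha hv).mpr (by rw [h0, mul_zero])

theorem ne_zero_of_ne_one (h : IsNatCoord V L T c r) {s : G} (hs : s ∈ T) (hs1 : s ≠ 1)
    {a : F} (ha : r ⟨s, h.T_le hs⟩ = uMat a) : a ≠ 0 := by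
  rintro rfl
  rw [uMat_zero] at ha
  have h1 : (⟨s, h.T_le hs⟩ : ↥L) = 1 := h.r_bij.1 (ha.trans (map_one r).symm)
  exact hs1 (congrArg Subtype.val h1)

theorem mem_centralizer_singleton_iff (h : IsNatCoord V L T c r) {s : G} (hs : s ∈ T)
    (hs1 : s ≠ 1) {v : G} (hv : v ∈ V) :
    v ∈ Subgroup.centralizer ({s} : Set G) ↔ c ⟨v, hv⟩ 1 = 0 := by
  obtain ⟨a, ha⟩ := h.exists_uMat hs
  have ha0 := h.ne_zero_of_ne_one hs hs1 ha
  rw [Subgroup.mem_centralizer_iff]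
  constructor
  · intro hc
    have h1 := (h.commute_iff hs ha hv).mp (hc s rfl)
    exact (mul_eq_zero.mp h1).resolve_left ha0
  · intro h0 t ht
    rw [Set.mem_singleton_iff] at ht
    subst ht
    exact (h.commute_iff hs ha hv).mpr (by rw [h0, mul_zero])

theorem comm_mem (h : IsNatCoord V L T c r) {t : G} (ht : t ∈ T) {v : G} (hv : v ∈ V) :
    v * t * v⁻¹ * t⁻¹ ∈ V := by
  have h1 : v * t * v⁻¹ * t⁻¹ = v * (t * v * t⁻¹)⁻¹ := by group
  rw [h1]
  exact V.mul_mem hv (V.inv_mem (h.conj_mem (h.T_le ht) hv))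

theorem c_comm (h : IsNatCoord V L T c r) {t : G} (ht : t ∈ T) {a : F}
    (ha : r ⟨t, h.T_le ht⟩ = uMat a) {v : G} (hv : v ∈ V) :
    c ⟨v * t * v⁻¹ * t⁻¹, h.comm_mem ht hv⟩ = ![- (a * c ⟨v, hv⟩ 1), 0] := by
  have e : (⟨v * t * v⁻¹ * t⁻¹, h.comm_mem ht hv⟩ : ↥V) =
      ⟨v, hv⟩ * (⟨t * v * t⁻¹, h.conj_mem (h.T_le ht) hv⟩ : ↥V)⁻¹ :=
    Subtype.ext (by show _ = v * (t * v * t⁻¹)⁻¹; group)
  rw [e, h.c_mul, h.c_inv, h.c_conj_T ht ha hv]
  funext i
  fin_cases i <;> simp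

theorem comm_mem_inf (h : IsNatCoord V L T c r) {t : G} (ht : t ∈ T) {v : G} (hv : v ∈ V) :
    v * t * v⁻¹ * t⁻¹ ∈ V ⊓ Subgroup.centralizer (T : Set G) := by
  obtain ⟨a, ha⟩ := h.exists_uMat ht
  refine Subgroup.mem_inf.mpr ⟨h.comm_mem ht hv, ?_⟩
  rw [h.mem_centralizer_T_iff (h.comm_mem ht hv), h.c_comm ht ha hv]
  rfl

theorem mem_normalizer_T [Finite G] (h : IsNatCoord V L T c r) {l : G} (hl : l ∈ L)
    (h0 : (r ⟨l, hl⟩).1 1 0 = 0) : l ∈ Subgroup.normalizer (T : Set G) := by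
  apply Cfsg.Agent.Lib.helper53.mem_normalizer_of_conj_le
  rintro _ ⟨t, ht, rfl⟩
  show l * t * l⁻¹ ∈ T
  obtain ⟨a, ha⟩ := h.exists_uMat ht
  have h1 : r (⟨l, hl⟩ * ⟨t, h.T_le ht⟩ * ⟨l, hl⟩⁻¹) = uMat ((r ⟨l, hl⟩).1 0 0 ^ 2 * a) := by
    rw [map_mul, map_mul, map_inv, ha, conj_uMat _ h0, mul_inv_cancel_right]
  exact (h.mem_T (⟨l, hl⟩ * ⟨t, h.T_le ht⟩ * ⟨l, hl⟩⁻¹)).mpr ⟨_, h1⟩

theorem exists_torus [Finite G] (h : IsNatCoord V L T c r) (a : F) (ha : a ≠ 0) :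
    ∃ d, ∃ hd : d ∈ L, d ∈ Subgroup.normalizer (T : Set G) ∧ r ⟨d, hd⟩ = hMat a ha := by
  obtain ⟨l, hl⟩ := h.r_bij.2 (hMat a ha)
  refine ⟨l, l.2, h.mem_normalizer_T l.2 ?_, hl⟩
  show (r l).1 1 0 = 0
  rw [hl, hMat_val]
  simp

theorem c_conj_torus (h : IsNatCoord V L T c r) {d : G} (hd : d ∈ L) {a : F} {ha : a ≠ 0}
    (hda : r ⟨d, hd⟩ = hMat a ha) {v : G} (hv : v ∈ V) :
    c ⟨d * v * d⁻¹, h.conj_mem hd hv⟩ = ![a * c ⟨v, hv⟩ 0, a⁻¹ * c ⟨v, hv⟩ 1] := by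
  rw [h.c_conj hd hv, hda, hMat_mulVec]

end IsNatCoord

end Coord

end Cfsg.Agent.Lib.helper52
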