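import Mathlib
import Cfsg.Agent.Lib.helper68.HallPet

set_option autoImplicit false

namespace Cfsg.Agent.Lib.helper52.PearlJ

open Cfsg.Agent.Lib.helper68

/-- J6 (helper52 copy). A proper subgroup of a `p`-group has index at least `p`. -/
theorem h52_jp_proper_card {G : Type*} [Group G] [Finite G] (p : ℕ) [Fact p.Prime] (hGp : IsPGroup p G)
    (A B : Subgroup G) (hBA : B ≤ A) (g : G) (hgA : g ∈ A) (hgB : g ∉ B) :
    p * Nat.card B ≤ Nat.card A := by
  have hp : p.Prime := Fact.out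
  obtain ⟨a, ha⟩ := IsPGroup.iff_card.mp (hGp.to_subgroup A)
  obtain ⟨b, hb⟩ := IsPGroup.iff_card.mp (hGp.to_subgroup B)
  have hdvd : Nat.card B ∣ Nat.card A := Subgroup.card_dvd_of_le hBA
  rw [ha, hb] at hdvd ⊢
  have hba : b ≤ a := (Nat.pow_dvd_pow_iff_le_right hp.one_lt).mp hdvd
  rcases Nat.lt_or_ge b a with h | h
  · calc p * p ^ b = p ^ (b + 1) := by ring
      _ ≤ p ^ a := Nat.pow_le_pow_right hp.pos h
  · exfalso
    have hab : a = b := le_antisymm h hba
    have hcard : Nat.card A ≤ Nat.card B := by rw [ha, hb, hab]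
    have := Subgroup.eq_of_le_of_card_ge hBA hcard
    exact hgB (this ▸ hgA)

/-- J5 (helper52 copy). `|K ∩ A : K ∩ B| ≤ |A : B|`. -/
theorem h52_jp_inter_le {G : Type*} [Group G] [Finite G] (K A B : Subgroup G) (hBA : B ≤ A) (c : ℕ)
    (hidx : Nat.card A = c * Nat.card B) : Nat.card ↥(K ⊓ A) ≤ c * Nat.card ↥(K ⊓ B) := by
  have h1 : Nat.card B * B.relIndex A = Nat.card A := by
    have := Subgroup.relIndex_mul_relIndex (⊥ : Subgroup G) B A bot_le hBA
    rwa [Subgroup.relIndex_bot_left, Subgroup.relIndex_bot_left] at this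
  have h2 : Nat.card ↥(K ⊓ B) * (K ⊓ B).relIndex (K ⊓ A) = Nat.card ↥(K ⊓ A) := by
    have := Subgroup.relIndex_mul_relIndex (⊥ : Subgroup G) (K ⊓ B) (K ⊓ A) bot_le
      (inf_le_inf_left K hBA)
    rwa [Subgroup.relIndex_bot_left, Subgroup.relIndex_bot_left] at this
  have hBpos : 0 < Nat.card B := Nat.card_pos
  have hApos : 0 < Nat.card A := Nat.card_pos
  have hne : B.relIndex A ≠ 0 := by
    intro h
    rw [h, mul_zero] at h1
    omega
  have hc : B.relIndex A = c := by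
    have : Nat.card B * B.relIndex A = Nat.card B * c := by rw [h1, hidx, mul_comm]
    exact Nat.eq_of_mul_eq_mul_left hBpos this
  have h3 : (K ⊓ B).relIndex (K ⊓ A) = B.relIndex (K ⊓ A) := by
    rw [← Subgroup.inf_relIndex_right (H := K ⊓ B), ← Subgroup.inf_relIndex_right (H := B)]
    congr 1
    ext y
    simp only [Subgroup.mem_inf]
    tauto
  have h4 : B.relIndex (K ⊓ A) ≤ B.relIndex A := Subgroup.relIndex_le_of_le_right inf_le_right hne
  calc Nat.card ↥(K ⊓ A) = Nat.card ↥(K ⊓ B) * (K ⊓ B).relIndex (K ⊓ A) := h2.symm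
    _ = Nat.card ↥(K ⊓ B) * B.relIndex (K ⊓ A) := by rw [h3]
    _ ≤ Nat.card ↥(K ⊓ B) * B.relIndex A := Nat.mul_le_mul_left _ h4
    _ = c * Nat.card ↥(K ⊓ B) := by rw [hc, mul_comm]

end Cfsg.Agent.Lib.helper52.PearlJ
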