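import Mathlib
import Cfsg.Agent.Lib.helper68.HallPet
import Cfsg.Agent.Lib.helper52.PearlJA

set_option autoImplicit false

namespace Cfsg.Agent.Lib.helper52.PearlJ

open Cfsg.Agent.Lib.helper68

/-- J7 (helper52 copy). Jump counting. -/
theorem h52_jp_count {G : Type*} [Group G] [Finite G] (p : ℕ) [Fact p.Prime] (n : ℕ)
    (hG : Nat.card G = p ^ n) (hn : p + 2 ≤ n)
    (hchain : ∀ i, 2 ≤ i → i ≤ n → Nat.card (gam G i) = p ^ (n - i))
    (hpow : ∀ i, 2 ≤ i → i + p ≤ n → ∀ m ∈ gam G i, m ∉ gam G (i + 1) →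
      m ^ p ∈ gam G (i + p - 1) ∧ m ^ p ∉ gam G (i + p))
    (K U : Subgroup G) (hU : ∀ k ∈ K, k ^ p ∈ U) :
    Nat.card ↥(K ⊓ gam G 2) ≤ p ^ (p - 1) * Nat.card U := by
  have hp : p.Prime := Fact.out
  have hp1 : 1 ≤ p := hp.pos
  have hGp : IsPGroup p G := IsPGroup.of_card hG
  have key : ∀ j i, i + j = n - p + 1 → 2 ≤ i →
      Nat.card ↥(K ⊓ gam G i) ≤ p ^ (p - 1) * Nat.card ↥(U ⊓ gam G (i + p - 1)) := by
    intro j
    induction j with
    | zero =>
      intro i hi h2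
      have hle : Nat.card ↥(K ⊓ gam G i) ≤ Nat.card (gam G i) := Subgroup.card_le_of_le inf_le_right
      have hc : Nat.card (gam G i) = p ^ (n - i) := hchain i h2 (by omega)
      have hni : n - i = p - 1 := by omega
      rw [hc, hni] at hle
      calc Nat.card ↥(K ⊓ gam G i) ≤ p ^ (p - 1) := hle
        _ = p ^ (p - 1) * 1 := (mul_one _).symm
        _ ≤ p ^ (p - 1) * Nat.card ↥(U ⊓ gam G (i + p - 1)) :=
          Nat.mul_le_mul_left _ Nat.card_pos
    | succ j ih =>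
      intro i hi h2
      have ih' := ih (i + 1) (by omega) (by omega)
      have e1 : i + 1 + p - 1 = i + p := by omega
      rw [e1] at ih'
      have hin : i + p ≤ n := by omega
      have hmono : Nat.card ↥(U ⊓ gam G (i + p)) ≤ Nat.card ↥(U ⊓ gam G (i + p - 1)) :=
        Subgroup.card_le_of_le (inf_le_inf_left U (gam_antitone (by omega)))
      have hstep : Nat.card ↥(K ⊓ gam G i) ≤ p * Nat.card ↥(K ⊓ gam G (i + 1)) := by
        apply h52_jp_inter_le K (gam G i) (gam G (i + 1)) (gam_antitone (by omega)) p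
        rw [hchain i h2 (by omega), hchain (i + 1) (by omega) (by omega)]
        have : n - i = (n - (i + 1)) + 1 := by omega
        rw [this, pow_succ]
        ring
      by_cases hex : ∃ k, k ∈ K ∧ k ∈ gam G i ∧ k ∉ gam G (i + 1)
      · obtain ⟨k, hkK, hki, hki1⟩ := hex
        obtain ⟨hq1, hq2⟩ := hpow i h2 hin k hki hki1
        have h6 : p * Nat.card ↥(U ⊓ gam G (i + p)) ≤ Nat.card ↥(U ⊓ gam G (i + p - 1)) :=
          h52_jp_proper_card p hGp _ _ (inf_le_inf_left U (gam_antitone (by omega))) (k ^ p)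
            ⟨hU k hkK, hq1⟩ (fun h => hq2 h.2)
        calc Nat.card ↥(K ⊓ gam G i) ≤ p * Nat.card ↥(K ⊓ gam G (i + 1)) := hstep
          _ ≤ p * (p ^ (p - 1) * Nat.card ↥(U ⊓ gam G (i + p))) := Nat.mul_le_mul_left _ ih'
          _ = p ^ (p - 1) * (p * Nat.card ↥(U ⊓ gam G (i + p))) := by ring
          _ ≤ p ^ (p - 1) * Nat.card ↥(U ⊓ gam G (i + p - 1)) := Nat.mul_le_mul_left _ h6
      · have heq : K ⊓ gam G i = K ⊓ gam G (i + 1) := by
          apply le_antisymm
          · intro y hy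
            refine ⟨hy.1, ?_⟩
            by_contra hcon
            exact hex ⟨y, hy.1, hy.2, hcon⟩
          · exact inf_le_inf_left K (gam_antitone (by omega))
        rw [heq]
        calc Nat.card ↥(K ⊓ gam G (i + 1)) ≤ p ^ (p - 1) * Nat.card ↥(U ⊓ gam G (i + p)) := ih'
          _ ≤ p ^ (p - 1) * Nat.card ↥(U ⊓ gam G (i + p - 1)) := Nat.mul_le_mul_left _ hmono
  have h2 := key (n - p + 1 - 2) 2 (by omega) le_rfl
  calc Nat.card ↥(K ⊓ gam G 2) ≤ p ^ (p - 1) * Nat.card ↥(U ⊓ gam G (2 + p - 1)) := h2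
    _ ≤ p ^ (p - 1) * Nat.card U := Nat.mul_le_mul_left _ (Subgroup.card_le_of_le inf_le_left)

end Cfsg.Agent.Lib.helper52.PearlJ
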