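import Mathlib
import Cfsg.Agent.Lib.helper68.HallPet
import Cfsg.Agent.Lib.helper52.PearlJA

set_option autoImplicit false

namespace Cfsg.Agent.Lib.helper52.PearlJ

open Cfsg.Agent.Lib.helper68

/-- J1 (helper52 copy). Greedy generators modulo `L`. -/
theorem h52_jp_greedy {G : Type*} [Group G] [Finite G] (p : ℕ) [Fact p.Prime] (hGp : IsPGroup p G)
    (k : ℕ) (H L : Subgroup G) (hL : L ≤ H) (hidx : Nat.card H ≤ p ^ k * Nat.card L) :
    ∃ T : Finset G, T.card ≤ k ∧ Subgroup.closure (T : Set G) ⊔ L = H := by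
  classical
  induction k generalizing L with
  | zero =>
    have h1 : Nat.card H ≤ Nat.card L := by simpa using hidx
    have hLH : L = H := Subgroup.eq_of_le_of_card_ge hL h1
    exact ⟨∅, by simp, by simp [hLH]⟩
  | succ k ih =>
    by_cases hLH : L = H
    · exact ⟨∅, by simp, by simp [hLH]⟩
    · obtain ⟨h, hhH, hhL⟩ : ∃ h, h ∈ H ∧ h ∉ L := by
        by_contra hcon
        push_neg at hcon
        exact hLH (le_antisymm hL hcon)
      have hLL' : L ≤ Subgroup.closure ({h} : Set G) ⊔ L := le_sup_right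
      have hL'H : Subgroup.closure ({h} : Set G) ⊔ L ≤ H :=
        sup_le ((Subgroup.closure_le H).mpr (by simpa using hhH)) hL
      have hhL' : h ∈ Subgroup.closure ({h} : Set G) ⊔ L :=
        (le_sup_left : Subgroup.closure ({h} : Set G) ≤ _) (Subgroup.subset_closure (by simp))
      have hcard : p * Nat.card L ≤ Nat.card ↥(Subgroup.closure ({h} : Set G) ⊔ L) :=
        h52_jp_proper_card p hGp _ L hLL' h hhL' hhL
      have hidx' : Nat.card H ≤ p ^ k * Nat.card ↥(Subgroup.closure ({h} : Set G) ⊔ L) := by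
        calc Nat.card H ≤ p ^ (k + 1) * Nat.card L := hidx
          _ = p ^ k * (p * Nat.card L) := by ring
          _ ≤ p ^ k * Nat.card ↥(Subgroup.closure ({h} : Set G) ⊔ L) :=
            Nat.mul_le_mul_left _ hcard
      obtain ⟨T', hT'c, hT'⟩ := ih _ hL'H hidx'
      refine ⟨insert h T', ?_, ?_⟩
      · exact (Finset.card_insert_le h T').trans (by omega)
      · rw [Finset.coe_insert, ← hT', Set.insert_eq, Subgroup.closure_union]
        rw [sup_comm (Subgroup.closure ({h} : Set G)) (Subgroup.closure (T' : Set G)), sup_assoc]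

/-- Every proper subgroup `A` of a `p`-subgroup `H` lies in a subgroup of index `p` of `H`. -/
theorem h52_jp_exists_max {G : Type*} [Group G] [Finite G] (p : ℕ) [Fact p.Prime]
    (hGp : IsPGroup p G) (H A : Subgroup G) (hAH : A ≤ H) (hne : A ≠ H) :
    ∃ M : Subgroup G, A ≤ M ∧ M ≤ H ∧ Nat.card H = p * Nat.card M := by
  have hp : p.Prime := Fact.out
  obtain ⟨a, ha⟩ := IsPGroup.iff_card.mp (hGp.to_subgroup A)
  obtain ⟨b, hb⟩ := IsPGroup.iff_card.mp (hGp.to_subgroup H)
  have hdvd : Nat.card A ∣ Nat.card H := Subgroup.card_dvd_of_le hAH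
  rw [ha, hb] at hdvd
  have hab : a ≤ b := (Nat.pow_dvd_pow_iff_le_right hp.one_lt).mp hdvd
  have hab' : a < b := by
    rcases Nat.lt_or_ge a b with h | h
    · exact h
    · exfalso
      have : Nat.card H ≤ Nat.card A := by
        rw [ha, hb]
        exact Nat.pow_le_pow_right hp.pos h
      exact hne (Subgroup.eq_of_le_of_card_ge hAH this)
  have hA' : Nat.card ↥(A.subgroupOf H) = p ^ a := by
    rw [← ha]
    exact Nat.card_congr (Subgroup.subgroupOfEquivOfLe hAH).toEquiv
  have hdvd' : p ^ (b - 1) ∣ Nat.card ↥H := by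
    rw [hb]
    exact pow_dvd_pow p (by omega)
  obtain ⟨K', hK'c, hK'⟩ := Sylow.exists_subgroup_card_pow_prime_le p hdvd' (A.subgroupOf H) hA'
    (by omega)
  refine ⟨K'.map H.subtype, ?_, ?_, ?_⟩
  · intro y hy
    exact ⟨⟨y, hAH hy⟩, hK' (by simpa [Subgroup.mem_subgroupOf] using hy), rfl⟩
  · exact Subgroup.map_subtype_le K'
  · have hc : Nat.card ↥(K'.map H.subtype) = p ^ (b - 1) := by
      rw [← hK'c]
      exact (Nat.card_congr (Subgroup.equivMapOfInjective K' H.subtype
        (Subgroup.subtype_injective H)).toEquiv).symm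
    rw [hb, hc]
    have : b = (b - 1) + 1 := by omega
    conv_lhs => rw [this, pow_succ]
    ring

/-- J2 (helper52 copy). Non-generators. -/
theorem h52_jp_nongen {G : Type*} [Group G] [Finite G] (p : ℕ) [Fact p.Prime] (hGp : IsPGroup p G)
    (H L A : Subgroup G)
    (hfr : ∀ M : Subgroup G, M ≤ H → Nat.card H = p * Nat.card M → L ≤ M)
    (hA : A ⊔ L = H) : A = H := by
  have hp : p.Prime := Fact.out
  by_contra hne
  have hAH : A ≤ H := hA ▸ le_sup_left
  obtain ⟨M, hAM, hMH, hcard⟩ := h52_jp_exists_max p hGp H A hAH hne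
  have hLM : L ≤ M := hfr M hMH hcard
  have hHM : H ≤ M := hA ▸ sup_le hAM hLM
  have h1 : Nat.card H ≤ Nat.card M := Subgroup.card_le_of_le hHM
  have hMpos : 0 < Nat.card M := Nat.card_pos
  have h2 : 2 * Nat.card M ≤ p * Nat.card M := Nat.mul_le_mul_right _ hp.two_le
  omega

/-- A subgroup of index `p` of a `p`-subgroup `H`, viewed inside `↥H`, is normal of index `p`. -/
theorem h52_jp_index_p {G : Type*} [Group G] [Finite G] (p : ℕ) [Fact p.Prime]
    (hGp : IsPGroup p G) (H M : Subgroup G) (hM : M ≤ H) (hidx : Nat.card H = p * Nat.card M) :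
    (M.subgroupOf H).Normal ∧ (M.subgroupOf H).index = p := by
  have hp : p.Prime := Fact.out
  have hc : Nat.card ↥(M.subgroupOf H) = Nat.card M :=
    Nat.card_congr (Subgroup.subgroupOfEquivOfLe hM).toEquiv
  have hi : (M.subgroupOf H).index = p := by
    have h1 := Subgroup.index_mul_card (M.subgroupOf H)
    rw [hc, hidx] at h1
    have hMpos : 0 < Nat.card M := Nat.card_pos
    exact Nat.eq_of_mul_eq_mul_right hMpos h1
  refine ⟨?_, hi⟩
  apply Subgroup.normal_of_index_eq_minFac_card
  rw [hi]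
  obtain ⟨b, hb⟩ := IsPGroup.iff_card.mp (hGp.to_subgroup H)
  have hb0 : b ≠ 0 := by
    rintro rfl
    rw [pow_zero] at hb
    rw [hb] at hidx
    have hMpos : 0 < Nat.card M := Nat.card_pos
    have : 2 * Nat.card M ≤ p * Nat.card M := Nat.mul_le_mul_right _ hp.two_le
    omega
  rw [hb, Nat.Prime.pow_minFac hp hb0]

/-- J3 (helper52 copy). `p`-th powers lie in every subgroup of index `p`. -/
theorem h52_jp_pow_mem {G : Type*} [Group G] [Finite G] (p : ℕ) [Fact p.Prime] (hGp : IsPGroup p G)
    (H M : Subgroup G) (hM : M ≤ H) (hidx : Nat.card H = p * Nat.card M) (h : G) (hh : h ∈ H) :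
    h ^ p ∈ M := by
  obtain ⟨hN, hi⟩ := h52_jp_index_p p hGp H M hM hidx
  have h1 := Subgroup.pow_index_mem (M.subgroupOf H) (⟨h, hh⟩ : ↥H)
  rw [hi] at h1
  simpa [Subgroup.mem_subgroupOf] using h1

/-- J4 (helper52 copy). The derived subgroup lies in every subgroup of index `p`. -/
theorem h52_jp_gam_two_le {G : Type*} [Group G] [Finite G] (p : ℕ) [Fact p.Prime] (hGp : IsPGroup p G)
    (M : Subgroup G) (hidx : Nat.card G = p * Nat.card M) : gam G 2 ≤ M := by
  have hp : p.Prime := Fact.out
  have hi : M.index = p := by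
    have h1 := Subgroup.index_mul_card M
    rw [hidx] at h1
    have hMpos : 0 < Nat.card M := Nat.card_pos
    exact Nat.eq_of_mul_eq_mul_right hMpos h1
  haveI hN : M.Normal := by
    apply Subgroup.normal_of_index_eq_minFac_card
    rw [hi]
    obtain ⟨b, hb⟩ := IsPGroup.iff_card.mp hGp
    have hb0 : b ≠ 0 := by
      rintro rfl
      rw [pow_zero] at hb
      rw [hb] at hidx
      have hMpos : 0 < Nat.card M := Nat.card_pos
      have : 2 * Nat.card M ≤ p * Nat.card M := Nat.mul_le_mul_right _ hp.two_le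
      omega
    rw [hb, Nat.Prime.pow_minFac hp hb0]
  have hq : Nat.card (G ⧸ M) = p := by
    rw [← Subgroup.index_eq_card]
    exact hi
  haveI : IsCyclic (G ⧸ M) := isCyclic_of_prime_card hq
  have hgam : gam G 2 = commutator G := by
    unfold gam
    exact Subgroup.top_lowerCentralSeries_one
  rw [hgam, commutator_def, Subgroup.commutator_le]
  intro a _ b _
  rw [← QuotientGroup.eq_one_iff, commutatorElement_def]
  have hcomm : ∀ u v : G ⧸ M, u * v = v * u := fun u v => IsCyclic.commGroup.mul_comm u v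
  simp only [QuotientGroup.mk_mul, QuotientGroup.mk_inv]
  rw [hcomm (↑a) (↑b)]
  group

end Cfsg.Agent.Lib.helper52.PearlJ
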