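import Mathlib
import Cfsg.Agent.Lib.helper68.HallPet
import Cfsg.Agent.Lib.helper52.PearlJA
import Cfsg.Agent.Lib.helper52.PearlJB
import Cfsg.Agent.Lib.helper52.PearlJC

set_option autoImplicit false

namespace Cfsg.Agent.Lib.helper52.PearlJ

open Cfsg.Agent.Lib.helper68

/-- J9 (helper52 copy). -/
theorem h52_jp_nontop_index {G : Type*} [Group G] [Finite G] (p : ℕ) [Fact p.Prime] (n : ℕ)
    (hG : Nat.card G = p ^ n) (hn : 2 ≤ n) (hP2 : Nat.card (gam G 2) = p ^ (n - 2))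
    (H : Subgroup G) (hH : H ≠ ⊤) : Nat.card H ≤ p * Nat.card ↥(H ⊓ gam G 2) := by
  have hp : p.Prime := Fact.out
  have hGp : IsPGroup p G := IsPGroup.of_card hG
  obtain ⟨M, hHM, -, hcard⟩ := h52_jp_exists_max p hGp ⊤ H le_top hH
  have hcardG : Nat.card G = p * Nat.card M := by
    rw [← hcard]
    exact (Subgroup.card_top).symm
  have h2M : gam G 2 ≤ M := h52_jp_gam_two_le p hGp M hcardG
  have hM : Nat.card M = p * Nat.card (gam G 2) := by
    have h1 : p * Nat.card M = p * (p * Nat.card (gam G 2)) := by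
      rw [← hcardG, hG, hP2]
      have : n = (n - 2) + 2 := by omega
      conv_lhs => rw [this, pow_add]
      ring
    exact Nat.eq_of_mul_eq_mul_left hp.pos h1
  have h5 := h52_jp_inter_le H M (gam G 2) h2M p hM
  have e : H ⊓ M = H := inf_eq_left.mpr hHM
  rwa [e] at h5

/-- J8 (helper52 copy). -/
theorem h52_jp_nontop_big {G : Type*} [Group G] [Finite G] (p : ℕ) [Fact p.Prime] (n : ℕ)
    (hG : Nat.card G = p ^ n) (hn : p + 2 ≤ n)
    (hchain : ∀ i, 2 ≤ i → i ≤ n → Nat.card (gam G i) = p ^ (n - i))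
    (hpow : ∀ i, 2 ≤ i → i + p ≤ n → ∀ m ∈ gam G i, m ∉ gam G (i + 1) →
      m ^ p ∈ gam G (i + p - 1) ∧ m ^ p ∉ gam G (i + p))
    (H : Subgroup G) (hH : H ≠ ⊤) :
    ∃ T : Finset G, T.card ≤ p ∧ Subgroup.closure (T : Set G) = H := by
  have hp : p.Prime := Fact.out
  have hGp : IsPGroup p G := IsPGroup.of_card hG
  have hUK : Subgroup.closure {y : G | ∃ k ∈ H ⊓ gam G 2, y = k ^ p} ≤ H ⊓ gam G 2 := by
    rw [Subgroup.closure_le]
    rintro y ⟨k, hk, rfl⟩
    exact Subgroup.pow_mem _ hk p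
  have hUH : Subgroup.closure {y : G | ∃ k ∈ H ⊓ gam G 2, y = k ^ p} ≤ H := hUK.trans inf_le_left
  have h7 := h52_jp_count p n hG hn hchain hpow (H ⊓ gam G 2)
    (Subgroup.closure {y : G | ∃ k ∈ H ⊓ gam G 2, y = k ^ p})
    (fun k hk => Subgroup.subset_closure ⟨k, hk, rfl⟩)
  have e : H ⊓ gam G 2 ⊓ gam G 2 = H ⊓ gam G 2 := inf_eq_left.mpr inf_le_right
  rw [e] at h7
  have h9 := h52_jp_nontop_index p n hG (by omega) (hchain 2 le_rfl (by omega)) H hH
  have hidx : Nat.card H ≤ p ^ p *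
      Nat.card ↥(Subgroup.closure {y : G | ∃ k ∈ H ⊓ gam G 2, y = k ^ p}) := by
    calc Nat.card H ≤ p * Nat.card ↥(H ⊓ gam G 2) := h9
      _ ≤ p * (p ^ (p - 1) *
          Nat.card ↥(Subgroup.closure {y : G | ∃ k ∈ H ⊓ gam G 2, y = k ^ p})) :=
        Nat.mul_le_mul_left _ h7
      _ = p ^ p * Nat.card ↥(Subgroup.closure {y : G | ∃ k ∈ H ⊓ gam G 2, y = k ^ p}) := by
        have hpp : p ^ p = p * p ^ (p - 1) := by
          rw [← pow_succ']
          congr 1
          have := hp.pos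
          omega
        rw [hpp]
        ring
  obtain ⟨T, hTc, hT⟩ := h52_jp_greedy p hGp p H _ hUH hidx
  refine ⟨T, hTc, h52_jp_nongen p hGp H _ (Subgroup.closure (T : Set G)) ?_ hT⟩
  intro M hMH hMc
  rw [Subgroup.closure_le]
  rintro y ⟨k, hk, rfl⟩
  exact h52_jp_pow_mem p hGp H M hMH hMc k hk.1

/-- J10 (helper52 copy). -/
theorem h52_jp_nontop_small {G : Type*} [Group G] [Finite G] (p : ℕ) [Fact p.Prime] (n : ℕ)
    (hG : Nat.card G = p ^ n) (hn : n ≤ p + 1) (H : Subgroup G) (hH : H ≠ ⊤) :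
    ∃ T : Finset G, T.card ≤ p ∧ Subgroup.closure (T : Set G) = H := by
  have hp : p.Prime := Fact.out
  have hGp : IsPGroup p G := IsPGroup.of_card hG
  obtain ⟨M, hHM, -, hcard⟩ := h52_jp_exists_max p hGp ⊤ H le_top hH
  have hcardG : p * Nat.card M = p ^ n := by
    rw [← hG, ← hcard]
    exact Subgroup.card_top
  have hn0 : n ≠ 0 := by
    rintro rfl
    rw [pow_zero] at hcardG
    have : p ∣ 1 := ⟨_, hcardG.symm⟩
    exact hp.one_lt.ne' (Nat.dvd_one.mp this)
  have hM : Nat.card M = p ^ (n - 1) := by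
    have : n = (n - 1) + 1 := by omega
    rw [this, pow_succ, mul_comm] at hcardG
    exact Nat.eq_of_mul_eq_mul_right hp.pos hcardG
  have hHc : Nat.card H ≤ p ^ p * Nat.card (⊥ : Subgroup G) := by
    rw [Subgroup.card_bot, mul_one]
    calc Nat.card H ≤ Nat.card M := Subgroup.card_le_of_le hHM
      _ = p ^ (n - 1) := hM
      _ ≤ p ^ p := Nat.pow_le_pow_right hp.pos (by omega)
  obtain ⟨T, hTc, hT⟩ := h52_jp_greedy p hGp p H ⊥ bot_le hHc
  exact ⟨T, hTc, by rwa [sup_bot_eq] at hT⟩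

/-- J11 (helper52 copy). -/
theorem h52_jp_top {G : Type*} [Group G] [Finite G] (p : ℕ) [Fact p.Prime] (n : ℕ)
    (hG : Nat.card G = p ^ n) (hn : 2 ≤ n) (hP2 : Nat.card (gam G 2) = p ^ (n - 2)) :
    ∃ T : Finset G, T.card ≤ p ∧ Subgroup.closure (T : Set G) = (⊤ : Subgroup G) := by
  have hp : p.Prime := Fact.out
  have hGp : IsPGroup p G := IsPGroup.of_card hG
  have hidx : Nat.card (⊤ : Subgroup G) ≤ p ^ p * Nat.card (gam G 2) := by
    rw [Subgroup.card_top, hG, hP2]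
    have : n = 2 + (n - 2) := by omega
    conv_lhs => rw [this, pow_add]
    exact Nat.mul_le_mul_right _ (Nat.pow_le_pow_right hp.pos hp.two_le)
  obtain ⟨T, hTc, hT⟩ := h52_jp_greedy p hGp p ⊤ (gam G 2) le_top hidx
  refine ⟨T, hTc, h52_jp_nongen p hGp ⊤ (gam G 2) (Subgroup.closure (T : Set G)) ?_ hT⟩
  intro M _ hMc
  exact h52_jp_gam_two_le p hGp M (by rw [← hMc]; exact (Subgroup.card_top).symm)

/-- **Export of sub-block J** (S5238 block G, steps (0)+(7)): in a group of order `p ^ n` whose lower central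
series has the orders of maximal class and satisfies the power-depth property, every subgroup is generated by
at most `p` elements. -/
theorem pearl_jump {G : Type*} [Group G] [Finite G] (p : ℕ) [Fact p.Prime] (n : ℕ)
    (hG : Nat.card G = p ^ n) (hn : 2 ≤ n)
    (hchain : ∀ i, 2 ≤ i → i ≤ n → Nat.card (gam G i) = p ^ (n - i))
    (hpow : ∀ i, 2 ≤ i → i + p ≤ n → ∀ m ∈ gam G i, m ∉ gam G (i + 1) →
      m ^ p ∈ gam G (i + p - 1) ∧ m ^ p ∉ gam G (i + p))
    (H : Subgroup G) : ∃ T : Finset G, T.card ≤ p ∧ Subgroup.closure (T : Set G) = H := by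
  by_cases hH : H = ⊤
  · subst hH
    exact h52_jp_top p n hG hn (hchain 2 le_rfl hn)
  · by_cases hbig : p + 2 ≤ n
    · exact h52_jp_nontop_big p n hG hbig hchain hpow H hH
    · exact h52_jp_nontop_small p n hG (by omega) H hH

end Cfsg.Agent.Lib.helper52.PearlJ
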