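import Mathlib
import Cfsg.Prelude.Def_Local
import Cfsg.Agent.Lib.helper11.QuadSection2
import Cfsg.Agent.Lib.helper14.QuadStable
import Cfsg.Agent.Lib.helper14.NoSection
import Cfsg.Agent.Lib.helper69.SL2Mult

/-!
# No quadratic action when the induced group has no quaternion quotients of `2`-subgroups

Seat `helper52`.

* `exists_sl2_data` : a quadratic pair `a, b` on an elementary abelian `p`-subgroup `V` (`p` odd)
  not inducing a `p`-group gives a homomorphism `f : ⟨a, b⟩ →* SL₂(E)` killing `C(V)` whose range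
  contains a copy of `SL₂(p)`.
* `exists_quat_quotient` : then a Sylow `2`-subgroup of `⟨a, b⟩` maps onto a generalized quaternion
  group, by a homomorphism killing `ker f`.
* `no_quad_of_noQuat` : if `O_p(H/C_H(V)) = 1` and no `2`-subgroup of `H/C_H(V)` has a generalized
  quaternion quotient, then no subgroup of `H` acts quadratically and nontrivially on `V`.
-/

set_option autoImplicit false
set_option linter.style.haveILetI false

namespace Cfsg.Agent.Lib.helper52.QuadNoQuat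

open Subgroup

universe u v

/-- A quadratic pair on `V` not inducing a `p`-group: a homomorphism into `SL₂(E)` killing the
centralizer of `V`, with range containing a copy of `SL₂(p)`. -/
theorem exists_sl2_data {G : Type u} [Group G] [Finite G] (p : ℕ) [Fact p.Prime] (hp : p ≠ 2)
    (V : Subgroup G) (hVc : ∀ u ∈ V, ∀ v ∈ V, u * v = v * u) (hVp : ∀ u ∈ V, u ^ p = 1)
    (a b : G) (haV : a ∈ Subgroup.normalizer (V : Set G))
    (hbV : b ∈ Subgroup.normalizer (V : Set G))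
    (hqa : ∀ u ∈ V, a * (a * u * a⁻¹ * u⁻¹) * a⁻¹ * (a * u * a⁻¹ * u⁻¹)⁻¹ = 1)
    (hqb : ∀ u ∈ V, b * (b * u * b⁻¹ * u⁻¹) * b⁻¹ * (b * u * b⁻¹ * u⁻¹)⁻¹ = 1)
    (hnp : ¬ ∃ k : ℕ, ∀ g ∈ Subgroup.closure ({a, b} : Set G), ∀ u ∈ V,
      g ^ (p ^ k) * u * (g ^ (p ^ k))⁻¹ * u⁻¹ = 1) :
    ∃ (E : Type u) (_ : Field E) (_ : Fintype E) (_ : CharP E p)
      (f : ↥(Subgroup.closure ({a, b} : Set G)) →* Matrix.SpecialLinearGroup (Fin 2) E)
      (φ : Matrix.SpecialLinearGroup (Fin 2) (ZMod p) →* Matrix.SpecialLinearGroup (Fin 2) E),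
      Function.Injective φ ∧ φ.range ≤ f.range ∧
      ∀ g : ↥(Subgroup.closure ({a, b} : Set G)),
        (∀ u ∈ V, (g : G) * u * (g : G)⁻¹ * u⁻¹ = 1) → f g = 1 := by
  have hNbot : ∀ y : G, y ∈ Subgroup.normalizer ((⊥ : Subgroup G) : Set G) := fun y => by
    rw [Subgroup.normalizer_eq_top]; exact Subgroup.mem_top y
  obtain ⟨V', iG, iF, ρ, x, y, hVc', hVp', hx, hy, hρa, hρb, -, hρ1⟩ :=
    Cfsg.Agent.Lib.helper30.exists_quad_section p V ⊥ bot_le (fun y _ => hNbot y)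
      (fun u hu v hv => by
        rw [Subgroup.mem_bot, hVc u hu v hv]; group)
      (fun u hu => by rw [Subgroup.mem_bot]; exact hVp u hu)
      a b haV (hNbot a) hbV (hNbot b)
      (fun u hu => by rw [Subgroup.mem_bot]; exact hqa u hu)
      (fun u hu => by rw [Subgroup.mem_bot]; exact hqb u hu)
  have hgen := Cfsg.Agent.Lib.helper30.closure_pair_subtype_eq_top a b
  have hnp' : ¬ ∃ k : ℕ, ∀ g : ↥(Subgroup.closure ({a, b} : Set G)), ρ g ^ (p ^ k) = 1 := by
    rintro ⟨k, hk⟩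
    apply hnp
    refine ⟨k, fun g hg u hu => ?_⟩
    have h1 := hk ⟨g, hg⟩
    rw [← map_pow] at h1
    exact Subgroup.mem_bot.mp ((hρ1 _).mp h1 u hu)
  obtain ⟨E, i1, i2, i3, t, f, ht, hfa, hfb, hker⟩ :=
    Cfsg.Agent.Lib.helper11.QuadPair.exists_sl2_hom_of_mulAut (p := p) _ _ hgen hVc' hVp' ρ
      (by rw [hρa]; exact hx) (by rw [hρb]; exact hy) hnp'
  obtain ⟨φ, hφ, hr⟩ := Cfsg.Agent.Lib.helper11.QuadPair.exists_sl2p_hom_of_mem hp f.range t ht
    ⟨_, ⟨_, rfl⟩, hfa⟩ ⟨_, ⟨_, rfl⟩, hfb⟩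
  refine ⟨E, i1, i2, i3, f, φ, hφ, hr, fun g hg => ?_⟩
  have h1 : g ∈ ρ.ker := by
    rw [MonoidHom.mem_ker, hρ1]
    intro u hu
    rw [Subgroup.mem_bot]
    exact hg u hu
  exact hker h1

/-- A subgroup of `SL₂(E)` (odd characteristic `p`) containing a copy of `SL₂(p)`, as a
homomorphic image of `Γ`: a Sylow `2`-subgroup of `Γ` maps onto a generalized quaternion group. -/
theorem exists_quat_quotient {Γ : Type u} [Group Γ] [Finite Γ] {p : ℕ} [Fact p.Prime]
    (hp : p ≠ 2) {E : Type v} [Field E] [Fintype E] [CharP E p]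
    (f : Γ →* Matrix.SpecialLinearGroup (Fin 2) E)
    (φ : Matrix.SpecialLinearGroup (Fin 2) (ZMod p) →* Matrix.SpecialLinearGroup (Fin 2) E)
    (hφ : Function.Injective φ) (hr : φ.range ≤ f.range) :
    ∃ (T : Subgroup Γ) (n : ℕ) (g : ↥T →* QuaternionGroup (2 ^ n)),
      IsPGroup 2 T ∧ 1 ≤ n ∧ Function.Surjective g ∧ ∀ t : ↥T, f (t : Γ) = 1 → g t = 1 := by
  classical
  haveI : Fact (Nat.Prime 2) := ⟨Nat.prime_two⟩
  have h2 : (2 : E) ≠ 0 := by
    intro h
    have h' : ((2 : ℕ) : E) = 0 := by exact_mod_cast h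
    rw [CharP.cast_eq_zero_iff E p] at h'
    exact hp ((Nat.prime_dvd_prime_iff_eq (Fact.out : p.Prime) Nat.prime_two).mp h')
  obtain ⟨P, hP, x, hx, y, hy, hxy⟩ := Cfsg.Agent.Lib.helper14.exists_noncomm_two_sl2 p hp
  have hP₁ : IsPGroup 2 ((P.map φ).subgroupOf f.range) :=
    (hP.map φ).comap_of_injective f.range.subtype (Subgroup.subtype_injective _)
  obtain ⟨S₂, hS₂⟩ := hP₁.exists_le_sylow
  obtain ⟨T, hT⟩ := Sylow.mapSurjective_surjective f.rangeRestrict_surjective 2 S₂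
  have hT' : (T : Subgroup Γ).map f.rangeRestrict = (S₂ : Subgroup ↥f.range) := by
    rw [← hT]; rfl
  have hmem : ∀ z ∈ P, φ z ∈ (T : Subgroup Γ).map f := by
    intro z hz
    have h1 : φ z ∈ f.range := hr ⟨z, rfl⟩
    have h3 : (⟨φ z, h1⟩ : ↥f.range) ∈ (P.map φ).subgroupOf f.range := by
      rw [Subgroup.mem_subgroupOf]
      exact Subgroup.mem_map_of_mem _ hz
    have h4 := hS₂ h3
    rw [← hT'] at h4
    obtain ⟨t, ht, hte⟩ := h4
    refine ⟨t, ht, ?_⟩
    have := congrArg Subtype.val hte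
    exact this
  have hTf : IsPGroup 2 ((T : Subgroup Γ).map f) := T.isPGroup'.map f
  have hnc : ¬ ∀ u v : ↥((T : Subgroup Γ).map f), u * v = v * u := by
    intro hc
    have h1 := hc ⟨φ x, hmem x hx⟩ ⟨φ y, hmem y hy⟩
    have h2' : φ x * φ y = φ y * φ x := congrArg Subtype.val h1
    rw [← map_mul, ← map_mul] at h2'
    exact hxy (hφ h2')
  rcases Cfsg.Agent.Lib.helper69.sl2_two_subgroup h2 ((T : Subgroup Γ).map f) hTf with
    hc | ⟨n, ⟨e⟩⟩
  · exfalso
    apply hnc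
    letI := IsCyclic.commGroup (α := ↥((T : Subgroup Γ).map f))
    intro u v
    exact mul_comm u v
  · have hn : 1 ≤ n := by
      by_contra h0
      have hn0 : n = 0 := by omega
      subst hn0
      apply hnc
      have hcard : Nat.card ↥((T : Subgroup Γ).map f) = 2 ^ 2 := by
        rw [Nat.card_congr e.toEquiv]
        haveI : NeZero (2 ^ 0) := ⟨by norm_num⟩
        rw [Nat.card_eq_fintype_card, QuaternionGroup.card]
        norm_num
      exact IsPGroup.commutative_of_card_eq_prime_sq hcard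
    refine ⟨T, n, e.toMonoidHom.comp (f.subgroupMap T), T.isPGroup', hn, ?_, ?_⟩
    · exact e.surjective.comp (f.subgroupMap_surjective T)
    · intro t ht
      have h1 : f.subgroupMap T t = 1 := Subtype.ext ht
      show e (f.subgroupMap T t) = 1
      rw [h1, map_one]

/-- **No quadratic action**: if `O_p(H/C_H(V)) = 1` and no `2`-subgroup of `H/C_H(V)` maps onto a
generalized quaternion group, then a subgroup `A ≤ H` acting quadratically on the elementary
abelian `p`-group `V` (`p` odd) centralizes `V`. -/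
theorem no_quad_of_noQuat {G : Type u} [Group G] [Finite G] {p : ℕ} [Fact p.Prime] (hp2 : p ≠ 2)
    (V H : Subgroup G) (hV : Cfsg.IsElementaryAbelian p V)
    (hHV : H ≤ Subgroup.normalizer (V : Set G))
    [hn : ((Subgroup.centralizer (V : Set G)).subgroupOf H).Normal]
    (hOp : ∀ N : Subgroup (↥H ⧸ (Subgroup.centralizer (V : Set G)).subgroupOf H),
      N.Normal → IsPGroup p N → N = ⊥)
    (hNQ : ∀ T : Subgroup (↥H ⧸ (Subgroup.centralizer (V : Set G)).subgroupOf H), IsPGroup 2 T →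
      ∀ n : ℕ, 1 ≤ n → ∀ g : ↥T →* QuaternionGroup (2 ^ n), ¬ Function.Surjective g)
    (A : Subgroup G) (hA : A ≤ H) (hquad : ⁅⁅V, A⁆, A⁆ = ⊥) : ⁅V, A⁆ = ⊥ := by
  classical
  by_contra hne
  have hVc : ∀ u ∈ V, ∀ v ∈ V, u * v = v * u := by
    intro u hu v hv
    haveI := hV.1
    exact congrArg Subtype.val (mul_comm' (⟨u, hu⟩ : V) ⟨v, hv⟩)
  have hVp : ∀ u ∈ V, u ^ p = 1 := hV.2
  -- an element of `A` not centralizing `V`
  obtain ⟨a, haA, haC⟩ : ∃ a ∈ A, a ∉ Subgroup.centralizer (V : Set G) := by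
    by_contra hcon
    push Not at hcon
    apply hne
    rw [Subgroup.commutator_comm, Subgroup.commutator_eq_bot_iff_le_centralizer]
    exact hcon
  have haH : a ∈ H := hA haA
  have hqa : ∀ u ∈ V, a * (a * u * a⁻¹ * u⁻¹) * a⁻¹ * (a * u * a⁻¹ * u⁻¹)⁻¹ = 1 := by
    intro u hu
    have hq : ⁅⁅V, Subgroup.zpowers a⁆, Subgroup.zpowers a⁆ ≤ ⊥ := by
      rw [← hquad]
      have hz : Subgroup.zpowers a ≤ A := by
        rw [Subgroup.zpowers_le]; exact haA
      exact Subgroup.commutator_mono (Subgroup.commutator_mono le_rfl hz) hz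
    exact Subgroup.mem_bot.mp (Cfsg.Agent.Lib.helper14.quad_elem_of_commutator V ⊥ a hq u hu)
  -- Baer–Suzuki in the quotient
  obtain ⟨Q, hQ⟩ : ∃ Q : Type u, Q = (↥H ⧸ (Subgroup.centralizer (V : Set G)).subgroupOf H) :=
    ⟨_, rfl⟩
  have hcore : Cfsg.pCore p (↥H ⧸ (Subgroup.centralizer (V : Set G)).subgroupOf H) = ⊥ := by
    unfold Cfsg.pCore
    rw [sSup_eq_bot]
    rintro N ⟨hN1, hN2⟩
    exact hOp N hN1 hN2
  have ha1 : (QuotientGroup.mk (⟨a, haH⟩ : ↥H) :
      ↥H ⧸ (Subgroup.centralizer (V : Set G)).subgroupOf H) ≠ 1 := by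
    intro h
    rw [QuotientGroup.eq_one_iff, Subgroup.mem_subgroupOf] at h
    exact haC h
  obtain ⟨gb, hgb⟩ : ∃ gb : ↥H ⧸ (Subgroup.centralizer (V : Set G)).subgroupOf H,
      ¬ IsPGroup p (Subgroup.closure ({(QuotientGroup.mk (⟨a, haH⟩ : ↥H) :
        ↥H ⧸ (Subgroup.centralizer (V : Set G)).subgroupOf H),
        gb * (QuotientGroup.mk (⟨a, haH⟩ : ↥H)) * gb⁻¹} :
        Set (↥H ⧸ (Subgroup.centralizer (V : Set G)).subgroupOf H))) := by
    by_contra hcon
    push Not at hcon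
    have h1 := Cfsg.Agent.Lib.helper14.mem_pCore_of_forall_isPGroup p _ hcon
    rw [hcore, Subgroup.mem_bot] at h1
    exact ha1 h1
  obtain ⟨g, rfl⟩ := QuotientGroup.mk_surjective gb
  obtain ⟨b, hb⟩ : ∃ b : G, b = (g : G) * a * (g : G)⁻¹ := ⟨_, rfl⟩
  have hbH : b ∈ H := by
    rw [hb]; exact H.mul_mem (H.mul_mem g.2 haH) (H.inv_mem g.2)
  have hgV : ∀ u ∈ V, (g : G)⁻¹ * u * (g : G) ∈ V := by
    intro u hu
    have h1 := hHV (H.inv_mem g.2)
    have h2 := (Subgroup.mem_normalizer_iff.mp h1 u).mp hu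
    rwa [inv_inv] at h2
  have hqb : ∀ u ∈ V, b * (b * u * b⁻¹ * u⁻¹) * b⁻¹ * (b * u * b⁻¹ * u⁻¹)⁻¹ = 1 := by
    intro u hu
    have h1 := hqa _ (hgV u hu)
    have e : b * (b * u * b⁻¹ * u⁻¹) * b⁻¹ * (b * u * b⁻¹ * u⁻¹)⁻¹ =
        (g : G) * (a * (a * ((g : G)⁻¹ * u * (g : G)) * a⁻¹ * ((g : G)⁻¹ * u * (g : G))⁻¹) * a⁻¹ *
          (a * ((g : G)⁻¹ * u * (g : G)) * a⁻¹ * ((g : G)⁻¹ * u * (g : G))⁻¹)⁻¹) * (g : G)⁻¹ := by
      rw [hb]; group
    rw [e, h1]; group
  have hΓH : Subgroup.closure ({a, b} : Set G) ≤ H := by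
    rw [Subgroup.closure_le]
    rintro z (rfl | hz)
    · exact haH
    · rw [Set.mem_singleton_iff] at hz; subst hz; exact hbH
  -- the pair does not induce a `p`-group
  have hnp : ¬ ∃ k : ℕ, ∀ y ∈ Subgroup.closure ({a, b} : Set G), ∀ u ∈ V,
      y ^ (p ^ k) * u * (y ^ (p ^ k))⁻¹ * u⁻¹ = 1 := by
    rintro ⟨k, hk⟩
    apply hgb
    have himg : Subgroup.closure ({(QuotientGroup.mk (⟨a, haH⟩ : ↥H) :
        ↥H ⧸ (Subgroup.centralizer (V : Set G)).subgroupOf H),
        (QuotientGroup.mk g) * (QuotientGroup.mk (⟨a, haH⟩ : ↥H)) * (QuotientGroup.mk g)⁻¹} :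
        Set (↥H ⧸ (Subgroup.centralizer (V : Set G)).subgroupOf H)) =
        (Subgroup.closure ({(⟨a, haH⟩ : ↥H), ⟨b, hbH⟩} : Set ↥H)).map
          (QuotientGroup.mk' ((Subgroup.centralizer (V : Set G)).subgroupOf H)) := by
      have hmk : (QuotientGroup.mk g : ↥H ⧸ (Subgroup.centralizer (V : Set G)).subgroupOf H) *
          (QuotientGroup.mk (⟨a, haH⟩ : ↥H)) * (QuotientGroup.mk g)⁻¹ =
          (QuotientGroup.mk (⟨b, hbH⟩ : ↥H) :
            ↥H ⧸ (Subgroup.centralizer (V : Set G)).subgroupOf H) := by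
        rw [← QuotientGroup.mk_inv, ← QuotientGroup.mk_mul, ← QuotientGroup.mk_mul]
        congr 1
        exact Subtype.ext hb.symm
      rw [MonoidHom.map_closure, Set.image_pair, hmk]
      rfl
    rw [himg]
    rintro ⟨y, hy⟩
    obtain ⟨h, hh, rfl⟩ := Subgroup.mem_map.mp hy
    refine ⟨k, ?_⟩
    apply Subtype.ext
    show (QuotientGroup.mk' ((Subgroup.centralizer (V : Set G)).subgroupOf H) h) ^ p ^ k = 1
    rw [← map_pow]
    refine (QuotientGroup.eq_one_iff _).mpr ?_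
    rw [Subgroup.mem_subgroupOf, Subgroup.mem_centralizer_iff]
    intro u hu
    have hhG : (h : G) ∈ Subgroup.closure ({a, b} : Set G) := by
      have h1 : (Subgroup.closure ({(⟨a, haH⟩ : ↥H), ⟨b, hbH⟩} : Set ↥H)).map H.subtype =
          Subgroup.closure ({a, b} : Set G) := by
        rw [MonoidHom.map_closure, Set.image_pair]; rfl
      rw [← h1]
      exact Subgroup.mem_map_of_mem _ hh
    have h2 := hk _ hhG u hu
    have e : u * ((h ^ p ^ k : ↥H) : G) = (((h : G) ^ p ^ k) * u * ((h : G) ^ p ^ k)⁻¹ * u⁻¹)⁻¹ *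
        (((h ^ p ^ k : ↥H) : G) * u) := by
      rw [Subgroup.coe_pow]; group
    rw [e, h2, inv_one, one_mul]
  obtain ⟨E, i1, i2, i3, f, φ, hφ, hr, hker⟩ :=
    exists_sl2_data p hp2 V hVc hVp a b (hHV haH) (hHV hbH) hqa hqb hnp
  obtain ⟨T, n, gq, hT, hn1, hgs, hgk⟩ := exists_quat_quotient hp2 f φ hφ hr
  -- transport to the quotient
  let ι : ↥T →* ↥H ⧸ (Subgroup.centralizer (V : Set G)).subgroupOf H :=
    (QuotientGroup.mk' ((Subgroup.centralizer (V : Set G)).subgroupOf H)).comp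
      ((Subgroup.inclusion hΓH).comp T.subtype)
  have hT₁ : IsPGroup 2 ι.range := hT.of_surjective ι.rangeRestrict ι.rangeRestrict_surjective
  have hkerle : ι.rangeRestrict.ker ≤ gq.ker := by
    intro t ht
    rw [MonoidHom.mem_ker] at ht ⊢
    apply hgk
    apply hker
    have h1 : ι t = 1 := by
      have := congrArg Subtype.val ht
      exact this
    have h2 : (Subgroup.inclusion hΓH ((t : ↥(Subgroup.closure ({a, b} : Set G))))) ∈
        (Subgroup.centralizer (V : Set G)).subgroupOf H :=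
      (QuotientGroup.eq_one_iff _).mp h1
    rw [Subgroup.mem_subgroupOf, Subgroup.mem_centralizer_iff] at h2
    intro u hu
    have h3 := h2 u hu
    have h4 : u * ((t : ↥(Subgroup.closure ({a, b} : Set G))) : G) =
        ((t : ↥(Subgroup.closure ({a, b} : Set G))) : G) * u := h3
    rw [← h4]; group
  have hsurj : Function.Surjective
      (ι.rangeRestrict.liftOfSurjective ι.rangeRestrict_surjective ⟨gq, hkerle⟩) := by
    intro q
    obtain ⟨t, rfl⟩ := hgs q
    refine ⟨ι.rangeRestrict t, ?_⟩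
    exact MonoidHom.liftOfRightInverse_comp_apply _ _ _ ⟨gq, hkerle⟩ t
  exact hNQ ι.range hT₁ n hn1 _ hsurj

/-- Transport of the two hypotheses of `no_quad_of_noQuat` along an isomorphism. -/
theorem transport_hyps {Y : Type u} {X : Type v} [Group Y] [Group X] (e : Y ≃* X) (p : ℕ)
    (hOp : ∀ N : Subgroup X, N.Normal → IsPGroup p N → N = ⊥)
    (hNQ : ∀ T : Subgroup X, IsPGroup 2 T →
      ∀ n : ℕ, 1 ≤ n → ∀ g : ↥T →* QuaternionGroup (2 ^ n), ¬ Function.Surjective g) :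
    (∀ N : Subgroup Y, N.Normal → IsPGroup p N → N = ⊥) ∧
    (∀ T : Subgroup Y, IsPGroup 2 T →
      ∀ n : ℕ, 1 ≤ n → ∀ g : ↥T →* QuaternionGroup (2 ^ n), ¬ Function.Surjective g) := by
  constructor
  · intro N hN hNp
    have h1 : (N.map e.toMonoidHom).Normal := hN.map e.toMonoidHom e.surjective
    have h2 : IsPGroup p (N.map e.toMonoidHom) := hNp.map e.toMonoidHom
    have h3 := hOp _ h1 h2
    exact (Subgroup.map_eq_bot_iff_of_injective N e.injective).mp h3
  · intro T hT n hn g hg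
    have h2 : IsPGroup 2 (T.map e.toMonoidHom) := hT.map e.toMonoidHom
    refine hNQ _ h2 n hn (g.comp (e.subgroupMap T).symm.toMonoidHom) ?_
    exact hg.comp (e.subgroupMap T).symm.surjective

end Cfsg.Agent.Lib.helper52.QuadNoQuat
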