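import Mathlib
import Cfsg.Agent.Lib.helper14.NoSection
import Cfsg.Agent.Lib.helper69.SL2Mult
import Cfsg.Agent.S0268

/-!
# `PSL₂(F)`, odd characteristic: `O_p = 1` and no quaternion quotients of `2`-subgroups

Seat `helper52`.

* `psl2_normal_pgroup_eq_bot` : a normal `p`-subgroup of `PSL₂(F)` (`char F = p` odd) is trivial.
* `psl2_no_quat_quotient` : no `2`-subgroup of `PSL₂(F)` (`|F|` odd) maps onto a generalized
  quaternion group `QuaternionGroup (2 ^ n)`, `n ≥ 1`.
-/

set_option autoImplicit false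
set_option linter.style.haveILetI false

namespace Cfsg.Agent.Lib.helper52.QuadPSL2

open Matrix Cfsg.Agent.Lib.helper14

variable {F : Type*} [Field F]

/-- central elements of `SL₂` square to `1` -/
theorem center_sq {c : SpecialLinearGroup (Fin 2) F}
    (hc : c ∈ Subgroup.center (SpecialLinearGroup (Fin 2) F)) : c * c = 1 := by
  obtain ⟨r, hr, hrc⟩ := Matrix.SpecialLinearGroup.mem_center_iff.mp hc
  rw [Fintype.card_fin] at hr
  have h : (c : Matrix (Fin 2) (Fin 2) F) * (c : Matrix (Fin 2) (Fin 2) F) = 1 := by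
    rw [← hrc, ← map_mul, ← sq, hr, map_one]
  apply Subtype.ext
  exact h

/-- trace of a square in `SL₂` -/
theorem str_mul_self (g : SpecialLinearGroup (Fin 2) F) : str (g * g) = str g ^ 2 - 2 := by
  have hd := sl2_det' g
  unfold str
  rw [mul_val_00, mul_val_11]
  linear_combination (-2 : F) * hd

/-- generalized quaternion groups `Q_{2^(n+2)}`, `n ≥ 1`, are not commutative -/
theorem quat_not_comm (n : ℕ) (hn : 1 ≤ n) :
    ¬ ∀ u v : QuaternionGroup (2 ^ n), u * v = v * u := by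
  intro h
  have h2 := h (QuaternionGroup.a 1) (QuaternionGroup.xa 0)
  rw [QuaternionGroup.a_mul_xa, QuaternionGroup.xa_mul_a] at h2
  have h3 : (0 : ZMod (2 * 2 ^ n)) - 1 = 0 + 1 := by
    injection h2
  have h4 : ((2 : ℕ) : ZMod (2 * 2 ^ n)) = 0 := by
    have : (2 : ZMod (2 * 2 ^ n)) = 0 := by linear_combination -h3
    exact_mod_cast this
  rw [ZMod.natCast_eq_zero_iff] at h4
  have h5 := Nat.le_of_dvd (by norm_num) h4
  have h6 : 2 ^ 1 ≤ 2 ^ n := Nat.pow_le_pow_right (by norm_num) hn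
  omega

/-- a homomorphism of generalized quaternion groups killing the central involution is not
surjective -/
theorem quat_hom_not_surjective (m N : ℕ) (hN : N ≠ 0)
    (h : QuaternionGroup m →* QuaternionGroup N)
    (hz : h (QuaternionGroup.a (m : ZMod (2 * m))) = 1) : ¬ Function.Surjective h := by
  intro hh
  have hNz : ((N : ℕ) : ZMod (2 * N)) ≠ 0 := by
    intro h0
    rw [ZMod.natCast_eq_zero_iff] at h0
    have := Nat.le_of_dvd (Nat.pos_of_ne_zero hN) h0
    omega
  have hxa : ∀ i, ∃ j, h (QuaternionGroup.xa i) = QuaternionGroup.a j := by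
    intro i
    have h1 : h (QuaternionGroup.xa i) ^ 2 = 1 := by
      rw [← map_pow, QuaternionGroup.xa_sq, hz]
    cases hv : h (QuaternionGroup.xa i) with
    | a j => exact ⟨j, rfl⟩
    | xa j =>
      exfalso
      rw [hv, QuaternionGroup.xa_sq] at h1
      have h2 : QuaternionGroup.a ((N : ℕ) : ZMod (2 * N)) = QuaternionGroup.a 0 := h1
      injection h2 with h3
      exact hNz h3
  have hall : ∀ w, ∃ j, h w = QuaternionGroup.a j := by
    intro w
    cases w with
    | a i =>
      have e : (QuaternionGroup.a i : QuaternionGroup m) =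
          QuaternionGroup.xa 0 * QuaternionGroup.xa (i - (m : ZMod (2 * m))) := by
        rw [QuaternionGroup.xa_mul_xa]
        congr 1
        ring
      rw [e, map_mul]
      obtain ⟨j1, h1⟩ := hxa 0
      obtain ⟨j2, h2⟩ := hxa (i - (m : ZMod (2 * m)))
      rw [h1, h2, QuaternionGroup.a_mul_a]
      exact ⟨_, rfl⟩
    | xa i => exact hxa i
  obtain ⟨w, hw⟩ := hh (QuaternionGroup.xa 0)
  obtain ⟨j, hj⟩ := hall w
  rw [hw] at hj
  cases hj

/-- **`O_p(PSL₂(F)) = 1`** in odd characteristic `p`. -/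
theorem psl2_normal_pgroup_eq_bot (p : ℕ) [Fact p.Prime] [CharP F p] (hp : p ≠ 2)
    (N : Subgroup (ProjectiveSpecialLinearGroup (Fin 2) F)) (hN : N.Normal) (hNp : IsPGroup p N) :
    N = ⊥ := by
  classical
  have h2 : (2 : F) ≠ 0 := by
    intro h
    have h' : ((2 : ℕ) : F) = 0 := by exact_mod_cast h
    rw [CharP.cast_eq_zero_iff F p] at h'
    exact hp ((Nat.prime_dvd_prime_iff_eq (Fact.out : p.Prime) Nat.prime_two).mp h')
  obtain ⟨π, hπ⟩ : ∃ π : SpecialLinearGroup (Fin 2) F →* ProjectiveSpecialLinearGroup (Fin 2) F,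
      π = QuotientGroup.mk' (Subgroup.center (SpecialLinearGroup (Fin 2) F)) := ⟨_, rfl⟩
  have hker : ∀ z : SpecialLinearGroup (Fin 2) F, π z = 1 →
      z ∈ Subgroup.center (SpecialLinearGroup (Fin 2) F) := by
    intro z hz
    rw [hπ] at hz
    exact (QuotientGroup.eq_one_iff _).mp hz
  -- the square of an element of the preimage is unipotent
  have hsq : ∀ z : SpecialLinearGroup (Fin 2) F, π z ∈ N → str (z * z) = 2 := by
    intro z hz
    obtain ⟨k, hk⟩ := hNp ⟨π z, hz⟩
    have h1 : π (z ^ p ^ k) = 1 := by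
      rw [map_pow]; exact congrArg Subtype.val hk
    have h4 := center_sq (hker _ h1)
    have h5 : (z * z) ^ p ^ k = 1 := by
      rw [(Commute.refl z).mul_pow]; exact h4
    exact str_of_pow_char_pow p h5
  have key : ∀ z : SpecialLinearGroup (Fin 2) F, π z ∈ N → str z ^ 2 = 4 := by
    intro z hz
    have h6 := hsq z hz
    rw [str_mul_self] at h6
    linear_combination h6
  by_contra hne
  obtain ⟨n, hnN, hn1⟩ : ∃ n ∈ N, n ≠ 1 := by
    by_contra hcon
    push Not at hcon
    exact hne ((Subgroup.eq_bot_iff_forall _).mpr hcon)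
  obtain ⟨x, hx⟩ : ∃ x, π x = n := by
    rw [hπ]; exact QuotientGroup.mk'_surjective _ n
  subst hx
  have hy : π (x * x) ∈ N := by rw [map_mul]; exact N.mul_mem hnN hnN
  have hystr : str (x * x) = 2 := hsq x hnN
  have hy1 : x * x ≠ 1 := by
    intro h
    obtain ⟨k, hk⟩ := hNp ⟨π x, hnN⟩
    have h1 : (π x) ^ p ^ k = 1 := congrArg Subtype.val hk
    have h2' : (π x) ^ 2 = 1 := by rw [← map_pow, sq, h, map_one]
    have hcop : Nat.Coprime (p ^ k) 2 :=
      Nat.Coprime.pow_left k ((Nat.coprime_primes Fact.out Nat.prime_two).mpr hp)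
    have h3 := pow_gcd_eq_one.mpr ⟨h1, h2'⟩
    rw [hcop.gcd_eq_one, pow_one] at h3
    exact hn1 h3
  -- an upper unitriangular element in the preimage
  obtain ⟨μ, hμ, hμN⟩ : ∃ μ : F, μ ≠ 0 ∧ π (uMat μ) ∈ N := by
    by_cases h10 : (x * x).1 1 0 = 0
    · refine ⟨(x * x).1 0 1, ?_, ?_⟩
      · intro h
        apply hy1
        rw [eq_uMat_of_str hystr h10, h, uMat_zero]
      · rw [← eq_uMat_of_str hystr h10]
        exact hy
    · refine ⟨-(x * x).1 1 0, neg_ne_zero.mpr h10, ?_⟩
      have h1 : π (uMat ((1 - (x * x).1 0 0) / (x * x).1 1 0) * (x * x) *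
          (uMat ((1 - (x * x).1 0 0) / (x * x).1 1 0))⁻¹) ∈ N := by
        rw [map_mul, map_mul, map_inv]; exact hN.conj_mem _ hy _
      rw [conj_to_lMat hystr h10] at h1
      have h3 : π (wMat F * lMat ((x * x).1 1 0) * (wMat F)⁻¹) ∈ N := by
        rw [map_mul, map_mul, map_inv]; exact hN.conj_mem _ h1 _
      rwa [wMat_conj_lMat] at h3
  have hl : π (lMat (-μ)) ∈ N := by
    have h3 : π (wMat F * uMat μ * (wMat F)⁻¹) ∈ N := by
      rw [map_mul, map_mul, map_inv]; exact hN.conj_mem _ hμN _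
    rwa [wMat_conj_uMat] at h3
  have hl' : π (lMat μ) ∈ N := by
    have h3 := N.inv_mem hl
    rw [← map_inv, lMat_inv, neg_neg] at h3
    exact h3
  have k1 := key (uMat μ * lMat (-μ)) (by rw [map_mul]; exact N.mul_mem hμN hl)
  have k2 := key (uMat μ * lMat μ) (by rw [map_mul]; exact N.mul_mem hμN hl')
  have s1 : str (uMat μ * lMat (-μ)) = 2 - μ ^ 2 := by
    unfold str
    rw [mul_val_00, mul_val_11, uMat_00, uMat_01, uMat_10, uMat_11, lMat_00, lMat_01, lMat_10,
      lMat_11]
    ring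
  have s2 : str (uMat μ * lMat μ) = 2 + μ ^ 2 := by
    unfold str
    rw [mul_val_00, mul_val_11, uMat_00, uMat_01, uMat_10, uMat_11, lMat_00, lMat_01, lMat_10,
      lMat_11]
    ring
  rw [s1] at k1
  rw [s2] at k2
  have h8 : (2 : F) ^ 3 * μ ^ 2 = 0 := by linear_combination k2 - k1
  exact (mul_ne_zero (pow_ne_zero 3 h2) (pow_ne_zero 2 hμ)) h8

/-- **No quaternion quotients**: a `2`-subgroup of `PSL₂(F)`, `|F|` odd, does not map onto a
generalized quaternion group. -/
theorem psl2_no_quat_quotient [Fintype F] (h2 : (2 : F) ≠ 0) (hF : Odd (Fintype.card F))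
    (T : Subgroup (ProjectiveSpecialLinearGroup (Fin 2) F)) (hT : IsPGroup 2 T) (n : ℕ)
    (hn : 1 ≤ n) (g : ↥T →* QuaternionGroup (2 ^ n)) : ¬ Function.Surjective g := by
  classical
  intro hg
  obtain ⟨π, hπ⟩ : ∃ π : SpecialLinearGroup (Fin 2) F →* ProjectiveSpecialLinearGroup (Fin 2) F,
      π = QuotientGroup.mk' (Subgroup.center (SpecialLinearGroup (Fin 2) F)) := ⟨_, rfl⟩
  have hker : ∀ z : SpecialLinearGroup (Fin 2) F, π z = 1 ↔
      z ∈ Subgroup.center (SpecialLinearGroup (Fin 2) F) := by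
    intro z
    rw [hπ]
    exact QuotientGroup.eq_one_iff _
  have hπs : Function.Surjective π := by
    rw [hπ]; exact QuotientGroup.mk'_surjective _
  have hT' : IsPGroup 2 (T.comap π) := by
    rintro ⟨x, hx⟩
    obtain ⟨k, hk⟩ := hT ⟨π x, hx⟩
    refine ⟨k + 1, Subtype.ext ?_⟩
    show x ^ 2 ^ (k + 1) = 1
    have h1 : π (x ^ 2 ^ k) = 1 := by
      rw [map_pow]; exact congrArg Subtype.val hk
    have h4 := center_sq ((hker _).mp h1)
    rw [pow_succ, pow_mul, sq]
    exact h4
  have hπ' : Function.Surjective (π.subgroupComap T) :=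
    π.subgroupComap_surjective_of_surjective T hπs
  have hg' : Function.Surjective (g.comp (π.subgroupComap T)) := hg.comp hπ'
  rcases Cfsg.Agent.Lib.helper69.sl2_two_subgroup h2 (T.comap π) hT' with hc | ⟨k, ⟨e⟩⟩
  · -- cyclic
    apply quat_not_comm n hn
    letI := IsCyclic.commGroup (α := ↥(T.comap π))
    intro u v
    obtain ⟨u', rfl⟩ := hg' u
    obtain ⟨v', rfl⟩ := hg' v
    rw [← map_mul, ← map_mul, mul_comm]
  · -- generalized quaternion
    refine quat_hom_not_surjective (2 ^ k) (2 ^ n) (by positivity)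
      ((g.comp (π.subgroupComap T)).comp e.symm.toMonoidHom) ?_ (hg'.comp e.symm.surjective)
    obtain ⟨x₀, hx₀⟩ : ∃ x₀ : ↥(T.comap π),
        x₀ = e.symm (QuaternionGroup.a (((2 ^ k : ℕ)) : ZMod (2 * 2 ^ k))) := ⟨_, rfl⟩
    have hx1 : x₀ ≠ 1 := by
      intro h
      rw [hx₀] at h
      have h1 : QuaternionGroup.a (((2 ^ k : ℕ)) : ZMod (2 * 2 ^ k)) =
          (1 : QuaternionGroup (2 ^ k)) := by
        have := congrArg e h
        rwa [MulEquiv.apply_symm_apply, map_one] at this
      have h2' : QuaternionGroup.a (((2 ^ k : ℕ)) : ZMod (2 * 2 ^ k)) =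
          (QuaternionGroup.a 0 : QuaternionGroup (2 ^ k)) := h1
      injection h2' with h3
      rw [ZMod.natCast_eq_zero_iff] at h3
      have := Nat.le_of_dvd (by positivity) h3
      have h5 : 0 < 2 ^ k := by positivity
      omega
    have hx2 : x₀ * x₀ = 1 := by
      rw [hx₀, ← map_mul, QuaternionGroup.a_mul_a]
      have h1 : (((2 ^ k : ℕ)) : ZMod (2 * 2 ^ k)) + (((2 ^ k : ℕ)) : ZMod (2 * 2 ^ k)) = 0 := by
        rw [← Nat.cast_add, ZMod.natCast_eq_zero_iff]
        exact ⟨1, by ring⟩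
      rw [h1]
      exact map_one _
    have hx3 := Cfsg.Agent.S0268.result hF (x₀ : SpecialLinearGroup (Fin 2) F)
      (fun h => hx1 (Subtype.ext h)) (congrArg Subtype.val hx2)
    have hx4 : π (x₀ : SpecialLinearGroup (Fin 2) F) = 1 := by
      rw [hker, Matrix.SpecialLinearGroup.mem_center_iff]
      refine ⟨-1, by simp, ?_⟩
      rw [hx3, map_neg, map_one]
    have hx5 : π.subgroupComap T x₀ = 1 := Subtype.ext hx4
    show g (π.subgroupComap T (e.symm (QuaternionGroup.a (((2 ^ k : ℕ)) : ZMod (2 * 2 ^ k))))) = 1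
    rw [← hx₀, hx5, map_one]

end Cfsg.Agent.Lib.helper52.QuadPSL2
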