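import Mathlib
import Cfsg.Agent.S0201
import Cfsg.Agent.S1069
import Cfsg.Agent.S1073

/-!
# Ree groups `²G₂(3^(2m+1))`, `m ≥ 1`: `O_3 = 1` and no quaternion quotients of `2`-subgroups

Seat `helper52`.

* `ree_normal_pgroup_eq_bot` : a normal `3`-subgroup is trivial (simplicity, `S1073`).
* `ree_no_quat_quotient` : no `2`-subgroup maps onto `QuaternionGroup (2 ^ n)`, `n ≥ 1`: the
  `2`-part of the order is `8` (`S1069`), so such a subgroup would be a quaternion Sylow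
  `2`-subgroup, against Brauer–Suzuki (`S0201`) and simplicity.
-/

set_option autoImplicit false
set_option linter.style.haveILetI false

namespace Cfsg.Agent.Lib.helper52.QuadRee

theorem three_pow_mod (m : ℕ) : 3 ^ (2 * m + 1) % 16 = 3 ∨ 3 ^ (2 * m + 1) % 16 = 11 := by
  induction m with
  | zero => left; norm_num
  | succ k ih =>
    have e : 3 ^ (2 * (k + 1) + 1) = 9 * 3 ^ (2 * k + 1) := by ring
    rw [e]
    omega

/-- the `2`-part of `|²G₂(q)|` is `8` -/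
theorem ree_card_not16 (m : ℕ) :
    ¬ 16 ∣ (3 ^ (2 * m + 1)) ^ 3 * (3 ^ (2 * m + 1) - 1) * ((3 ^ (2 * m + 1)) ^ 3 + 1) := by
  obtain ⟨q, hq⟩ : ∃ q, q = 3 ^ (2 * m + 1) := ⟨_, rfl⟩
  rw [← hq]
  have h := three_pow_mod m
  rw [← hq] at h
  obtain ⟨c, hc⟩ : ∃ c, c = q ^ 3 := ⟨_, rfl⟩
  have hc3 : (q % 16 = 3 ∧ c % 16 = 11) ∨ (q % 16 = 11 ∧ c % 16 = 3) := by
    rcases h with h | h
    · left
      refine ⟨h, ?_⟩
      rw [hc, Nat.pow_mod, h]
    · right
      refine ⟨h, ?_⟩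
      rw [hc, Nat.pow_mod, h]
  rw [← hc]
  intro hdvd
  have h0 := Nat.mod_eq_zero_of_dvd hdvd
  rw [Nat.mul_mod, Nat.mul_mod c] at h0
  rcases hc3 with ⟨h1, h3⟩ | ⟨h1, h3⟩
  · have hq1 : (q - 1) % 16 = 2 := by omega
    have hc1 : (c + 1) % 16 = 12 := by omega
    rw [h3, hq1, hc1] at h0
    norm_num at h0
  · have hq1 : (q - 1) % 16 = 10 := by omega
    have hc1 : (c + 1) % 16 = 4 := by omega
    rw [h3, hq1, hc1] at h0
    norm_num at h0

variable {K : Type*} [Field K] [Fintype K] {m : ℕ}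

/-- **`O_3(²G₂(q)) = 1`**. -/
theorem ree_normal_pgroup_eq_bot (hm : 1 ≤ m) (hK : Fintype.card K = 3 ^ (2 * m + 1))
    (N : Subgroup ↥(Cfsg.Lie.twistedG2 K (3 ^ m))) (hN : N.Normal) (hNp : IsPGroup 3 N) :
    N = ⊥ := by
  classical
  haveI : Fact (Nat.Prime 3) := ⟨Nat.prime_three⟩
  obtain ⟨hs, hnc⟩ := Cfsg.Agent.S1073.result hm hK
  haveI := hs
  rcases hN.eq_bot_or_eq_top with h | h
  · exact h
  · exfalso
    apply hnc
    have hp : IsPGroup 3 ↥(Cfsg.Lie.twistedG2 K (3 ^ m)) := by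
      intro x
      obtain ⟨k, hk⟩ := hNp ⟨x, by rw [h]; exact Subgroup.mem_top x⟩
      exact ⟨k, congrArg Subtype.val hk⟩
    haveI : Finite ↥(Cfsg.Lie.twistedG2 K (3 ^ m)) := inferInstance
    haveI : Group.IsNilpotent ↥(Cfsg.Lie.twistedG2 K (3 ^ m)) := hp.isNilpotent
    have hsol : Group.IsSolvable ↥(Cfsg.Lie.twistedG2 K (3 ^ m)) := inferInstance
    have hcomm := IsSimpleGroup.comm_iff_isSolvable.mpr hsol
    exact ⟨⟨hcomm⟩⟩

/-- **No quaternion quotients** of `2`-subgroups of `²G₂(q)`. -/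
theorem ree_no_quat_quotient (hm : 1 ≤ m) (hK : Fintype.card K = 3 ^ (2 * m + 1))
    (T : Subgroup ↥(Cfsg.Lie.twistedG2 K (3 ^ m))) (hT : IsPGroup 2 T) (n : ℕ) (hn : 1 ≤ n)
    (g : ↥T →* QuaternionGroup (2 ^ n)) : ¬ Function.Surjective g := by
  classical
  intro hg
  haveI : Fact (Nat.Prime 2) := ⟨Nat.prime_two⟩
  obtain ⟨hs, hnc⟩ := Cfsg.Agent.S1073.result hm hK
  haveI := hs
  have hcard := Cfsg.Agent.S1069.result hK
  haveI : Finite ↥(Cfsg.Lie.twistedG2 K (3 ^ m)) := inferInstance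
  have h16 : ¬ 16 ∣ Nat.card ↥(Cfsg.Lie.twistedG2 K (3 ^ m)) := by
    rw [hcard]; exact ree_card_not16 m
  have hle : ∀ P : Subgroup ↥(Cfsg.Lie.twistedG2 K (3 ^ m)), IsPGroup 2 P → Nat.card P ≤ 8 := by
    intro P hP
    obtain ⟨j, hj⟩ := hP.exists_card_eq
    rw [hj]
    by_contra hgt
    push Not at hgt
    have h4 : 4 ≤ j := by
      by_contra h
      have h3 : j ≤ 3 := by omega
      have := Nat.pow_le_pow_right (by norm_num : 0 < 2) h3
      omega
    apply h16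
    have h1 : 2 ^ 4 ∣ 2 ^ j := pow_dvd_pow 2 h4
    have h2 : 2 ^ j ∣ Nat.card ↥(Cfsg.Lie.twistedG2 K (3 ^ m)) := by
      rw [← hj]; exact Subgroup.card_subgroup_dvd_card P
    have h3 : (16 : ℕ) = 2 ^ 4 := by norm_num
    rw [h3]
    exact h1.trans h2
  haveI : NeZero (2 ^ n) := ⟨by positivity⟩
  have hQ : Nat.card (QuaternionGroup (2 ^ n)) = 4 * 2 ^ n := by
    rw [Nat.card_eq_fintype_card, QuaternionGroup.card]
  have h1 : Nat.card (QuaternionGroup (2 ^ n)) ≤ Nat.card T := Nat.card_le_card_of_surjective g hg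
  have h2 := hle T hT
  have hn1 : n = 1 := by
    have h3 : 2 ^ n ≤ 2 ^ 1 := by omega
    have := (Nat.pow_le_pow_iff_right (by norm_num : 1 < 2)).mp h3
    omega
  subst hn1
  have hQ' : Nat.card (QuaternionGroup (2 ^ 1)) = 8 := by rw [hQ]; norm_num
  have hT8 : Nat.card T = 8 := by omega
  have hbij : Function.Bijective g := by
    apply hg.bijective_of_nat_card_le
    rw [hQ', hT8]
  obtain ⟨S, hS⟩ := hT.exists_le_sylow
  have hST : T = (S : Subgroup ↥(Cfsg.Lie.twistedG2 K (3 ^ m))) := by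
    apply Subgroup.eq_of_le_of_card_ge hS
    rw [hT8]
    exact hle S S.isPGroup'
  have hO : ∀ N : Subgroup ↥(Cfsg.Lie.twistedG2 K (3 ^ m)), N.Normal → Odd (Nat.card N) →
      N = ⊥ := by
    intro N hN hodd
    rcases hN.eq_bot_or_eq_top with h | h
    · exact h
    · exfalso
      subst h
      rw [Subgroup.card_top] at hodd
      have h8 : 8 ∣ Nat.card ↥(Cfsg.Lie.twistedG2 K (3 ^ m)) := by
        rw [← hT8]; exact Subgroup.card_subgroup_dvd_card T
      obtain ⟨c, hc⟩ := h8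
      rw [hc] at hodd
      rcases hodd with ⟨d, hd⟩
      omega
  have hc2 := Cfsg.Agent.S0201.result S 0
    ((MulEquiv.subgroupCongr hST.symm).trans (MulEquiv.ofBijective g hbij)) hO
  rcases (inferInstance : (Subgroup.center ↥(Cfsg.Lie.twistedG2 K (3 ^ m))).Normal).eq_bot_or_eq_top
    with h | h
  · rw [h, Subgroup.card_bot] at hc2
    omega
  · apply hnc
    refine ⟨⟨fun a b => ?_⟩⟩
    have ha : a ∈ Subgroup.center ↥(Cfsg.Lie.twistedG2 K (3 ^ m)) := by
      rw [h]; exact Subgroup.mem_top a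
    exact (Subgroup.mem_center_iff.mp ha b).symm

end Cfsg.Agent.Lib.helper52.QuadRee
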