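import Mathlib
import Cfsg.Agent.Lib.helper52.RelPRed

set_option autoImplicit false

namespace Cfsg.Agent.Lib.helper52

open Cfsg
open scoped Pointwise commutatorElement

/-- **Coprime action, key step.** Let `U` be elementary abelian, normalized by the `p'`-element
`r`, and let `D` normalize `U` and act on it as a `p`-group, with `[d, r]` centralizing `U`
for all `d ∈ D`. If `r` centralizes `C_U(D)`, then `r` centralizes `U`. -/
theorem mem_centralizer_of_centralizes_fixed {H : Type*} [Group H] [Finite H] {p : ℕ}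
    [Fact p.Prime] {U D : Subgroup H} (hUE : Cfsg.IsElementaryAbelian p U)
    (hDU : D ≤ Subgroup.normalizer (U : Set H))
    (hDp : ∀ d ∈ D, ∃ k : ℕ, d ^ (p ^ k) ∈ Subgroup.centralizer (U : Set H))
    {r : H} (hrU : r ∈ Subgroup.normalizer (U : Set H)) (hrp : (orderOf r).Coprime p)
    (hcomm : ∀ d ∈ D, ⁅d, r⁆ ∈ Subgroup.centralizer (U : Set H))
    (hrC : r ∈ Subgroup.centralizer ((U ⊓ Subgroup.centralizer (D : Set H) : Subgroup H) : Set H)) :
    r ∈ Subgroup.centralizer (U : Set H) := by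
  -- `[u, r] ∈ U`
  have hcU : ∀ u ∈ U, ⁅u, r⁆ ∈ U := by
    intro u hu
    have : ⁅u, r⁆ = u * (r * u⁻¹ * r⁻¹) := by rw [commutatorElement_def]; group
    rw [this]
    exact mul_mem hu ((Subgroup.mem_normalizer_iff.mp hrU u⁻¹).mp (inv_mem hu))
  -- `u ↦ [u, r]` is a homomorphism
  let φ : ↥U →* H := MonoidHom.mk' (fun u => ⁅(u : H), r⁆) (by
    intro a b
    have e : ⁅((a * b : ↥U) : H), r⁆ = (a : H) * ⁅(b : H), r⁆ * (a : H)⁻¹ * ⁅(a : H), r⁆ := by
      rw [Subgroup.coe_mul]; simp only [commutatorElement_def]; group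
    have e1 : (a : H) * ⁅(b : H), r⁆ = ⁅(b : H), r⁆ * (a : H) :=
      IsElementaryAbelian.commute hUE a.2 (hcU _ b.2)
    have e2 : ⁅(b : H), r⁆ * ⁅(a : H), r⁆ = ⁅(a : H), r⁆ * ⁅(b : H), r⁆ :=
      IsElementaryAbelian.commute hUE (hcU _ b.2) (hcU _ a.2)
    show ⁅((a * b : ↥U) : H), r⁆ = ⁅(a : H), r⁆ * ⁅(b : H), r⁆
    rw [e, e1, mul_assoc, mul_assoc, mul_inv_cancel_left, e2])
  have hφ : ∀ u : ↥U, φ u = ⁅(u : H), r⁆ := fun u => rfl
  have hU₁U : φ.range ≤ U := by
    rintro _ ⟨u, rfl⟩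
    rw [hφ]; exact hcU _ u.2
  by_cases hbot : φ.range = ⊥
  · rw [Subgroup.mem_centralizer_iff]
    intro u hu
    have h1 : φ ⟨u, hu⟩ ∈ φ.range := ⟨⟨u, hu⟩, rfl⟩
    rw [hbot, Subgroup.mem_bot, hφ] at h1
    exact commutatorElement_eq_one_iff_mul_comm.mp h1
  · exfalso
    have hU₁p : IsPGroup p ↥φ.range := (IsElementaryAbelian.isPGroup hUE).to_le hU₁U
    have hDN : D ≤ Subgroup.normalizer (φ.range : Set H) := by
      apply le_normalizer_of_forall_conj_mem
      rintro d hd _ ⟨u, rfl⟩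
      have hdu : d * (u : H) * d⁻¹ ∈ U := (Subgroup.mem_normalizer_iff.mp (hDU hd) u).mp u.2
      refine ⟨⟨d * (u : H) * d⁻¹, hdu⟩, ?_⟩
      rw [hφ, hφ]
      show ⁅d * (u : H) * d⁻¹, r⁆ = d * ⁅(u : H), r⁆ * d⁻¹
      -- `d r d⁻¹ = [d, r] r` and `[d, r]` centralizes `U`
      have hb : r * (d * (u : H) * d⁻¹)⁻¹ * r⁻¹ ∈ U :=
        (Subgroup.mem_normalizer_iff.mp hrU _).mp (inv_mem hdu)
      have hc1 : (r * (d * (u : H) * d⁻¹)⁻¹ * r⁻¹) * ⁅d, r⁆ = ⁅d, r⁆ * (r * (d * (u : H) * d⁻¹)⁻¹ * r⁻¹) :=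
        Subgroup.mem_centralizer_iff.mp (hcomm d hd) _ hb
      have e1 : d * ⁅(u : H), r⁆ * d⁻¹
          = (d * (u : H) * d⁻¹) * (⁅d, r⁆ * (r * (d * (u : H) * d⁻¹)⁻¹ * r⁻¹)) * ⁅d, r⁆⁻¹ := by
        simp only [commutatorElement_def]; group
      rw [e1, ← hc1]
      simp only [commutatorElement_def]; group
    have hDp' : ∀ d ∈ D, ∃ k : ℕ, d ^ (p ^ k) ∈ Subgroup.centralizer (φ.range : Set H) := by
      intro d hd
      obtain ⟨k, hk⟩ := hDp d hd
      exact ⟨k, Subgroup.centralizer_le hU₁U hk⟩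
    obtain ⟨m, hmU₁, hm1, hmD⟩ := exists_ne_one_mem_centralized_of_p_acts hU₁p hDN hDp' hbot
    obtain ⟨u, hu⟩ := hmU₁
    rw [hφ] at hu
    have hmU : m ∈ U := by rw [← hu]; exact hcU _ u.2
    have hmC : m ∈ Subgroup.centralizer (D : Set H) := by
      rw [Subgroup.mem_centralizer_iff]
      intro d hd
      exact hmD d hd
    have hrm : m * r = r * m := Subgroup.mem_centralizer_iff.mp hrC m ⟨hmU, hmC⟩
    have hrm' : r * m⁻¹ = m⁻¹ * r := by
      have h0 : Commute r m := hrm.symm
      exact (h0.inv_right).eq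
    have h4 := conj_pow_of_comm r (u : H) m⁻¹ hrm' (by
      rw [← hu, commutatorElement_def]; group) (orderOf r)
    rw [pow_orderOf_eq_one] at h4
    have h5 : m⁻¹ ^ orderOf r = 1 := by
      have : m⁻¹ ^ orderOf r * (u : H) = (u : H) := by rw [← h4]; group
      exact mul_eq_right.mp this
    have h6 : m ^ orderOf r = 1 := by
      rw [inv_pow, inv_eq_one] at h5; exact h5
    have h7 : (orderOf m).Coprime p :=
      Nat.Coprime.coprime_dvd_left (orderOf_dvd_of_pow_eq_one h6) hrp
    exact hm1 (eq_one_of_coprime_of_pow h7 (k := 1) (by rw [pow_one]; exact hUE.2 m hmU))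

/-- **Normal case.** If `L` is normal in `M`, then `C_L(Y_M) ≤ C_L(Y_L)`. -/
theorem inf_centralizer_largestPReducedOf_le_of_normal {H : Type*} [Group H] [Finite H] {p : ℕ}
    [Fact p.Prime] {M L : Subgroup H} (hLM : L ≤ M)
    (hML : M ≤ Subgroup.normalizer (L : Set H)) :
    L ⊓ Subgroup.centralizer ((Cfsg.largestPReducedOf p M : Subgroup H) : Set H) ≤
      Subgroup.centralizer ((Cfsg.largestPReducedOf p L : Subgroup H) : Set H) := by
  have hWrel : RelPRed p L (Cfsg.largestPReducedOf p L) := relPRed_largestPReducedOf p L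
  have hMW : M ≤ Subgroup.normalizer ((Cfsg.largestPReducedOf p L : Subgroup H) : Set H) :=
    hML.trans (normalizer_le_normalizer_largestPReducedOf p L)
  have key : ∀ n : ℕ, ∀ U : Subgroup H, Nat.card ↥U = n → U ≤ Cfsg.largestPReducedOf p L →
      M ≤ Subgroup.normalizer (U : Set H) →
      L ⊓ Subgroup.centralizer (U : Set H) ≤
        Subgroup.centralizer ((Cfsg.largestPReducedOf p L : Subgroup H) : Set H) →
      ∃ U₀ : Subgroup H, RelPRed p M U₀ ∧ L ⊓ Subgroup.centralizer (U₀ : Set H) ≤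
        Subgroup.centralizer ((Cfsg.largestPReducedOf p L : Subgroup H) : Set H) := by
    intro n
    induction n using Nat.strong_induction_on with
    | _ n ih =>
      intro U hn hUW hMU hUC
      by_cases hred : RelPRed p M U
      · exact ⟨U, hred, hUC⟩
      · have hUE : Cfsg.IsElementaryAbelian p U := isElementaryAbelian_of_le hUW hWrel.2.2.1
        have hUM : U ≤ M := hUW.trans (hWrel.1.trans hLM)
        unfold RelPRed at hred
        push Not at hred
        obtain ⟨D, hDM, hMD, hDp, hDC⟩ := hred hUM hMU hUE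
        have hU'lt : U ⊓ Subgroup.centralizer (D : Set H) < U := by
          refine lt_of_le_of_ne inf_le_left (fun h => hDC ?_)
          have : U ≤ Subgroup.centralizer (D : Set H) := by rw [← h]; exact inf_le_right
          exact Subgroup.le_centralizer_iff.mp this
        have hcard : Nat.card ↥(U ⊓ Subgroup.centralizer (D : Set H)) < n := by
          rw [← hn]
          exact lt_of_le_of_ne (Subgroup.card_le_of_le hU'lt.le)
            (fun h => hU'lt.ne (Subgroup.eq_of_le_of_card_ge hU'lt.le h.ge))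
        have hMU' : M ≤ Subgroup.normalizer
            ((U ⊓ Subgroup.centralizer (D : Set H) : Subgroup H) : Set H) :=
          le_normalizer_inf hMU (hMD.trans (normalizer_le_normalizer_centralizer D))
        -- `D ∩ L` centralizes `W`, hence `U`
        have hF1 : D ⊓ L ≤ Subgroup.centralizer (U : Set H) := by
          refine le_trans ?_ (Subgroup.centralizer_le hUW)
          apply hWrel.2.2.2 (D ⊓ L) inf_le_right
            (le_normalizer_inf (hLM.trans hMD) Subgroup.le_normalizer)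
          rintro x ⟨hxD, hxL⟩
          obtain ⟨k, hk⟩ := hDp x hxD
          exact ⟨k, hUC ⟨pow_mem hxL _, hk⟩⟩
        have hU'C : L ⊓ Subgroup.centralizer
            ((U ⊓ Subgroup.centralizer (D : Set H) : Subgroup H) : Set H) ≤
            Subgroup.centralizer ((Cfsg.largestPReducedOf p L : Subgroup H) : Set H) := by
          apply hWrel.2.2.2 _ inf_le_left
            (le_normalizer_inf Subgroup.le_normalizer
              ((hLM.trans hMU').trans (normalizer_le_normalizer_centralizer _)))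
          rintro x ⟨hxL, hxC⟩
          obtain ⟨a, ha⟩ := exists_pow_prime_pow_coprime (p := p) x (orderOf_pos x)
          refine ⟨a, hUC ⟨pow_mem hxL _, ?_⟩⟩
          apply mem_centralizer_of_centralizes_fixed hUE (hDM.trans hMU) hDp
            (hMU (hLM (pow_mem hxL _))) ha ?_ (pow_mem hxC _)
          intro d hd
          apply hF1
          refine Subgroup.mem_inf.mpr ⟨?_, ?_⟩
          · have : ⁅d, x ^ p ^ a⁆ = d * (x ^ p ^ a * d⁻¹ * (x ^ p ^ a)⁻¹) := by
              rw [commutatorElement_def]; group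
            rw [this]
            exact mul_mem hd ((Subgroup.mem_normalizer_iff.mp
              (hMD (hLM (pow_mem hxL _))) d⁻¹).mp (inv_mem hd))
          · rw [commutatorElement_def]
            exact mul_mem ((Subgroup.mem_normalizer_iff.mp (hML (hDM hd)) _).mp
              (pow_mem hxL _)) (inv_mem (pow_mem hxL _))
        exact ih _ hcard _ rfl (inf_le_left.trans hUW) hMU' hU'C
  obtain ⟨U₀, hU₀, hU₀C⟩ := key _ (Cfsg.largestPReducedOf p L) rfl le_rfl hMW inf_le_right
  intro x hx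
  exact hU₀C ⟨hx.1, Subgroup.centralizer_le hU₀.le_largestPReducedOf hx.2⟩

end Cfsg.Agent.Lib.helper52
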