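import Mathlib
import Cfsg.Prelude.Def_LieTwisted
import Cfsg.Prelude.Def_KGroupFacts
import Cfsg.Agent.Lib.helper69.StemSylow
import Cfsg.Agent.Lib.helper97.S2113FLAB
import Cfsg.Agent.Lib.helper97.S2113FLAC
import Cfsg.Agent.Lib.helper4.S2113FLBC
import Cfsg.Agent.Lib.helper19.S2113FLSQ
import Cfsg.Agent.Lib.helper4.S2113R1
import Cfsg.Agent.Lib.helper6.S2113R2
import Cfsg.Agent.Lib.helper98.S2113R3
import Cfsg.Agent.Lib.helper61.S2113R4
import Cfsg.Agent.Lib.helper51.S2113NORM3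
import Cfsg.Agent.Lib.helper7.S2113TWOF
import Cfsg.Agent.Lib.helper50.S2113TWOM
import Cfsg.Agent.Lib.helper15.S2113TWOC
import Cfsg.Agent.Lib.helper52.S2113MODEL
import Cfsg.Agent.Lib.helper44.ReeCent3
import Cfsg.Agent.Lib.helper44.ElemAb8
import Cfsg.Agent.S1157
import Cfsg.Agent.S1156

/-! S2113 assembly (helper52 copy): the Schur multiplier of the small Ree groups is trivial. -/

set_option autoImplicit false

namespace Cfsg.Agent.Lib.helper52.S2113

open scoped commutatorElement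
open Cfsg Cfsg.Lie Cfsg.Agent.Lib.helper23 Cfsg.Agent.Lib.helper44

/-- A Sylow 2-subgroup of the small Ree group is elementary abelian of order 8. -/
theorem helper52_ree_syl2_elem {K : Type*} [Field K] [Fintype K] {m : ℕ}
    (hK : Fintype.card K = 3 ^ (2 * m + 1))
    (S : Sylow 2 ↥(Cfsg.Lie.twistedG2 K (3 ^ m))) :
    Finite ↥(Cfsg.Lie.twistedG2 K (3 ^ m)) ∧
    Nat.card (S : Subgroup ↥(Cfsg.Lie.twistedG2 K (3 ^ m))) = 8 ∧
      ∀ x ∈ (S : Subgroup ↥(Cfsg.Lie.twistedG2 K (3 ^ m))), x * x = 1 := by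
  obtain ⟨R⟩ := Cfsg.Agent.Lib.helper23.exists_reeData hK
  obtain ⟨a₀, haH, ha1, ha2⟩ := Cfsg.Agent.Lib.helper44.ree_exists_invol2 R
  obtain ⟨b₀, c₀, w₀, hbb, hcc, hbc, hb1, hc1, hbc1, hcent, hw3, hw1, hwb, hwc⟩ :=
    Cfsg.Agent.Lib.helper44.ree_exists_four_ext R
  have hcomm := Cfsg.Agent.Lib.helper44.ree_invol_comm' R haH ha1 ha2
  have hne : ∀ g : Matrix.SpecialLinearGroup (Fin 2) K, a₀ * (Cfsg.Agent.Lib.helper44.ree_phi R) g ≠ 1 := by
    intro g h
    apply Cfsg.Agent.Lib.helper44.ree_invol_not_phi R haH ha1 ha2 g⁻¹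
    rw [map_inv]
    exact eq_inv_of_mul_eq_one_left h
  let φG : Matrix.SpecialLinearGroup (Fin 2) K →* ↥(Cfsg.Lie.twistedG2 K (3 ^ m)) :=
    (Cfsg.Agent.Lib.helper44.ree_phi R).codRestrict _ (Cfsg.Agent.Lib.helper44.ree_phi_mem R)
  have hφG : ∀ g, ((φG g : ↥(Cfsg.Lie.twistedG2 K (3 ^ m))) : GL Cfsg.Lie.chevG2.Idx K) =
      (Cfsg.Agent.Lib.helper44.ree_phi R) g := fun g => rfl
  let a : ↥(Cfsg.Lie.twistedG2 K (3 ^ m)) := ⟨a₀, (Subgroup.mem_inf.mp haH).2⟩
  have hab : a * φG b₀ = φG b₀ * a := Subtype.ext (hcomm b₀).eq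
  have hac : a * φG c₀ = φG c₀ * a := Subtype.ext (hcomm c₀).eq
  have hbc' : φG b₀ * φG c₀ = φG c₀ * φG b₀ := Subtype.ext hbc
  obtain ⟨E, hE8, hEexp, -, hEb, hEc, hEmem⟩ := Cfsg.Agent.Lib.helper44.exists_elemAb_eight a (φG b₀) (φG c₀)
    (Subtype.ext ha2) (Subtype.ext hbb) (Subtype.ext hcc) hab hac hbc'
    (fun h => ha1 (congrArg Subtype.val h)) (fun h => hb1 (congrArg Subtype.val h))
    (fun h => hc1 (congrArg Subtype.val h))
    (fun h => hne b₀ (congrArg Subtype.val h)) (fun h => hne c₀ (congrArg Subtype.val h))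
    (fun h => hbc1 (congrArg Subtype.val h))
    (fun h => hne (b₀ * c₀) (by rw [map_mul]; exact congrArg Subtype.val h))
  obtain ⟨k, hk, hkq⟩ := Cfsg.Agent.Lib.helper44.ree_card_eight m
  have hG : Nat.card ↥(Cfsg.Lie.twistedG2 K (3 ^ m)) = 8 * k := by
    rw [R.card_twisted, hK]
    exact hkq
  have hk0 : k ≠ 0 := by
    rintro rfl
    exact absurd hk (by decide)
  have hfin : Finite ↥(Cfsg.Lie.twistedG2 K (3 ^ m)) :=
    Nat.finite_of_card_ne_zero (by rw [hG]; omega)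
  exact ⟨hfin, Cfsg.Agent.Lib.helper44.sylow_two_of_elemAb k hk hG E hE8 hEexp S⟩

theorem helper52_core {K : Type*} [Field K] [Fintype K] {m : ℕ} (hm : 1 ≤ m)
    (hK : Fintype.card K = 3 ^ (2 * m + 1)) {Γ : Type*} [Group Γ] [Finite Γ]
    (σ : Γ →* ↥(Cfsg.Lie.twistedG2 K (3 ^ m))) (hσ : Cfsg.IsStemExtension σ) : σ.ker = ⊥ := by
  classical
  obtain ⟨hsurj, hc, -⟩ := id hσ
  apply Cfsg.Agent.Lib.helper69.stem_ker_eq_bot_of_forall_prime σ hσ
  intro r hr
  by_cases hr2 : r = 2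
  · subst hr2
    haveI : Fact (Nat.Prime 2) := ⟨Nat.prime_two⟩
    let S : Sylow 2 ↥(Cfsg.Lie.twistedG2 K (3 ^ m)) := default
    obtain ⟨hfin, hS8, hSexp⟩ := helper52_ree_syl2_elem hK S
    obtain ⟨hcent, hnorm⟩ := Cfsg.Agent.S1157.result hm hK S
    obtain ⟨g, hg, hg7, hfix⟩ := Cfsg.Agent.Lib.helper50.S2113.helper50_two_model
      (S : Subgroup ↥(Cfsg.Lie.twistedG2 K (3 ^ m))) hS8 hSexp hcent hnorm
    refine ⟨(S : Subgroup ↥(Cfsg.Lie.twistedG2 K (3 ^ m))).comap σ, MonoidHom.ker_le_comap _ _, ?_, ?_⟩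
    · rw [Subgroup.index_comap_of_surjective _ hsurj]
      exact S.not_dvd_index
    · exact Cfsg.Agent.Lib.helper69.eq_one_of_mem_commutator_comap_of_comm σ
        (S : Subgroup ↥(Cfsg.Lie.twistedG2 K (3 ^ m)))
        (fun x y hx hy => Cfsg.Agent.Lib.helper15.S2113.helper15_two_comm σ hsurj hc
          (S : Subgroup ↥(Cfsg.Lie.twistedG2 K (3 ^ m))) hS8 hSexp g hg hg7 hfix
          (fun f j hcomm h0 hsq hneg hj0 hj1 hrel =>
            Cfsg.Agent.Lib.helper7.S2113.helper7_two_f f j hcomm h0 hsq hneg hj0 hj1 hrel)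
          x y hx hy)
  by_cases hr3 : r = 3
  · subst hr3
    obtain ⟨R⟩ := exists_reeData hK
    have D := helper52_ree_udata hK
    refine ⟨((chevG2.posUnipotent K).subgroupOf (twistedG2 K (3 ^ m))).comap σ,
      MonoidHom.ker_le_comap _ _, ?_, ?_⟩
    · rw [Subgroup.index_comap_of_surjective _ hsurj]
      exact helper52_syl3 hm hK
    · have hP : ∀ g : ↥(twistedG2 K (3 ^ m)),
          g ∈ (chevG2.posUnipotent K).subgroupOf (twistedG2 K (3 ^ m)) ↔
            ∃ t u v, g = uEl (3 ^ m) t u v := by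
        intro g
        constructor
        · intro hg
          exact exists_uEl R (Subgroup.mem_subgroupOf.mp hg)
        · rintro ⟨t, u, v, rfl⟩
          exact Subgroup.mem_subgroupOf.mpr (uEl_pos R t u v)
      have h3K : (3 : K) = 0 := by
        have h0 : ((Fintype.card K : ℕ) : K) = 0 := Nat.cast_card_eq_zero K
        rw [hK] at h0
        push_cast at h0
        exact pow_eq_zero_iff (by omega) |>.mp h0
      have hcop : ¬ 3 ∣ Nat.card Kˣ := by
        rw [Nat.card_eq_fintype_card, Fintype.card_units, hK]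
        have h1 : 3 ^ (2 * m + 1) = 3 * 3 ^ (2 * m) := by ring
        have h2 : 1 ≤ 3 ^ (2 * m) := Nat.one_le_pow _ _ (by norm_num)
        rw [h1]
        omega
      have hsq : ∀ B : K → K → Γ, (∀ s s' t, B (s + s') t = B s t * B s' t) →
          (∀ s t t', B s (t + t') = B s t * B s t') →
          (∀ a s t, a ≠ 0 → B (a ^ 2 * s) (a ^ 2 * t) = B s t) → ∀ s t, B s t = 1 :=
        fun B hl hr hinv => Cfsg.Agent.Lib.helper19.S2113.helper19_fl_sq hm hK B hl hr hinv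
      have h1 : ∀ x y : Γ, (∃ w, σ x = uEl (3 ^ m) 0 0 w) → (∃ w, σ y = uEl (3 ^ m) 0 0 w) →
          x * y = y * x :=
        fun x y hx hy => Cfsg.Agent.Lib.helper4.S2113.helper4_r1 σ hsurj hc _ _ _ D hsq x y hx hy
      have h2 : ∀ x y : Γ, (∃ u v, σ x = uEl (3 ^ m) 0 u v) → (∃ w, σ y = uEl (3 ^ m) 0 0 w) →
          x * y = y * x :=
        fun x y hx hy => Cfsg.Agent.Lib.helper6.S2113.helper6_r2 σ hsurj hc _ _ _ D h1
          (fun B hl hr hinv => Cfsg.Agent.Lib.helper4.S2113.helper4_fl_bc hm hK B hl hr hinv)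
          x y hx hy
      have h3 : ∀ x y : Γ, (∃ t u v, σ x = uEl (3 ^ m) t u v) → (∃ w, σ y = uEl (3 ^ m) 0 0 w) →
          x * y = y * x :=
        fun x y hx hy => Cfsg.Agent.Lib.helper98.S2113.helper98_r3 σ hsurj hc _ _ _ D h2
          (fun B hl hr hinv => Cfsg.Agent.Lib.helper97.S2113.helper97_fl_ac hm hK B hl hr hinv)
          x y hx hy
      have h4 : ∀ x y : Γ, (∃ u v, σ x = uEl (3 ^ m) 0 u v) → (∃ u v, σ y = uEl (3 ^ m) 0 u v) →
          x * y = y * x :=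
        fun x y hx hy => Cfsg.Agent.Lib.helper61.S2113.helper61_r4 σ hsurj hc _ _ _ D h2 hsq
          x y hx hy
      exact Cfsg.Agent.Lib.helper51.S2113.helper51_norm3 σ hsurj hc _ _ _ D h3K hcop h3 h4
        (fun B hl hr hinv => Cfsg.Agent.Lib.helper97.S2113.helper97_fl_ab hm hK B hl hr hinv)
        hsq _ hP
  · have hr5 : 3 < r := by
      have := hr.two_le
      omega
    haveI : Fact r.Prime := ⟨hr⟩
    let Q : Sylow r ↥(Cfsg.Lie.twistedG2 K (3 ^ m)) := default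
    haveI hfin : Finite ↥(Cfsg.Lie.twistedG2 K (3 ^ m)) :=
      (helper52_ree_syl2_elem hK (default : @Sylow 2 ↥(Cfsg.Lie.twistedG2 K (3 ^ m)) _)).1
    haveI hcyc : IsCyclic (Q : Subgroup ↥(Cfsg.Lie.twistedG2 K (3 ^ m))) :=
      Cfsg.Agent.S1156.result hm hK hr5 Q
    refine ⟨(Q : Subgroup ↥(Cfsg.Lie.twistedG2 K (3 ^ m))).comap σ, MonoidHom.ker_le_comap _ _, ?_, ?_⟩
    · rw [Subgroup.index_comap_of_surjective _ hsurj]
      exact Q.not_dvd_index
    · exact Cfsg.Agent.Lib.helper69.eq_one_of_mem_commutator_comap_of_isCyclic σ hc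
        (Q : Subgroup ↥(Cfsg.Lie.twistedG2 K (3 ^ m)))

theorem helper52_ree_mult_final {K : Type*} [Field K] [Fintype K] {m : ℕ} (hm : 1 ≤ m)
    (hK : Fintype.card K = 3 ^ (2 * m + 1)) :
    Cfsg.HasCyclicSchurMultiplier ↥(Cfsg.Lie.twistedG2 K (3 ^ m)) 1 := by
  classical
  have hfin : Finite ↥(Cfsg.Lie.twistedG2 K (3 ^ m)) :=
    (helper52_ree_syl2_elem hK (default : @Sylow 2 ↥(Cfsg.Lie.twistedG2 K (3 ^ m)) _)).1
  constructor
  · refine ⟨↥(Cfsg.Lie.twistedG2 K (3 ^ m)), inferInstance, hfin, MonoidHom.id _,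
      ⟨Function.surjective_id, ?_, ?_⟩, ?_⟩
    · intro x hx
      rw [MonoidHom.mem_ker, MonoidHom.id_apply] at hx
      rw [hx]
      exact Subgroup.one_mem _
    · intro x hx
      rw [MonoidHom.mem_ker, MonoidHom.id_apply] at hx
      rw [hx]
      exact Subgroup.one_mem _
    · refine ⟨{
        toFun := fun _ => 1
        invFun := fun _ => 1
        left_inv := ?_
        right_inv := ?_
        map_mul' := ?_ }⟩
      · intro x
        apply Subtype.ext
        exact (MonoidHom.mem_ker.mp x.2).symm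
      · intro y
        exact Multiplicative.toAdd.injective (Subsingleton.elim _ _)
      · intro x y
        exact (mul_one 1).symm
  · intro Γ _ _ σ hσ
    have hk : σ.ker = ⊥ := helper52_core hm hK σ hσ
    refine ⟨1, ?_⟩
    intro x
    refine ⟨1, ?_⟩
    have hx : (x : Γ) ∈ (⊥ : Subgroup Γ) := hk ▸ x.2
    rw [Subgroup.mem_bot] at hx
    exact (Subtype.ext hx).symm

end Cfsg.Agent.Lib.helper52.S2113
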