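import Mathlib

/-!
S3175 piece CONJ (helper96's split): `exists_conj_aut`.
-/

set_option autoImplicit false

namespace Cfsg.Agent.Lib.helper52.S3175

/-- conjugation by a normalizing element, restricted to the subgroup -/
def h52_conjAut {G : Type*} [Group G] (T : Subgroup G) (x : G)
    (hx : x ∈ Subgroup.normalizer (T : Set G)) : MulAut ↥T where
  toFun t := ⟨x * t * x⁻¹, (Subgroup.mem_normalizer_iff.mp hx t).mp t.2⟩
  invFun t := ⟨x⁻¹ * t * x, by
    have h1 := (Subgroup.mem_normalizer_iff.mp hx (x⁻¹ * t * x)).mpr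
    apply h1
    have h2 : x * (x⁻¹ * (t : G) * x) * x⁻¹ = t := by group
    rw [h2]; exact t.2⟩
  left_inv t := by apply Subtype.ext; show x⁻¹ * (x * (t : G) * x⁻¹) * x = t; group
  right_inv t := by apply Subtype.ext; show x * (x⁻¹ * (t : G) * x) * x⁻¹ = t; group
  map_mul' a b := by
    apply Subtype.ext
    show x * ((a : G) * b) * x⁻¹ = x * a * x⁻¹ * (x * b * x⁻¹)
    group

theorem h52_conjAut_coe {G : Type*} [Group G] (T : Subgroup G) (x : G)
    (hx : x ∈ Subgroup.normalizer (T : Set G)) (t : ↥T) :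
    ((h52_conjAut T x hx t : ↥T) : G) = x * (t : G) * x⁻¹ := rfl

theorem h52_conjAut_pow {G : Type*} [Group G] (T : Subgroup G) (x : G)
    (hx : x ∈ Subgroup.normalizer (T : Set G)) (k : ℕ) (t : ↥T) :
    ((((h52_conjAut T x hx) ^ k) t : ↥T) : G) = x ^ k * (t : G) * (x ^ k)⁻¹ := by
  induction k with
  | zero => simp
  | succ k ih =>
    rw [pow_succ', MulAut.mul_apply, h52_conjAut_coe, ih, pow_succ']
    group

/-- CONJ -/
theorem exists_conj_aut {G : Type*} [Group G] [Finite G] (T : Subgroup G) (x : G)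
    (hx : x ∈ Subgroup.normalizer (T : Set G)) :
    ∃ φ : MulAut ↥T, (∀ t : ↥T, ((φ t : ↥T) : G) = x * (t : G) * x⁻¹) ∧ φ ^ orderOf x = 1 := by
  refine ⟨h52_conjAut T x hx, fun t => rfl, ?_⟩
  ext t
  rw [h52_conjAut_pow, pow_orderOf_eq_one]
  simp

end Cfsg.Agent.Lib.helper52.S3175
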