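import Mathlib

/-!
S3175 piece NPC (helper96's split): `normal_complement_of_odd_central`.
-/

set_option autoImplicit false

namespace Cfsg.Agent.Lib.helper52.S3175

/-- NPC -/
theorem normal_complement_of_odd_central {G : Type*} [Group G] [Finite G] (T : Sylow 2 G)
    (h : ∀ x ∈ Subgroup.normalizer ((T : Subgroup G) : Set G), Odd (orderOf x) →
      ∀ t ∈ (T : Subgroup G), x * t = t * x) :
    ∃ (P : Sylow 2 ↥(Subgroup.normalizer ((T : Subgroup G) : Set G)))
      (N : Subgroup ↥(Subgroup.normalizer ((T : Subgroup G) : Set G))),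
      N.Normal ∧ N.IsComplement' (P : Subgroup ↥(Subgroup.normalizer ((T : Subgroup G) : Set G))) := by
  have : Fact (Nat.Prime 2) := ⟨Nat.prime_two⟩
  have hTN : (T : Subgroup G) ≤ Subgroup.normalizer ((T : Subgroup G) : Set G) := Subgroup.le_normalizer
  have hPcoe : ((T.subtype hTN : Sylow 2 ↥(Subgroup.normalizer ((T : Subgroup G) : Set G))) :
      Subgroup ↥(Subgroup.normalizer ((T : Subgroup G) : Set G))) =
      (T : Subgroup G).subgroupOf (Subgroup.normalizer ((T : Subgroup G) : Set G)) := Sylow.coe_subtype T hTN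
  have hPn : ((T.subtype hTN : Sylow 2 ↥(Subgroup.normalizer ((T : Subgroup G) : Set G))) :
      Subgroup ↥(Subgroup.normalizer ((T : Subgroup G) : Set G))).Normal := by
    rw [hPcoe]; exact Subgroup.normal_in_normalizer
  have hcop := (T.subtype hTN).card_coprime_index
  obtain ⟨H, hH⟩ := Subgroup.exists_left_complement'_of_coprime hcop
  refine ⟨T.subtype hTN, H, ?_, hH⟩
  have hodd : ∀ y ∈ H, Odd (orderOf ((y : ↥(Subgroup.normalizer ((T : Subgroup G) : Set G))) : G)) := by
    intro y hy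
    have h1 := hH.card_mul_card
    have h2 := Subgroup.card_mul_index
      ((T.subtype hTN : Sylow 2 ↥(Subgroup.normalizer ((T : Subgroup G) : Set G))) :
        Subgroup ↥(Subgroup.normalizer ((T : Subgroup G) : Set G)))
    have h3 : Nat.card H = ((T.subtype hTN : Sylow 2 ↥(Subgroup.normalizer ((T : Subgroup G) : Set G))) :
        Subgroup ↥(Subgroup.normalizer ((T : Subgroup G) : Set G))).index := by
      have hpos : 0 < Nat.card ((T.subtype hTN : Sylow 2 ↥(Subgroup.normalizer ((T : Subgroup G) : Set G))) :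
        Subgroup ↥(Subgroup.normalizer ((T : Subgroup G) : Set G))) := Nat.card_pos
      apply Nat.eq_of_mul_eq_mul_left hpos
      rw [h2, ← h1]; ring
    have h4 := (T.subtype hTN).not_dvd_index
    have h5 : orderOf y ∣ Nat.card H := Subgroup.orderOf_dvd_natCard H hy
    rw [Subgroup.orderOf_coe]
    rw [← Nat.not_even_iff_odd, even_iff_two_dvd]
    intro h6
    exact h4 (h3 ▸ dvd_trans h6 h5)
  refine ⟨fun y hy n => ?_⟩
  obtain ⟨⟨h₀, p₀⟩, hn⟩ := hH.2 n
  have hn' : (h₀ : ↥(Subgroup.normalizer ((T : Subgroup G) : Set G))) * p₀ = n := hn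
  have hp : (((p₀ : ↥(Subgroup.normalizer ((T : Subgroup G) : Set G)))) : G) ∈ (T : Subgroup G) := by
    have h1 := p₀.2
    have h2 : (p₀ : ↥(Subgroup.normalizer ((T : Subgroup G) : Set G))) ∈
        (T : Subgroup G).subgroupOf (Subgroup.normalizer ((T : Subgroup G) : Set G)) := by
      rw [← hPcoe]; exact h1
    exact Subgroup.mem_subgroupOf.mp h2
  have hcomm : (y : G) * ((p₀ : ↥(Subgroup.normalizer ((T : Subgroup G) : Set G))) : G) =
      ((p₀ : ↥(Subgroup.normalizer ((T : Subgroup G) : Set G))) : G) * y := h y y.2 (hodd y hy) _ hp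
  have hcomm' : y * (p₀ : ↥(Subgroup.normalizer ((T : Subgroup G) : Set G))) =
      (p₀ : ↥(Subgroup.normalizer ((T : Subgroup G) : Set G))) * y := Subtype.ext hcomm
  have h7 : n * y * n⁻¹ = (h₀ : ↥(Subgroup.normalizer ((T : Subgroup G) : Set G))) * y *
      (h₀ : ↥(Subgroup.normalizer ((T : Subgroup G) : Set G)))⁻¹ := by
    rw [← hn']
    calc (h₀ : ↥(Subgroup.normalizer ((T : Subgroup G) : Set G))) * p₀ * y * ((h₀ : ↥(Subgroup.normalizer ((T : Subgroup G) : Set G))) * p₀)⁻¹
        = h₀ * ((p₀ : ↥(Subgroup.normalizer ((T : Subgroup G) : Set G))) * y) * (p₀ : ↥(Subgroup.normalizer ((T : Subgroup G) : Set G)))⁻¹ * (h₀ : ↥(Subgroup.normalizer ((T : Subgroup G) : Set G)))⁻¹ := by group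
      _ = h₀ * (y * (p₀ : ↥(Subgroup.normalizer ((T : Subgroup G) : Set G)))) * (p₀ : ↥(Subgroup.normalizer ((T : Subgroup G) : Set G)))⁻¹ * (h₀ : ↥(Subgroup.normalizer ((T : Subgroup G) : Set G)))⁻¹ := by rw [hcomm']
      _ = _ := by group
  rw [h7]
  exact H.mul_mem (H.mul_mem h₀.2 hy) (H.inv_mem h₀.2)

end Cfsg.Agent.Lib.helper52.S3175
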