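import Mathlib

set_option autoImplicit false

namespace Cfsg.Agent.Lib.helper52.S4067

open Subgroup MulAction
open scoped commutatorElement

variable {G : Type*} [Group G] [Finite G]

omit [Finite G] in
theorem s4067_comm_mem_center (hc : commutator G ≤ center G) (g h : G) : ⁅g, h⁆ ∈ center G :=
  hc (Subgroup.commutator_mem_commutator (Subgroup.mem_top g) (Subgroup.mem_top h))

omit [Finite G] in
theorem s4067_comm_mul_left (hc : commutator G ≤ center G) (g g' y : G) :
    ⁅g * g', y⁆ = ⁅g, y⁆ * ⁅g', y⁆ := by
  have hz := Subgroup.mem_center_iff.1 (s4067_comm_mem_center hc g' y)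
  have h1 : ⁅g * g', y⁆ = g * ⁅g', y⁆ * g⁻¹ * ⁅g, y⁆ := by
    simp only [commutatorElement_def]; group
  rw [h1, hz g, mul_assoc ⁅g', y⁆ g g⁻¹, mul_inv_cancel, mul_one]
  exact (hz ⁅g, y⁆).symm

/-- In a group of class two, `g ↦ ⁅g, y⁆` is a homomorphism into the commutator subgroup. -/
def s4067CommHom (hc : commutator G ≤ center G) (y : G) : G →* commutator G where
  toFun g := ⟨⁅g, y⁆, Subgroup.commutator_mem_commutator (Subgroup.mem_top g) (Subgroup.mem_top y)⟩
  map_one' := by
    apply Subtype.ext
    simp
  map_mul' g g' := by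
    apply Subtype.ext
    simpa using s4067_comm_mul_left hc g g' y

omit [Finite G] in
theorem s4067CommHom_coe (hc : commutator G ≤ center G) (y g : G) :
    ((s4067CommHom hc y g : commutator G) : G) = ⁅g, y⁆ := rfl

omit [Finite G] in
theorem s4067CommHom_eq_one_iff (hc : commutator G ≤ center G) (y g : G) :
    s4067CommHom hc y g = 1 ↔ g * y = y * g := by
  rw [← commutatorElement_eq_one_iff_mul_comm, ← s4067CommHom_coe hc y g]
  exact ⟨fun h => by rw [h]; rfl, fun h => Subtype.ext h⟩

/-- PIECE A (central automorphisms). -/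
theorem mul_mem_orbit_of_central {p : ℕ} (hp : p.Prime) (hc : commutator G ≤ center G)
    (hcard : Nat.card (commutator G) = p) (W : Subgroup G) (hW : W ≤ center G)
    (hWcard : Nat.card W = p) (x : G) (hx : x ∉ center G) (a : G) (ha : a ∈ W) :
    x * a ∈ orbit (MulAut G) x := by
  classical
  haveI : Fact p.Prime := ⟨hp⟩
  have hy : ∃ y, ¬ (x * y = y * x) := by
    by_contra hno
    apply hx
    rw [Subgroup.mem_center_iff]
    intro g
    by_contra hg
    exact hno ⟨g, fun h => hg h.symm⟩
  obtain ⟨y, hy⟩ := hy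
  let θ : commutator G ≃* W := mulEquivOfPrimeCardEq hcard hWcard
  let f : G →* W := θ.toMonoidHom.comp (s4067CommHom hc y)
  have hf : ∀ g, f g = θ (s4067CommHom hc y g) := fun g => rfl
  have hfx : f x ≠ 1 := by
    intro h
    rw [hf, map_eq_one_iff θ θ.injective, s4067CommHom_eq_one_iff] at h
    exact hy h
  have hfz : ∀ z ∈ center G, f z = 1 := by
    intro z hz
    rw [hf, map_eq_one_iff θ θ.injective, s4067CommHom_eq_one_iff]
    exact (Subgroup.mem_center_iff.1 hz y).symm
  obtain ⟨i, hi⟩ : (⟨a, ha⟩ : W) ∈ Submonoid.powers (f x) := mem_powers_of_prime_card hWcard hfx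
  have hi' : ((f x : W) : G) ^ i = a := by
    have := congrArg (Subtype.val) hi
    simpa using this
  have hcz : ∀ g, ((f g : W) : G) ^ i ∈ center G := fun g => (center G).pow_mem (hW (f g).2) i
  let φ : G →* G :=
    { toFun := fun g => g * ((f g : W) : G) ^ i
      map_one' := by simp
      map_mul' := by
        intro g g'
        have hcomm : Commute ((f g : W) : G) ((f g' : W) : G) :=
          Subgroup.mem_center_iff.1 (hW (f g').2) _
        have h1 : g' * ((f g : W) : G) ^ i = ((f g : W) : G) ^ i * g' :=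
          Subgroup.mem_center_iff.1 (hcz g) g'
        rw [map_mul, Subgroup.coe_mul, hcomm.mul_pow]
        calc g * g' * (((f g : W) : G) ^ i * ((f g' : W) : G) ^ i)
            = g * (g' * ((f g : W) : G) ^ i) * ((f g' : W) : G) ^ i := by group
          _ = g * (((f g : W) : G) ^ i * g') * ((f g' : W) : G) ^ i := by rw [h1]
          _ = g * ((f g : W) : G) ^ i * (g' * ((f g' : W) : G) ^ i) := by group }
  have hφ : ∀ g, φ g = g * ((f g : W) : G) ^ i := fun g => rfl
  have hinj : Function.Injective φ := by
    rw [injective_iff_map_eq_one]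
    intro g hg
    rw [hφ] at hg
    have hgz : g ∈ center G := by
      have : g = (((f g : W) : G) ^ i)⁻¹ := eq_inv_of_mul_eq_one_left hg
      rw [this]
      exact (center G).inv_mem (hcz g)
    rw [hfz g hgz] at hg
    simpa using hg
  have hbij : Function.Bijective φ := Finite.injective_iff_bijective.1 hinj
  let e : G ≃* G := MulEquiv.ofBijective φ hbij
  refine ⟨e, ?_⟩
  show e x = x * a
  rw [← hi']
  rfl

end Cfsg.Agent.Lib.helper52.S4067
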