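import Mathlib
import Cfsg.Agent.Lib.helper52.S4067A

set_option autoImplicit false

namespace Cfsg.Agent.Lib.helper52.S4067

open Subgroup MulAction
open scoped commutatorElement

variable {G : Type*} [Group G] [Finite G]

/-- PIECE T2. -/
theorem transvection_pow_injective {p : ℕ} (hp : p.Prime) (hc : commutator G ≤ center G)
    (hcard : Nat.card (commutator G) = p) (u y : G) (hyu : y * u ≠ u * y)
    (τ : MulAut G) (hτK : ∀ k : G, k * u = u * k → τ k = k) (hτy : τ y = y * u)
    (x : G) (hx : x * u ≠ u * x) (m m' : ℕ) (hm : m < p) (hm' : m' < p)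
    (h : ((τ ^ m) x)⁻¹ * (τ ^ m') x ∈ commutator G) : m = m' := by
  classical
  haveI : Fact p.Prime := ⟨hp⟩
  wlog hle : m ≤ m' generalizing m m'
  · have h' : ((τ ^ m') x)⁻¹ * (τ ^ m) x ∈ commutator G := by
      have := (commutator G).inv_mem h
      simpa [mul_inv_rev] using this
    exact (this m' m hm' hm h' (le_of_not_ge hle)).symm
  by_contra hne
  have hlt : m < m' := lt_of_le_of_ne hle hne
  set χ := s4067CommHom hc u with hχ
  have hχy : χ y ≠ 1 := fun h1 => hyu ((s4067CommHom_eq_one_iff hc u y).1 h1)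
  have hχx : χ x ≠ 1 := fun h1 => hx ((s4067CommHom_eq_one_iff hc u x).1 h1)
  obtain ⟨i, hi⟩ : χ x ∈ Submonoid.powers (χ y) := mem_powers_of_prime_card hcard hχy
  replace hi : χ y ^ i = χ x := hi
  have hpi : ¬ p ∣ i := by
    intro hdvd
    apply hχx
    rw [← hi]
    obtain ⟨t, rfl⟩ := hdvd
    rw [pow_mul, ← hcard, pow_card_eq_one', one_pow]
  set k := (y ^ i)⁻¹ * x with hk
  have hku : k * u = u * k := by
    rw [← s4067CommHom_eq_one_iff hc u k]
    show χ k = 1
    rw [hk, map_mul, map_inv, map_pow, hi, inv_mul_cancel]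
  have hxk : x = y ^ i * k := by rw [hk]; group
  have hτu : τ u = u := hτK u rfl
  have hpowu : ∀ n : ℕ, (τ ^ n) u = u := by
    intro n
    induction n with
    | zero => simp
    | succ n ih => rw [pow_succ', MulAut.mul_apply, ih, hτu]
  have hpowk : ∀ n : ℕ, (τ ^ n) k = k := by
    intro n
    induction n with
    | zero => simp
    | succ n ih => rw [pow_succ', MulAut.mul_apply, ih, hτK k hku]
  have hpowy : ∀ n : ℕ, (τ ^ n) y = y * u ^ n := by
    intro n
    induction n with
    | zero => simp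
    | succ n ih =>
      rw [pow_succ', MulAut.mul_apply, ih, map_mul, map_pow, hτy, hτu, pow_succ', mul_assoc]
  have hpowx : ∀ n : ℕ, (τ ^ n) x = (y * u ^ n) ^ i * k := by
    intro n
    conv_lhs => rw [hxk]
    rw [map_mul, map_pow, hpowy, hpowk]
  -- pass to the abelianization
  have hab : (Abelianization.of : G →* Abelianization G) (((τ ^ m) x)⁻¹ * (τ ^ m') x) = 1 := by
    have : ((τ ^ m) x)⁻¹ * (τ ^ m') x ∈ (Abelianization.of : G →* Abelianization G).ker := by
      rw [Abelianization.ker_of]; exact h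
    exact this
  rw [hpowx, hpowx] at hab
  simp only [map_mul, map_inv, map_pow] at hab
  have hm'eq : m' = m + (m' - m) := by omega
  rw [hm'eq] at hab
  have key : ∀ (A B K : Abelianization G) (d : ℕ),
      ((A * B ^ m) ^ i * K)⁻¹ * ((A * B ^ (m + d)) ^ i * K) = B ^ (d * i) := by
    intro A B K d
    have h1 : (A * B ^ (m + d)) ^ i = (A * B ^ m) ^ i * B ^ (d * i) := by
      rw [pow_add, ← mul_assoc, mul_pow, ← pow_mul]
    rw [h1, mul_right_comm, inv_mul_cancel_left]
  rw [key] at hab
  have he : u ^ ((m' - m) * i) ∈ center G := by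
    apply hc
    rw [← Abelianization.ker_of (G := G), MonoidHom.mem_ker, map_pow]
    exact hab
  have hup : u ^ p ∈ center G := by
    rw [Subgroup.mem_center_iff]
    intro g
    have h1 : s4067CommHom hc g (u ^ p) = 1 := by
      rw [map_pow, ← hcard, pow_card_eq_one']
    exact ((s4067CommHom_eq_one_iff hc g (u ^ p)).1 h1).symm
  have hcop : Nat.gcd p ((m' - m) * i) = 1 := by
    have h1 : ¬ p ∣ (m' - m) := Nat.not_dvd_of_pos_of_lt (by omega) (by omega)
    have h2 : ¬ p ∣ (m' - m) * i := fun hd => (hp.dvd_mul.1 hd).elim h1 hpi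
    exact (Nat.Prime.coprime_iff_not_dvd hp).2 h2
  have hb := Nat.gcd_eq_gcd_ab p ((m' - m) * i)
  rw [hcop, Nat.cast_one] at hb
  have hu1 : u = (u ^ p) ^ (Nat.gcdA p ((m' - m) * i)) *
      (u ^ ((m' - m) * i)) ^ (Nat.gcdB p ((m' - m) * i)) := by
    rw [← zpow_natCast u p, ← zpow_natCast u ((m' - m) * i), ← zpow_mul, ← zpow_mul, ← zpow_add,
      ← hb, zpow_one]
  have hu : u ∈ center G := by
    rw [hu1]
    exact (center G).mul_mem ((center G).zpow_mem hup _) ((center G).zpow_mem he _)
  exact hyu (Subgroup.mem_center_iff.1 hu y)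

end Cfsg.Agent.Lib.helper52.S4067
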