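import Mathlib
import Cfsg.Agent.Lib.helper26.S4409Defs
import Cfsg.Agent.Lib.helper16.S4409_QZ
import Cfsg.Agent.Lib.helper54.S4409_SPEC

/-!
S4409 piece CP32 (racer copy by helper52): the central product of two quaternion subgroups with a common
centre is extraspecial of order 32.
-/

set_option autoImplicit false
open scoped commutatorElement

namespace Cfsg.Agent.Lib.helper26.S4409

variable {G : Type*} [Group G]

theorem h52_zpowers_invol (z : G) (hz : z * z = 1) (x : G) (hx : x ∈ Subgroup.zpowers z) :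
    x = 1 ∨ x = z := by
  obtain ⟨k, rfl⟩ := Subgroup.mem_zpowers_iff.1 hx
  have h2 : z ^ (2 : ℤ) = 1 := by rw [zpow_two, hz]
  rcases Int.even_or_odd' k with ⟨j, hj | hj⟩
  · left; rw [hj, zpow_mul, h2, one_zpow]
  · right; rw [hj, zpow_add, zpow_mul, h2, one_zpow, one_mul, zpow_one]

/-- facts about a quaternion subgroup with its involution `z` -/
theorem h52_q8_facts (Q : Subgroup G) (hQ : IsQ8 Q) (z : G) (hzQ : z ∈ Q) (hz1 : z ≠ 1)
    (hz2 : z * z = 1) :
    (∀ m ∈ Q, m * m = 1 ∨ m * m = z) ∧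
    (∀ m ∈ Q, ∀ m' ∈ Q, m * m' * m⁻¹ * m'⁻¹ = 1 ∨ m * m' * m⁻¹ * m'⁻¹ = z) ∧
    (∃ m ∈ Q, ∃ m' ∈ Q, m * m' * m⁻¹ * m'⁻¹ = z) := by
  obtain ⟨e⟩ := hQ
  have k0 : ∀ w : QuaternionGroup 2, w ≠ 1 → w * w = 1 → w = QuaternionGroup.a 2 := by decide
  have k1 : ∀ x : QuaternionGroup 2, x * x = 1 ∨ x * x = QuaternionGroup.a 2 := by decide
  have k2 : ∀ x y : QuaternionGroup 2,
      x * y * x⁻¹ * y⁻¹ = 1 ∨ x * y * x⁻¹ * y⁻¹ = QuaternionGroup.a 2 := by decide
  have k3 : ∃ x y : QuaternionGroup 2, x * y * x⁻¹ * y⁻¹ = QuaternionGroup.a 2 := by decide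
  have ez : e ⟨z, hzQ⟩ = QuaternionGroup.a 2 := by
    apply k0
    · intro h
      apply hz1
      have := e.injective (h.trans (map_one e).symm)
      exact congrArg Subtype.val this
    · rw [← map_mul]
      have : (⟨z, hzQ⟩ : ↥Q) * ⟨z, hzQ⟩ = 1 := Subtype.ext hz2
      rw [this, map_one]
  refine ⟨?_, ?_, ?_⟩
  · intro m hm
    rcases k1 (e ⟨m, hm⟩) with h | h
    · left
      have : (⟨m, hm⟩ : ↥Q) * ⟨m, hm⟩ = 1 := e.injective (by rw [map_mul, h, map_one])
      exact congrArg Subtype.val this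
    · right
      have : (⟨m, hm⟩ : ↥Q) * ⟨m, hm⟩ = ⟨z, hzQ⟩ := e.injective (by rw [map_mul, h, ez])
      exact congrArg Subtype.val this
  · intro m hm m' hm'
    rcases k2 (e ⟨m, hm⟩) (e ⟨m', hm'⟩) with h | h
    · left
      have : (⟨m, hm⟩ : ↥Q) * ⟨m', hm'⟩ * (⟨m, hm⟩ : ↥Q)⁻¹ * (⟨m', hm'⟩ : ↥Q)⁻¹ = 1 :=
        e.injective (by rw [map_mul, map_mul, map_mul, map_inv, map_inv, h, map_one])
      exact congrArg Subtype.val this
    · right
      have : (⟨m, hm⟩ : ↥Q) * ⟨m', hm'⟩ * (⟨m, hm⟩ : ↥Q)⁻¹ * (⟨m', hm'⟩ : ↥Q)⁻¹ = ⟨z, hzQ⟩ :=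
        e.injective (by rw [map_mul, map_mul, map_mul, map_inv, map_inv, h, ez])
      exact congrArg Subtype.val this
  · obtain ⟨x, y, hxy⟩ := k3
    refine ⟨(e.symm x : G), (e.symm x).2, (e.symm y : G), (e.symm y).2, ?_⟩
    have : e.symm x * e.symm y * (e.symm x)⁻¹ * (e.symm y)⁻¹ = ⟨z, hzQ⟩ :=
      e.injective (by
        rw [map_mul, map_mul, map_mul, map_inv, map_inv, e.apply_symm_apply, e.apply_symm_apply,
          hxy, ez])
    exact congrArg Subtype.val this

/-- CP32 (racer copy) -/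
theorem h52_cp32 [Finite G] (M C : Subgroup G) (hM : IsQ8 M) (hC : IsQ8 C)
    (hMC : C ≤ Subgroup.centralizer (M : Set G)) (hne : M ⊓ C ≠ ⊥) :
    Cfsg.IsExtraspecial 2 ↥(M ⊔ C : Subgroup G) ∧ Nat.card ↥(M ⊔ C : Subgroup G) = 32 := by
  classical
  obtain ⟨z, hzM, hz1, hz2, -, hzcen, hcardM⟩ := qz M hM
  obtain ⟨z', hz'C, hz'1, hz'2, -, hz'cen, hcardC⟩ := qz C hC
  have hcomm : ∀ m ∈ M, ∀ c ∈ C, m * c = c * m := fun m hm c hc =>
    Subgroup.mem_centralizer_iff.1 (hMC hc) m hm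
  have h1 : M ⊓ C ≤ Subgroup.zpowers z := by
    rw [← hzcen]
    intro x hx
    exact Subgroup.mem_inf.2 ⟨(Subgroup.mem_inf.1 hx).1, hMC (Subgroup.mem_inf.1 hx).2⟩
  have h2 : M ⊓ C ≤ Subgroup.zpowers z' := by
    rw [← hz'cen]
    intro x hx
    exact Subgroup.mem_inf.2 ⟨hx.2, Subgroup.mem_centralizer_iff.2
      (fun c hc => (hcomm x hx.1 c hc).symm)⟩
  obtain ⟨⟨x, hx⟩, hx1⟩ := (Subgroup.ne_bot_iff_exists_ne_one).1 hne
  have hx1' : x ≠ 1 := fun h => hx1 (Subtype.ext h)
  have hxz : x = z := (h52_zpowers_invol z hz2 x (h1 hx)).resolve_left hx1'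
  have hxz' : x = z' := (h52_zpowers_invol z' hz'2 x (h2 hx)).resolve_left hx1'
  have hzz' : z' = z := by rw [← hxz', hxz]
  subst hzz'
  have hzC : z' ∈ C := hz'C
  have hzMC : M ⊓ C = Subgroup.zpowers z' :=
    le_antisymm h1 (by rw [Subgroup.zpowers_le]; exact ⟨hzM, hzC⟩)
  obtain ⟨hMa, hMb, hMc⟩ := h52_q8_facts M hM z' hzM hz1 hz2
  obtain ⟨hCa, hCb, -⟩ := h52_q8_facts C hC z' hzC hz1 hz2
  have hMcen : ∀ m ∈ M, (∀ m' ∈ M, m' * m = m * m') → m = 1 ∨ m = z' := by
    intro m hm hc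
    apply h52_zpowers_invol z' hz2
    rw [← hzcen]
    exact ⟨hm, Subgroup.mem_centralizer_iff.2 hc⟩
  have hCcen : ∀ c ∈ C, (∀ c' ∈ C, c' * c = c * c') → c = 1 ∨ c = z' := by
    intro c hc hcc
    apply h52_zpowers_invol z' hz2
    rw [← hz'cen]
    exact ⟨hc, Subgroup.mem_centralizer_iff.2 hcc⟩
  have hzcM : ∀ m ∈ M, m * z' = z' * m := by
    have : z' ∈ M ⊓ Subgroup.centralizer (M : Set G) := by rw [hzcen]; exact Subgroup.mem_zpowers z'
    exact fun m hm => Subgroup.mem_centralizer_iff.1 this.2 m hm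
  have hzcC : ∀ c ∈ C, c * z' = z' * c := by
    have : z' ∈ C ⊓ Subgroup.centralizer (C : Set G) := by rw [hz'cen]; exact Subgroup.mem_zpowers z'
    exact fun c hc => Subgroup.mem_centralizer_iff.1 this.2 c hc
  have hprod : ∀ a b : G, (a = 1 ∨ a = z') → (b = 1 ∨ b = z') → (a * b = 1 ∨ a * b = z') := by
    rintro a b (rfl | rfl) (rfl | rfl)
    · left; exact mul_one 1
    · right; exact one_mul _
    · right; exact mul_one _
    · left; exact hz2
  -- the product map
  let f : ↥M × ↥C →* G :=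
    MonoidHom.noncommCoprod M.subtype C.subtype (fun m c => hcomm m m.2 c c.2)
  have hfapp : ∀ (m : ↥M) (c : ↥C), f (m, c) = (m : G) * (c : G) := fun m c => rfl
  have hrange : f.range = M ⊔ C := by
    have := MonoidHom.noncommCoprod_range M.subtype C.subtype (fun m c => hcomm m m.2 c c.2)
    rw [Subgroup.range_subtype, Subgroup.range_subtype] at this
    exact this
  have hval : ∀ x : ↥(M ⊔ C : Subgroup G), ∃ (m : ↥M) (c : ↥C), (x : G) = f (m, c) := by
    intro x
    have hx : (x : G) ∈ f.range := by rw [hrange]; exact x.2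
    obtain ⟨⟨m, c⟩, hmc⟩ := hx
    exact ⟨m, c, hmc.symm⟩
  -- the order
  have hcard : Nat.card ↥(M ⊔ C : Subgroup G) = 32 := by
    have hker : Nat.card ↥f.ker = 2 := by
      have e : ↥f.ker ≃ ↥(M ⊓ C : Subgroup G) :=
        { toFun := fun k => ⟨(k.1.1 : G), Subgroup.mem_inf.2 ⟨k.1.1.2, by
            have hk : (k.1.1 : G) * (k.1.2 : G) = 1 := MonoidHom.mem_ker.1 k.2
            have : (k.1.1 : G) = (k.1.2 : G)⁻¹ := eq_inv_of_mul_eq_one_left hk
            rw [this]; exact C.inv_mem k.1.2.2⟩⟩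
          invFun := fun x => ⟨(⟨x.1, (Subgroup.mem_inf.1 x.2).1⟩,
              ⟨x.1⁻¹, C.inv_mem (Subgroup.mem_inf.1 x.2).2⟩), by
            rw [MonoidHom.mem_ker]
            show (x.1 : G) * (x.1 : G)⁻¹ = 1
            exact mul_inv_cancel _⟩
          left_inv := fun k => by
            apply Subtype.ext
            apply Prod.ext
            · rfl
            · apply Subtype.ext
              have hk : (k.1.1 : G) * (k.1.2 : G) = 1 := MonoidHom.mem_ker.1 k.2
              show (k.1.1 : G)⁻¹ = (k.1.2 : G)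
              exact inv_eq_of_mul_eq_one_right hk
          right_inv := fun x => rfl }
      rw [Nat.card_congr e, hzMC, Nat.card_zpowers]
      exact orderOf_eq_prime (by rw [pow_two]; exact hz2) hz1
    have h := Subgroup.card_mul_index f.ker
    have h3 : f.ker.index = Nat.card ↥f.range := by
      rw [Subgroup.index, Nat.card_congr (QuotientGroup.quotientKerEquivRange f).toEquiv]
    rw [h3, hrange, hker, Nat.card_prod, hcardM, hcardC] at h
    omega
  have hP : IsPGroup 2 ↥(M ⊔ C : Subgroup G) := IsPGroup.of_card (n := 5) (by rw [hcard]; norm_num)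
  -- the centre
  have hcen_iff : ∀ x : ↥(M ⊔ C : Subgroup G),
      x ∈ Subgroup.center ↥(M ⊔ C : Subgroup G) ↔ ((x : G) = 1 ∨ (x : G) = z') := by
    intro x
    rw [Subgroup.mem_center_iff]
    constructor
    · intro hx
      obtain ⟨m, c, hmc⟩ := hval x
      rw [hfapp] at hmc
      have hm : (m : G) = 1 ∨ (m : G) = z' := by
        apply hMcen m m.2
        intro m' hm'
        have := congrArg Subtype.val (hx ⟨m', Subgroup.mem_sup_left hm'⟩)
        have h3 : m' * ((m : G) * (c : G)) = (m : G) * (c : G) * m' := by rw [← hmc]; exact this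
        have h4 : (m : G) * (c : G) * m' = (m : G) * m' * (c : G) := by
          rw [mul_assoc, ← hcomm m' hm' c c.2, mul_assoc]
        rw [h4, ← mul_assoc] at h3
        exact mul_right_cancel h3
      have hc : (c : G) = 1 ∨ (c : G) = z' := by
        apply hCcen c c.2
        intro c' hc'
        have := congrArg Subtype.val (hx ⟨c', Subgroup.mem_sup_right hc'⟩)
        have h3 : c' * ((m : G) * (c : G)) = (m : G) * (c : G) * c' := by rw [← hmc]; exact this
        have h4 : c' * ((m : G) * (c : G)) = (m : G) * (c' * (c : G)) := by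
          rw [← mul_assoc, ← hcomm m m.2 c' hc', mul_assoc]
        rw [h4, mul_assoc] at h3
        exact mul_left_cancel h3
      rw [hmc]
      exact hprod _ _ hm hc
    · rintro (h | h) g
      · have : x = 1 := Subtype.ext h
        rw [this, mul_one, one_mul]
      · apply Subtype.ext
        show (g : G) * (x : G) = (x : G) * (g : G)
        rw [h]
        obtain ⟨m, c, hmc⟩ := hval g
        rw [hfapp] at hmc
        rw [hmc, mul_assoc, hzcC c c.2, ← mul_assoc, hzcM m m.2, mul_assoc]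
  let zP : ↥(M ⊔ C : Subgroup G) := ⟨z', Subgroup.mem_sup_left hzM⟩
  have hzP2 : zP * zP = 1 := Subtype.ext hz2
  have hzP1 : zP ≠ 1 := fun h => hz1 (congrArg Subtype.val h)
  have hcenter_eq : Subgroup.center ↥(M ⊔ C : Subgroup G) = Subgroup.zpowers zP := by
    ext x
    rw [hcen_iff]
    constructor
    · rintro (h | h)
      · have : x = 1 := Subtype.ext h
        rw [this]; exact one_mem _
      · have : x = zP := Subtype.ext h
        rw [this]; exact Subgroup.mem_zpowers _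
    · intro hx
      rcases h52_zpowers_invol zP hzP2 x hx with h | h
      · left; exact congrArg Subtype.val h
      · right; exact congrArg Subtype.val h
  have hcardcen : Nat.card ↥(Subgroup.center ↥(M ⊔ C : Subgroup G)) = 2 := by
    rw [hcenter_eq, Nat.card_zpowers]
    exact orderOf_eq_prime (by rw [pow_two]; exact hzP2) hzP1
  -- squares
  have h2sq : ∀ x : ↥(M ⊔ C : Subgroup G), x * x ∈ Subgroup.center ↥(M ⊔ C : Subgroup G) := by
    intro x
    rw [hcen_iff]
    obtain ⟨m, c, hmc⟩ := hval x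
    have hcoe : ((x * x : ↥(M ⊔ C : Subgroup G)) : G) = ((m : G) * m) * ((c : G) * c) := by
      show (x : G) * (x : G) = _
      rw [hmc, ← map_mul]
      rfl
    rw [hcoe]
    exact hprod _ _ (hMa m m.2) (hCa c c.2)
  -- commutators
  have h1c : _root_.commutator ↥(M ⊔ C : Subgroup G) = Subgroup.center ↥(M ⊔ C : Subgroup G) := by
    apply le_antisymm
    · rw [commutator_eq_closure, Subgroup.closure_le]
      rintro _ ⟨g₁, g₂, rfl⟩
      rw [SetLike.mem_coe, hcen_iff]
      obtain ⟨m, c, hmc⟩ := hval g₁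
      obtain ⟨m', c', hmc'⟩ := hval g₂
      have hcoe : ((⁅g₁, g₂⁆ : ↥(M ⊔ C : Subgroup G)) : G) =
          ((m : G) * m' * (m : G)⁻¹ * (m' : G)⁻¹) * ((c : G) * c' * (c : G)⁻¹ * (c' : G)⁻¹) := by
        show (g₁ : G) * (g₂ : G) * (g₁ : G)⁻¹ * (g₂ : G)⁻¹ = _
        rw [hmc, hmc']
        have key : f ((m, c) * (m', c') * (m, c)⁻¹ * (m', c')⁻¹) =
            f (m, c) * f (m', c') * (f (m, c))⁻¹ * (f (m', c'))⁻¹ := by
          simp only [map_mul, map_inv]
        rw [← key]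
        rfl
      rw [hcoe]
      exact hprod _ _ (hMb m m.2 m' m'.2) (hCb c c.2 c' c'.2)
    · rw [hcenter_eq, Subgroup.zpowers_le]
      obtain ⟨m, hm, m', hm', hmm⟩ := hMc
      have : zP = ⁅(⟨m, Subgroup.mem_sup_left hm⟩ : ↥(M ⊔ C : Subgroup G)),
          ⟨m', Subgroup.mem_sup_left hm'⟩⁆ := Subtype.ext hmm.symm
      rw [this, commutator_def]
      exact Subgroup.commutator_mem_commutator (Subgroup.mem_top _) (Subgroup.mem_top _)
  exact ⟨⟨spec hP h1c h2sq, hcardcen⟩, hcard⟩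

end Cfsg.Agent.Lib.helper26.S4409
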