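import Mathlib
import Cfsg.Agent.Lib.helper14.DicksonCount

/-!
# S4073 piece CT-A (racing copy by helper52): the Sylow 2-subgroup of a simple CT-group of
order `q(q-1)(q+1)`, `q = 2^n`, `q - 1` prime.
-/

set_option autoImplicit false

namespace Cfsg.Agent.Lib.helper52.SNG

universe u

/-- arithmetic: if `(q*j+1) * c = (q-1)*(q+1)` with `q ≥ 2` then `j = 0` or `c = q - 1`. -/
theorem h52_ct_arith (q j c : ℕ) (hq : 2 ≤ q) (h : (q * j + 1) * c = (q - 1) * (q + 1)) :
    j = 0 ∨ c = q - 1 := by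
  obtain ⟨r, rfl⟩ : ∃ r, q = r + 1 := ⟨q - 1, by omega⟩
  have hr : 1 ≤ r := by omega
  simp only [Nat.add_sub_cancel] at h ⊢
  rcases Nat.eq_zero_or_pos j with hj | hj
  · exact Or.inl hj
  right
  have h1 : (r + 1) ∣ c + 1 := by
    have h2 : (r + 1) * (j * c) + (c + 1) = (r + 1) * (r + 1) := by nlinarith [h]
    have h3 : (r + 1) ∣ (r + 1) * (j * c) + (c + 1) := by rw [h2]; exact dvd_mul_right _ _
    exact (Nat.dvd_add_right (dvd_mul_right _ _)).mp h3
  have h4 : c ≤ r := by
    by_contra hlt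
    push Not at hlt
    have h5 : r + 2 ≤ (r + 1) * j + 1 := by nlinarith
    have h6 := Nat.mul_le_mul h5 (show r + 1 ≤ c from hlt)
    nlinarith
  have h5 : r + 1 ≤ c + 1 := Nat.le_of_dvd (by omega) h1
  omega

theorem h52_ct_sylow2_normalizer {G : Type u} [Group G] [Finite G] [IsSimpleGroup G]
    (hna : ¬ IsMulCommutative G)
    (hCT : ∀ a b c : G, b ≠ 1 → Commute a b → Commute b c → Commute a c)
    {n : ℕ} (hn : 2 ≤ n) (hp : (2 ^ n - 1).Prime)
    (hcard : Nat.card G = 2 ^ n * (2 ^ n - 1) * (2 ^ n + 1)) (P : Sylow 2 G) :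
    Nat.card (Subgroup.normalizer ((P : Subgroup G) : Set G)) = 2 ^ n * (2 ^ n - 1) ∧
    IsMulCommutative P ∧
    ∀ u ∈ P, u ≠ 1 → ∀ g : G, Commute g u → g ∈ P := by
  classical
  have hq4 : 4 ≤ 2 ^ n := by
    calc 4 = 2 ^ 2 := by norm_num
      _ ≤ 2 ^ n := Nat.pow_le_pow_right (by norm_num) hn
  have hqe : 2 ∣ 2 ^ n := dvd_pow_self 2 (by omega)
  have hodd1 : ¬ 2 ∣ 2 ^ n - 1 := by omega
  have hodd2 : ¬ 2 ∣ 2 ^ n + 1 := by omega
  have hfac : (Nat.card G).factorization 2 = n := by
    rw [hcard, Nat.factorization_mul (Nat.mul_ne_zero (by positivity) (by omega)) (by positivity),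
      Nat.factorization_mul (by positivity) (by omega)]
    simp only [Finsupp.coe_add, Pi.add_apply]
    rw [Nat.factorization_eq_zero_of_not_dvd hodd1, Nat.factorization_eq_zero_of_not_dvd hodd2,
      Nat.Prime.factorization_pow Nat.prime_two]
    simp
  have hPcard : Nat.card P = 2 ^ n := by
    rw [Sylow.card_eq_multiplicity, hfac]
  have hPnt : Nontrivial P := by
    rw [← Finite.one_lt_card_iff_nontrivial, hPcard]; omega
  have hcn : Nontrivial (Subgroup.center P) := P.isPGroup'.center_nontrivial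
  obtain ⟨⟨⟨z, hzP⟩, hzc⟩, hzne⟩ := exists_ne (1 : Subgroup.center P)
  have hz1 : z ≠ 1 := by
    intro h
    apply hzne
    apply Subtype.ext
    apply Subtype.ext
    exact h
  have hPcomm : ∀ a ∈ P, ∀ b ∈ P, Commute a b := by
    intro a ha b hb
    have h1 : Commute a z := congrArg Subtype.val (Subgroup.mem_center_iff.mp hzc ⟨a, ha⟩)
    have h2 : Commute z b := (congrArg Subtype.val (Subgroup.mem_center_iff.mp hzc ⟨b, hb⟩)).symm
    exact hCT a z b hz1 h1 h2
  have hcent : ∀ u ∈ P, u ≠ 1 → ∀ g : G, Commute g u →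
      g ∈ Subgroup.centralizer ((P : Subgroup G) : Set G) := by
    intro u hu hu1 g hg
    rw [Subgroup.mem_centralizer_iff]
    intro v hv
    exact ((hCT g u v hu1 hg (hPcomm u hu v hv)).eq).symm
  have hPC : (P : Subgroup G) ≤ Subgroup.centralizer ((P : Subgroup G) : Set G) :=
    fun a ha => hcent z hzP hz1 a (hPcomm a ha z hzP)
  have hCN : Subgroup.centralizer ((P : Subgroup G) : Set G) ≤
      Subgroup.normalizer ((P : Subgroup G) : Set G) := Subgroup.centralizer_le_normalizer _
  have hconj : ∀ (g w : G) (m : ℕ), (g⁻¹ * w * g) ^ m = g⁻¹ * w ^ m * g := by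
    intro g w m
    have := conj_pow (a := g⁻¹) (b := w) (i := m)
    simpa using this
  have key : ∀ x : G, x ∈ Subgroup.normalizer ((P : Subgroup G) : Set G) →
      ∀ k : ℕ, x ^ 2 ^ k = 1 → x ∈ P := by
    intro x hx k hk
    have hx2 : IsPGroup 2 (Subgroup.zpowers x) := by
      rintro ⟨y, hy⟩
      obtain ⟨i, rfl⟩ := Subgroup.mem_zpowers_iff.mp hy
      refine ⟨k, Subtype.ext ?_⟩
      show (x ^ i) ^ 2 ^ k = 1
      rw [← zpow_natCast, ← zpow_mul, mul_comm, zpow_mul, zpow_natCast, hk, one_zpow]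
    have h1 : IsPGroup 2 ((P : Subgroup G) ⊔ Subgroup.zpowers x : Subgroup G) :=
      IsPGroup.to_sup_of_normal_left' P.isPGroup' hx2 (by rw [Subgroup.zpowers_le]; exact hx)
    have h2 := P.is_maximal' h1 le_sup_left
    have h3 : x ∈ (P : Subgroup G) ⊔ Subgroup.zpowers x :=
      Subgroup.mem_sup_right (Subgroup.mem_zpowers x)
    rw [h2] at h3
    exact h3
  have hTI : ∀ g : G, ∀ u ∈ P, u ≠ 1 → g⁻¹ * u * g ∈ P →
      g ∈ Subgroup.normalizer ((P : Subgroup G) : Set G) := by
    intro g u hu hu1 hv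
    have hv1 : g⁻¹ * u * g ≠ 1 := by
      intro h
      apply hu1
      have : u = g * (g⁻¹ * u * g) * g⁻¹ := by group
      rw [this, h]; group
    have hle : ((g⁻¹ • P : Sylow 2 G) : Subgroup G) ≤ P := by
      intro x hx
      rw [Sylow.coe_subgroup_smul, Subgroup.mem_smul_pointwise_iff_exists] at hx
      obtain ⟨w, hw, rfl⟩ := hx
      have hxe : MulAut.conj g⁻¹ • w = g⁻¹ * w * g := by
        rw [MulAut.smul_def, MulAut.conj_apply, inv_inv]
      rw [hxe]
      obtain ⟨k, hk⟩ := P.isPGroup' ⟨w, hw⟩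
      have hk' : w ^ 2 ^ k = 1 := by simpa using congrArg Subtype.val hk
      apply key _ _ k
      · rw [hconj, hk']; group
      · apply hCN
        apply hcent _ hv hv1
        have hc : Commute w u := hPcomm w hw u hu
        show g⁻¹ * w * g * (g⁻¹ * u * g) = g⁻¹ * u * g * (g⁻¹ * w * g)
        have e1 : g⁻¹ * w * g * (g⁻¹ * u * g) = g⁻¹ * (w * u) * g := by group
        have e2 : g⁻¹ * u * g * (g⁻¹ * w * g) = g⁻¹ * (u * w) * g := by group
        rw [e1, e2, hc.eq]
    have heq : (g⁻¹ • P : Sylow 2 G) = P :=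
      Sylow.ext ((g⁻¹ • P : Sylow 2 G).is_maximal' P.isPGroup' hle).symm
    have hmem := Sylow.smul_eq_iff_mem_normalizer.mp heq
    simpa using Subgroup.inv_mem _ hmem
  have hdvd : Nat.card P ∣ (Subgroup.normalizer ((P : Subgroup G) : Set G)).index - 1 := by
    apply Cfsg.Agent.Lib.helper14.card_dvd_index_sub_one (P : Subgroup G) _ Subgroup.le_normalizer
    intro g hg u hu hgu
    by_contra hu1
    obtain ⟨k, hk⟩ := P.isPGroup' ⟨u, hu⟩
    have hk' : u ^ 2 ^ k = 1 := by simpa using congrArg Subtype.val hk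
    have hv : g⁻¹ * u * g ∈ P := by
      apply key _ hgu k
      rw [hconj, hk']; group
    exact hg (hTI g u hu hu1 hv)
  have hidx := (Subgroup.normalizer ((P : Subgroup G) : Set G)).index_mul_card
  obtain ⟨c, hc⟩ : Nat.card P ∣ Nat.card (Subgroup.normalizer ((P : Subgroup G) : Set G)) :=
    Subgroup.card_dvd_of_le Subgroup.le_normalizer
  have hidxpos : 0 < (Subgroup.normalizer ((P : Subgroup G) : Set G)).index :=
    Nat.pos_of_ne_zero Subgroup.index_ne_zero_of_finite
  obtain ⟨j, hj⟩ := hdvd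
  rw [hPcard] at hj hc
  have hidx' : (Subgroup.normalizer ((P : Subgroup G) : Set G)).index = 2 ^ n * j + 1 := by omega
  have hprod : (2 ^ n * j + 1) * c = (2 ^ n - 1) * (2 ^ n + 1) := by
    have h1 : (2 ^ n * j + 1) * (2 ^ n * c) = 2 ^ n * (2 ^ n - 1) * (2 ^ n + 1) := by
      rw [← hidx', ← hc, hidx, hcard]
    have h2 : 2 ^ n * ((2 ^ n * j + 1) * c) = 2 ^ n * ((2 ^ n - 1) * (2 ^ n + 1)) := by
      rw [← mul_assoc (2 ^ n) (2 ^ n - 1), ← h1]; ring
    exact Nat.eq_of_mul_eq_mul_left (by positivity) h2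
  rcases h52_ct_arith (2 ^ n) j c (by omega) hprod with hj0 | hcr
  · exfalso
    have hNtop : Subgroup.normalizer ((P : Subgroup G) : Set G) = ⊤ :=
      Subgroup.index_eq_one.mp (by rw [hidx', hj0]; simp)
    have hPn : (P : Subgroup G).Normal := Subgroup.normalizer_eq_top_iff.mp hNtop
    rcases IsSimpleGroup.eq_bot_or_eq_top_of_normal (P : Subgroup G) hPn with hb | ht
    · have h1 : Nat.card (P : Subgroup G) = 1 := by rw [hb, Subgroup.card_bot]
      have h2 : Nat.card (P : Subgroup G) = 2 ^ n := hPcard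
      omega
    · apply hna
      refine ⟨⟨fun a b => ?_⟩⟩
      have haP : a ∈ (P : Subgroup G) := by rw [ht]; exact Subgroup.mem_top a
      have hbP : b ∈ (P : Subgroup G) := by rw [ht]; exact Subgroup.mem_top b
      exact (hPcomm a haP b hbP).eq
  · have hNcard : Nat.card (Subgroup.normalizer ((P : Subgroup G) : Set G)) =
        2 ^ n * (2 ^ n - 1) := by rw [hc, hcr]
    obtain ⟨o, ho⟩ : Nat.card P ∣ Nat.card (Subgroup.centralizer ((P : Subgroup G) : Set G)) :=
      Subgroup.card_dvd_of_le hPC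
    obtain ⟨t, ht⟩ : Nat.card (Subgroup.centralizer ((P : Subgroup G) : Set G)) ∣
        Nat.card (Subgroup.normalizer ((P : Subgroup G) : Set G)) := Subgroup.card_dvd_of_le hCN
    rw [hPcard] at ho
    have hot : o * t = 2 ^ n - 1 := by
      have h1 : 2 ^ n * (o * t) = 2 ^ n * (2 ^ n - 1) := by rw [← hNcard, ht, ho]; ring
      exact Nat.eq_of_mul_eq_mul_left (by positivity) h1
    have ho1 : o = 1 ∨ o = 2 ^ n - 1 := (Nat.dvd_prime hp).mp ⟨t, hot.symm⟩
    have hCP : Subgroup.centralizer ((P : Subgroup G) : Set G) = (P : Subgroup G) := by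
      rcases ho1 with ho1 | hor
      · symm
        apply Subgroup.eq_of_le_of_card_ge hPC
        rw [ho, ho1, mul_one]
        exact hPcard.ge
      · exfalso
        have hCNeq : Subgroup.centralizer ((P : Subgroup G) : Set G) =
            Subgroup.normalizer ((P : Subgroup G) : Set G) :=
          Subgroup.eq_of_le_of_card_ge hCN (by rw [ho, hor, hNcard])
        have hNC : Subgroup.normalizer ((P : Subgroup G) : Set G) ≤
            Subgroup.centralizer ((P : Subgroup G) : Set G) := hCNeq.ge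
        have hcomp := MonoidHom.ker_transferSylow_isComplement' P hNC
        have hcc := hcomp.card_mul_card
        rcases IsSimpleGroup.eq_bot_or_eq_top_of_normal _
          (MonoidHom.normal_ker (MonoidHom.transferSylow P hNC)) with hk | hk
        · rw [hk, Subgroup.card_bot, one_mul] at hcc
          have h2 : Nat.card (P : Subgroup G) = 2 ^ n := hPcard
          rw [h2, hcard] at hcc
          have h3 : 3 ≤ 2 ^ n - 1 := by omega
          have h4 : 2 ^ n * 1 < 2 ^ n * ((2 ^ n - 1) * (2 ^ n + 1)) := by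
            apply Nat.mul_lt_mul_of_pos_left _ (by positivity)
            nlinarith
          rw [← mul_assoc, mul_one] at h4
          omega
        · rw [hk, Subgroup.card_top] at hcc
          have hpos : 0 < Nat.card G := Nat.card_pos
          have h2 : Nat.card (P : Subgroup G) = 1 :=
            Nat.eq_of_mul_eq_mul_left hpos (by rw [hcc, mul_one])
          have h3 : Nat.card (P : Subgroup G) = 2 ^ n := hPcard
          omega
    refine ⟨hNcard, ⟨⟨fun a b => Subtype.ext (hPcomm a a.2 b b.2).eq⟩⟩, ?_⟩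
    intro u hu hu1 g hg
    have h1 := hcent u hu hu1 g hg
    rw [hCP] at h1
    exact h1

end Cfsg.Agent.Lib.helper52.SNG
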