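import Cfsg.Agent.Lib.helper39.WeakClosureMain

/-!
# Weak closure of elements: the inductive skeleton with an abstract endgame

`wc_core_gen` is helper39's `wc_core` (Alperin's theorem via well-placed subgroups, choice of a
tame intersection with largest normalizer, reduction to the case `T ⊴ Γ`), with the final step
left as a hypothesis: an element of `O_p(Γ) ∩ Z(S)` centralized by every proper subgroup
containing `S` is central, when `W(S)` is not normal.
-/

set_option autoImplicit false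

namespace Cfsg.Agent.Lib.helper52

open Cfsg
open Cfsg.Agent.Lib.helper39

section core

variable {Γ : Type*} [Group Γ] [Finite Γ] {p : ℕ} [Fact p.Prime]

/-- **Weak closure of elements: the inductive step with an abstract endgame.** -/
theorem wc_core_gen (W : Subgroup Γ → Subgroup Γ) (hW : IsConjugacyFunctor p W)
    (hWZ : ∀ P : Subgroup Γ, IsPGroup p P → P ⊓ Subgroup.centralizer (P : Set Γ) ≤ W P)
    (ih : ∀ K T : Subgroup Γ, K ≠ ⊤ → IsSylIn p T K → WCAt W K T)
    (S : Sylow p Γ)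
    (hEnd : ∀ x : Γ, x ∈ pCore p Γ → x ∈ Subgroup.centralizer ((S : Subgroup Γ) : Set Γ) →
      ¬ (W (S : Subgroup Γ)).Normal →
      (∀ H : Subgroup Γ, H ≠ ⊤ → (S : Subgroup Γ) ≤ H → H ≤ Subgroup.centralizer ({x} : Set Γ)) →
      ∀ γ : Γ, γ * x * γ⁻¹ = x) :
    WCAt W ⊤ (S : Subgroup Γ) := by
  classical
  have hS : IsPGroup p (S : Subgroup Γ) := S.2
  intro x hx h _ hhS
  by_contra hne
  have hxS : x ∈ (S : Subgroup Γ) := hx.1
  have hxN : ∀ n ∈ Subgroup.normalizer ((W (S : Subgroup Γ) : Subgroup Γ) : Set Γ),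
      n * x = x * n := by
    intro n hn
    exact Subgroup.mem_centralizer_iff.mp hx.2 n ⟨Subgroup.mem_top n, hn⟩
  have hxZ : x ∈ Subgroup.centralizer ((S : Subgroup Γ) : Set Γ) := by
    rw [Subgroup.mem_centralizer_iff]
    intro s hs
    exact hxN s (le_trans Subgroup.le_normalizer (cfun_normalizer_le hW hS) hs)
  -- Step 1: a well-placed subgroup whose normalizer moves `x`
  have hAS : Subgroup.zpowers x ≤ (S : Subgroup Γ) := Subgroup.zpowers_le.mpr hxS
  have hdec : Dec {T : Subgroup Γ | IsWellPlaced p W (S : Subgroup Γ) T}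
      (Subgroup.zpowers x) h⁻¹ := by
    apply alperin_dec S _ (fun U hU => hU.1) _ _ _ hAS
    · show (Subgroup.zpowers x).map (MulAut.conj h⁻¹⁻¹).toMonoidHom ≤ _
      rw [inv_inv, MonoidHom.map_zpowers, Subgroup.zpowers_le]
      exact hhS
    · intro T hT
      obtain ⟨k, hk⟩ := exists_isWellPlaced S hW T hT
      exact ⟨_, hk, ⟨k, rfl⟩, hk.2 0⟩
  obtain ⟨l, hl, hprod⟩ := hdec
  obtain ⟨T₀, hT₀, n₀, hn₀, hxT₀, hn₀x⟩ := first_move_elt hl x (Subgroup.mem_zpowers x)
    (by rw [hprod, inv_inv]; exact hne)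
  -- Step 2: choose `T` with `N_S(T)` of largest order
  let 𝒯 : Set (Subgroup Γ) := {T | IsWellPlaced p W (S : Subgroup Γ) T ∧ x ∈ T ∧
    ∃ n ∈ Subgroup.normalizer (T : Set Γ), n * x * n⁻¹ ≠ x}
  have h𝒯ne : 𝒯.Nonempty := ⟨T₀, hT₀, hxT₀, n₀, hn₀, hn₀x⟩
  obtain ⟨T, hT𝒯, hTmax⟩ := Set.exists_max_image 𝒯
    (fun T => Nat.card (NS (S : Subgroup Γ) T)) (Set.toFinite 𝒯) h𝒯ne
  obtain ⟨hwp, hxT, n, hn, hnx⟩ := hT𝒯
  have hNp : IsPGroup p (NS (S : Subgroup Γ) T) := hS.to_le inf_le_left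
  have hxNS : x ∈ NS (S : Subgroup Γ) T := le_NS hwp.1 hxT
  have hcent : ∀ y ∈ Subgroup.normalizer ((W (NS (S : Subgroup Γ) T) : Subgroup Γ) : Set Γ),
      y * x * y⁻¹ = x := by
    intro y hy
    by_contra hyx
    have hxW : x ∈ W (NS (S : Subgroup Γ) T) := by
      apply hWZ _ hNp
      refine ⟨hxNS, ?_⟩
      exact Subgroup.centralizer_le (by
        exact_mod_cast (inf_le_left : NS (S : Subgroup Γ) T ≤ (S : Subgroup Γ))) hxZ
    have hT1 : W (NS (S : Subgroup Γ) T) ∈ 𝒯 :=
      ⟨wellPlaced_shift hW hS hwp, hxW, y, hy, hyx⟩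
    have hle := hTmax _ hT1
    by_cases hN : NS (S : Subgroup Γ) T = (S : Subgroup Γ)
    · rw [hN] at hy
      apply hyx
      rw [hxN y hy]
      group
    · have := card_NS_lt hW hS hN
      have hle' : Nat.card (NS (S : Subgroup Γ) (W (NS (S : Subgroup Γ) T))) ≤
          Nat.card (NS (S : Subgroup Γ) T) := hle
      omega
  -- Step 3: `T` is normal
  have hNT : Subgroup.normalizer (T : Set Γ) = ⊤ := by
    by_contra hNT
    have hsyl := wellPlaced_isSylIn hS hwp
    have hwc := ih _ _ hNT hsyl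
    have h1 : n * x * n⁻¹ ∈ NS (S : Subgroup Γ) T :=
      le_NS hwp.1 ((Subgroup.mem_normalizer_iff.mp hn x).mp hxT)
    refine hnx (hwc x ⟨hxNS, Subgroup.mem_centralizer_iff.mpr ?_⟩ n hn h1)
    intro y hy
    have h2 := hcent y hy.2
    calc y * x = (y * x * y⁻¹) * y := by group
      _ = x * y := by rw [h2]
  have hTn : T.Normal := Subgroup.normalizer_eq_top_iff.mp hNT
  have hPn := pCore_normal p Γ
  have hPp := pCore_isPGroup p Γ
  have hPS : pCore p Γ ≤ (S : Subgroup Γ) := pCore_le_sylow S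
  have hTP : T ≤ pCore p Γ := le_pCore hTn (hS.to_le hwp.1)
  have hxP : x ∈ pCore p Γ := hTP hxT
  have hxZP : x ∈ Subgroup.centralizer ((pCore p Γ : Subgroup Γ) : Set Γ) :=
    Subgroup.centralizer_le (by exact_mod_cast hPS) hxZ
  have hWn : ¬ (W (S : Subgroup Γ)).Normal := by
    intro hWn
    apply hne
    have h1 : h ∈ Subgroup.normalizer ((W (S : Subgroup Γ) : Subgroup Γ) : Set Γ) := by
      rw [Subgroup.normalizer_eq_top_iff.mpr hWn]; exact Subgroup.mem_top h
    rw [hxN h h1]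
    group
  -- the centralizer of `x` is the unique maximal subgroup containing `S`
  obtain ⟨M, hM⟩ : ∃ M : Subgroup Γ, M = Subgroup.centralizer ({x} : Set Γ) := ⟨_, rfl⟩
  have hMmem : ∀ m : Γ, m ∈ M ↔ m * x * m⁻¹ = x := by
    intro m
    rw [hM, Subgroup.mem_centralizer_iff]
    constructor
    · intro h1
      have h2 := h1 x (Set.mem_singleton x)
      rw [← h2]
      group
    · intro h1 y hy
      rw [Set.mem_singleton_iff] at hy
      subst hy
      calc y * m = (m * y * m⁻¹) * m := by rw [h1]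
        _ = m * y := by group
  have hSM : (S : Subgroup Γ) ≤ M := by
    intro s hs
    rw [hMmem]
    have h1 := Subgroup.mem_centralizer_iff.mp hxZ s hs
    rw [h1]
    group
  have hHM : ∀ H : Subgroup Γ, H ≠ ⊤ → (S : Subgroup Γ) ≤ H → H ≤ M := by
    intro H hH hSH k hk
    rw [hMmem]
    have hsyl : IsSylIn p (S : Subgroup Γ) H := ⟨hSH, hS, sylow_not_dvd_relIndex S hSH⟩
    refine ih H _ hH hsyl x ⟨hxS, Subgroup.mem_centralizer_iff.mpr ?_⟩ k hk ?_
    · intro y hy
      exact hxN y hy.2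
    · exact hPS (hPn.conj_mem x hxP k)
  exact hne (hEnd x hxP hxZ hWn (by rw [← hM]; exact hHM) h)

end core

section main

variable {G : Type*} [Group G] [Finite G] {p : ℕ} [Fact p.Prime]

/-- **Control of weak closure of elements from a local endgame.** -/
theorem controls_weak_closure_gen (W : Subgroup G → Subgroup G)
    (hW : IsConjugacyFunctor p W)
    (hWZ : ∀ P : Subgroup G, IsPGroup p ↥P → P ⊓ Subgroup.centralizer (P : Set G) ≤ W P)
    (hloc : ∀ (H : Subgroup G) (S : Sylow p ↥H) (x : ↥H), x ∈ pCore p ↥H →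
      x ∈ Subgroup.centralizer ((S : Subgroup ↥H) : Set ↥H) →
      ¬ (resF W H (S : Subgroup ↥H)).Normal →
      (∀ K : Subgroup ↥H, K ≠ ⊤ → (S : Subgroup ↥H) ≤ K →
        K ≤ Subgroup.centralizer ({x} : Set ↥H)) →
      ∀ γ : ↥H, γ * x * γ⁻¹ = x) :
    ∀ H : Subgroup G, ControlsWeakClosureOfElementsIn p W H := by
  intro H
  generalize hn : Nat.card H = n
  induction n using Nat.strong_induction_on generalizing H with
  | _ n ih =>
  have hinj : Function.Injective H.subtype := H.subtype_injective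
  have hW' := isConjugacyFunctor_resF hW H
  obtain ⟨S⟩ : Nonempty (Sylow p ↥H) := inferInstance
  have hSp : IsPGroup p (S : Subgroup ↥H) := S.2
  have hsyl : IsSylIn p ((S : Subgroup ↥H).map H.subtype) H := sylow_isSylIn S
  have key : WCAt (resF W H) ⊤ (S : Subgroup ↥H) := by
    refine wc_core_gen (resF W H) hW' (resF_center_le hW hWZ H) ?_ S (hloc H S)
    intro K T hK hT
    rw [wcAt_res_iff hW H K T hT.2.1]
    refine WCAt.of_controls hW (ih (Nat.card (K.map H.subtype)) ?_ _ rfl)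
      (isSylIn_map_subtype H hT)
    rw [Subgroup.card_map_of_injective hinj, ← hn]
    have h2 : Nat.card K < Nat.card (⊤ : Subgroup ↥H) :=
      card_lt_card_of_lt (lt_top_iff_ne_top.mpr hK)
    rwa [Subgroup.card_top] at h2
  have key2 := (wcAt_res_iff hW H ⊤ (S : Subgroup ↥H) hSp).mp key
  have htop : (⊤ : Subgroup ↥H).map H.subtype = H := by
    rw [← MonoidHom.range_eq_map, Subgroup.range_subtype]
  rw [htop] at key2
  exact ⟨hWZ, _, hsyl.1, hsyl.2.1, hsyl.2.2, key2⟩

end main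

end Cfsg.Agent.Lib.helper52
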