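import Cfsg.Agent.Lib.helper39.WeakClosureMain
import Cfsg.Agent.Lib.helper51.TRepl

/-!
# The Thompson subgroup `J` (abelian version) as a conjugacy functor, and a quadratic element

* `isConjugacyFunctor_thompsonA`, `center_le_thompsonA`: `J` is a conjugacy functor containing
  the centre.
* `resF_thompsonA`: its restriction to a subgroup is `J` again.
* `mem_of_commute_famE`: an element centralizing a member of `𝒜(T)` lies in it.
* `quad_loc`: if `J(T)` is not normal in `H` (`T` a Sylow `p`-subgroup of `H`), some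
  `g ∈ T` outside `O_p(H)` satisfies `[Z(O_p(H)), g, g] = 1` (Thompson replacement).
-/

set_option autoImplicit false

namespace Cfsg.Agent.Lib.helper52

open Cfsg
open Cfsg.Agent.Lib.helper39 Cfsg.Agent.Lib.helper14

section basicJ

variable {G : Type*} [Group G] [Finite G]

/-- An element of `T` centralizing a member of `𝒜(T)` lies in it. -/
theorem mem_of_commute_famE {T A : Subgroup G} (hA : A ∈ famE 0 T) {z : G} (hzT : z ∈ T)
    (hz : ∀ a ∈ A, a * z = z * a) : z ∈ A := by
  have hcomm : IsMulCommutative ↥(A ⊔ Subgroup.zpowers z) := by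
    apply Cfsg.Agent.S0650.sup_isMulCommutative A (Subgroup.zpowers z) hA.2.1.1 inferInstance
    intro h hh k hk
    obtain ⟨i, rfl⟩ := Subgroup.mem_zpowers_iff.mp hk
    exact (show Commute h z from hz h hh).zpow_right i
  have hle : A ⊔ Subgroup.zpowers z ≤ T := sup_le hA.1 ((Subgroup.zpowers_le).mpr hzT)
  have hcard := hA.2.2 _ hle ⟨hcomm, fun a _ => pow_zero a⟩
  have heq := Subgroup.eq_of_le_of_card_ge (le_sup_left : A ≤ A ⊔ Subgroup.zpowers z) hcard
  rw [heq]
  exact Subgroup.mem_sup_right (Subgroup.mem_zpowers z)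

/-- A subgroup of `T` centralizing a member of `𝒜(T)` lies in it. -/
theorem le_of_commute_famE {T A B : Subgroup G} (hA : A ∈ famE 0 T) (hBT : B ≤ T)
    (hB : ∀ b ∈ B, ∀ a ∈ A, a * b = b * a) : B ≤ A :=
  fun b hb => mem_of_commute_famE hA (hBT hb) (fun a ha => hB b hb a ha)

theorem center_le_thompsonA (P : Subgroup G) :
    P ⊓ Subgroup.centralizer (P : Set G) ≤ Cfsg.thompsonSubgroupAOf P := by
  intro z hz
  obtain ⟨A, hA⟩ := famE_nonempty 0 P
  apply Cfsg.Agent.Lib.helper51.le_thompsonA hA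
  apply mem_of_commute_famE hA hz.1
  intro a ha
  exact Subgroup.mem_centralizer_iff.mp hz.2 a (hA.1 ha)

theorem isConjugacyFunctor_thompsonA (p : ℕ) :
    IsConjugacyFunctor p (fun P : Subgroup G => Cfsg.thompsonSubgroupAOf P) := by
  intro P _
  refine ⟨Cfsg.Agent.Lib.helper51.thompsonA_le P, fun hne =>
    Cfsg.Agent.Lib.helper51.thompsonA_ne_bot hne, fun g =>
    Cfsg.Agent.Lib.helper51.thompsonA_map_conj P g⟩

omit [Finite G] in
theorem resF_thompsonA (H : Subgroup G) (S : Subgroup ↥H) :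
    resF (fun P : Subgroup G => Cfsg.thompsonSubgroupAOf P) H S = Cfsg.thompsonSubgroupAOf S := by
  show (Cfsg.thompsonSubgroupAOf (S.map H.subtype)).subgroupOf H = _
  rw [Cfsg.Agent.Lib.helper51.thompsonA_map_of_injOn H.subtype S (fun x _ hx => by
    apply Subtype.ext
    exact hx)]
  exact Subgroup.comap_map_eq_self_of_injective H.subtype_injective _

end basicJ

section quad

variable {G : Type*} [Group G] [Finite G] {p : ℕ} [Fact p.Prime]

open scoped commutatorElement

/-- **A quadratic element.** Let `T` be a Sylow `p`-subgroup of `H` with `J(T)` not normal in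
`H`.  Then some `g ∈ T` outside `O_p(H)` satisfies `[Z(O_p(H)), g, g] = 1`. -/
theorem quad_loc (H T : Subgroup G) (hTH : T ≤ H) (hT : IsPGroup p ↥T)
    (hsyl : ¬ p ∣ T.relIndex H)
    (hnot : ¬ H ≤ Subgroup.normalizer ((Cfsg.thompsonSubgroupAOf T : Subgroup G) : Set G)) :
    ∃ g : G, g ∈ T ∧ g ∉ Cfsg.pCoreOf p H ∧
      ⁅⁅Cfsg.pCoreOf p H ⊓ Subgroup.centralizer ((Cfsg.pCoreOf p H : Subgroup G) : Set G),
        Subgroup.zpowers g⁆, Subgroup.zpowers g⁆ = ⊥ := by
  have hs : IsSylIn p T H := ⟨hTH, hT, hsyl⟩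
  have hQT : Cfsg.pCoreOf p H ≤ T := by
    have h1 : pCore p ↥H ≤ ((hs.toSylow : Sylow p ↥H) : Subgroup ↥H) := pCore_le_sylow _
    rw [IsSylIn.coe_toSylow] at h1
    have h2 := Subgroup.map_mono (f := H.subtype) h1
    rwa [Subgroup.map_subgroupOf_eq_of_le hTH] at h2
  have hQn : H ≤ Subgroup.normalizer ((Cfsg.pCoreOf p H : Subgroup G) : Set G) :=
    Cfsg.Agent.Lib.helper53.le_normalizer_pCoreOf p H
  -- some member of `𝒜(T)` is not contained in `O_p(H)`
  have hex : ∃ A ∈ famE 0 T, ¬ A ≤ Cfsg.pCoreOf p H := by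
    by_contra hcon
    push Not at hcon
    apply hnot
    intro h hh
    apply Cfsg.Agent.Lib.helper53.mem_normalizer_of_conj_le
    rw [Cfsg.Agent.Lib.helper51.thompsonA_eq_sSup]
    rw [Subgroup.map_le_iff_le_comap, sSup_le_iff]
    intro A hA
    rw [← Subgroup.map_le_iff_le_comap]
    apply le_sSup
    refine ⟨?_, goodE_map hA.2.1 _, fun B hB hBg => ?_⟩
    · rintro _ ⟨a, ha, rfl⟩
      apply hQT
      exact (Subgroup.mem_normalizer_iff.mp (hQn hh) a).mp (hcon A hA ha)
    · rw [Subgroup.card_map_of_injective (MulAut.conj h).injective]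
      exact hA.2.2 B hB hBg
  -- Thompson replacement
  have hWT : Cfsg.pCoreOf p H ⊓ Subgroup.centralizer ((Cfsg.pCoreOf p H : Subgroup G) : Set G)
      ≤ T := inf_le_left.trans hQT
  have hWn : T ≤ Subgroup.normalizer ((Cfsg.pCoreOf p H ⊓
      Subgroup.centralizer ((Cfsg.pCoreOf p H : Subgroup G) : Set G) : Subgroup G) : Set G) :=
    fun t ht => Cfsg.Agent.Lib.helper51.normalizer_le_normalizer_zOf _ (hQn (hTH ht))
  obtain ⟨A, hA, hAQ, hWA⟩ := Cfsg.Agent.Lib.helper51.exists_normalized_A T hT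
    (Cfsg.pCoreOf p H)
    (Cfsg.pCoreOf p H ⊓ Subgroup.centralizer ((Cfsg.pCoreOf p H : Subgroup G) : Set G))
    hWT hWn
    (fun a ha b hb => Subgroup.mem_centralizer_iff.mp hb.2 a ha.1)
    (fun h hh w hw => (Subgroup.mem_centralizer_iff.mp hw.2 h hh).symm) hex
  obtain ⟨g, hgA, hgQ⟩ := SetLike.not_le_iff_exists.mp hAQ
  refine ⟨g, hA.1 hgA, hgQ, ?_⟩
  have hzA : Subgroup.zpowers g ≤ A := Subgroup.zpowers_le.mpr hgA
  have h1 : ⁅Cfsg.pCoreOf p H ⊓ Subgroup.centralizer ((Cfsg.pCoreOf p H : Subgroup G) : Set G),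
      Subgroup.zpowers g⁆ ≤ A := by
    rw [Subgroup.commutator_le]
    intro w hw k hk
    have h2 := (Subgroup.mem_normalizer_iff.mp (hWA hw) k).mp (hzA hk)
    rw [commutatorElement_def]
    exact A.mul_mem h2 (A.inv_mem (hzA hk))
  rw [eq_bot_iff]
  calc ⁅⁅Cfsg.pCoreOf p H ⊓ Subgroup.centralizer ((Cfsg.pCoreOf p H : Subgroup G) : Set G),
        Subgroup.zpowers g⁆, Subgroup.zpowers g⁆ ≤ ⁅A, A⁆ := Subgroup.commutator_mono h1 hzA
    _ = ⊥ := by
      rw [Subgroup.commutator_eq_bot_iff_le_centralizer]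
      intro a ha
      rw [Subgroup.mem_centralizer_iff]
      intro b hb
      exact goodE_commute hA.2.1 hb ha

end quad

end Cfsg.Agent.Lib.helper52
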