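import Cfsg.Agent.Lib.helper51.TEven2
import Cfsg.Agent.Lib.helper51.S4Crit
import Cfsg.Agent.S0200

/-!
# Transvections on a normal abelian subgroup give `S₄`

Let `V` be an abelian normal subgroup of the finite group `Γ` and `a ∈ Γ` an element with
`a² ∈ C(V)` acting on `V` as a transvection: `a v a⁻¹ ∈ {v, c v}` for a fixed involution `c`.
If the image of `a` in `Γ / C(V)` lies in no normal `2`-subgroup, then `S₄` is involved in `Γ`
(`involves_s4_of_transvection`).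
-/

set_option autoImplicit false

namespace Cfsg.Agent.Lib.helper52

open Cfsg

section aux

variable {Γ : Type*} [Group Γ]

/-- the subgroup `{1, c, c', c c'}` generated by two commuting involutions -/
def fourSub (c c' : Γ) (h1 : c ^ 2 = 1) (h2 : c' ^ 2 = 1) (h3 : c * c' = c' * c) :
    Subgroup Γ where
  carrier := {t | t = 1 ∨ t = c ∨ t = c' ∨ t = c * c'}
  mul_mem' := by
    have e1 : c * c = 1 := by rw [← pow_two]; exact h1
    have e2 : c' * c' = 1 := by rw [← pow_two]; exact h2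
    rintro a b (rfl | rfl | rfl | rfl) (rfl | rfl | rfl | rfl)
    · left; rw [mul_one]
    · right; left; rw [one_mul]
    · right; right; left; rw [one_mul]
    · right; right; right; rw [one_mul]
    · right; left; rw [mul_one]
    · left; exact e1
    · right; right; right; rfl
    · right; right; left; rw [← mul_assoc, e1, one_mul]
    · right; right; left; rw [mul_one]
    · right; right; right; exact h3.symm
    · left; exact e2
    · right; left; rw [← mul_assoc, ← h3, mul_assoc, e2, mul_one]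
    · right; right; right; rw [mul_one]
    · right; right; left; rw [mul_assoc, ← h3, ← mul_assoc, e1, one_mul]
    · right; left; rw [mul_assoc, e2, mul_one]
    · left
      calc c * c' * (c * c') = c * (c' * c) * c' := by group
        _ = c * (c * c') * c' := by rw [← h3]
        _ = (c * c) * (c' * c') := by group
        _ = 1 := by rw [e1, e2, one_mul]
  one_mem' := Or.inl rfl
  inv_mem' := by
    have e1 : c⁻¹ = c := by
      rw [inv_eq_iff_mul_eq_one, ← pow_two]; exact h1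
    have e2 : c'⁻¹ = c' := by
      rw [inv_eq_iff_mul_eq_one, ← pow_two]; exact h2
    rintro a (rfl | rfl | rfl | rfl)
    · left; exact inv_one
    · right; left; exact e1
    · right; right; left; exact e2
    · right; right; right; rw [mul_inv_rev, e1, e2]; exact h3.symm

theorem mem_fourSub {c c' : Γ} {h1 : c ^ 2 = 1} {h2 : c' ^ 2 = 1} {h3 : c * c' = c' * c}
    {t : Γ} : t ∈ fourSub c c' h1 h2 h3 ↔ t = 1 ∨ t = c ∨ t = c' ∨ t = c * c' := Iff.rfl

theorem fourSub_sq {c c' : Γ} (h1 : c ^ 2 = 1) (h2 : c' ^ 2 = 1) (h3 : c * c' = c' * c) :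
    ∀ t ∈ fourSub c c' h1 h2 h3, t ^ 2 = 1 := by
  rintro t (rfl | rfl | rfl | rfl)
  · exact one_pow 2
  · exact h1
  · exact h2
  · rw [(show Commute c c' from h3).mul_pow, h1, h2, one_mul]

theorem card_fourSub_le {c c' : Γ} (h1 : c ^ 2 = 1) (h2 : c' ^ 2 = 1) (h3 : c * c' = c' * c) :
    Nat.card ↥(fourSub c c' h1 h2 h3) ≤ 4 := by
  classical
  have hsub : ((fourSub c c' h1 h2 h3 : Subgroup Γ) : Set Γ) ⊆
      (({1, c, c', c * c'} : Finset Γ) : Set Γ) := by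
    intro t ht
    have ht' : t = 1 ∨ t = c ∨ t = c' ∨ t = c * c' := ht
    simp only [Finset.coe_insert, Finset.coe_singleton, Set.mem_insert_iff,
      Set.mem_singleton_iff]
    exact ht'
  calc Nat.card ↥(fourSub c c' h1 h2 h3)
      = ((fourSub c c' h1 h2 h3 : Subgroup Γ) : Set Γ).ncard := (Nat.card_coe_set_eq _)
    _ ≤ ((({1, c, c', c * c'} : Finset Γ) : Set Γ)).ncard :=
        Set.ncard_le_ncard hsub (Finset.finite_toSet _)
    _ = ({1, c, c', c * c'} : Finset Γ).card := Set.ncard_coe_finset _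
    _ ≤ 4 := Finset.card_le_four

/-- the elements normalizing `T` and acting trivially on `V` modulo `T` -/
def actSub (V T : Subgroup Γ) [hVn : V.Normal] : Subgroup Γ where
  carrier := {g | g ∈ Subgroup.normalizer (T : Set Γ) ∧ ∀ v ∈ V, g * v * g⁻¹ * v⁻¹ ∈ T}
  mul_mem' := by
    rintro g h ⟨hg, hgv⟩ ⟨hh, hhv⟩
    refine ⟨Subgroup.mul_mem _ hg hh, fun v hv => ?_⟩
    have h1 := hhv v hv
    have h2 := (Subgroup.mem_normalizer_iff.mp hg _).mp h1
    have h3 := hgv v hv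
    have e : g * h * v * (g * h)⁻¹ * v⁻¹ =
        (g * (h * v * h⁻¹ * v⁻¹) * g⁻¹) * (g * v * g⁻¹ * v⁻¹) := by group
    rw [e]
    exact T.mul_mem h2 h3
  one_mem' := ⟨Subgroup.one_mem _, fun v _ => by
    have e : (1 : Γ) * v * 1⁻¹ * v⁻¹ = 1 := by group
    rw [e]; exact T.one_mem⟩
  inv_mem' := by
    rintro g ⟨hg, hgv⟩
    refine ⟨Subgroup.inv_mem _ hg, fun v hv => ?_⟩
    have hv' : g⁻¹ * v * g ∈ V := by
      have := hVn.conj_mem v hv g⁻¹
      rwa [inv_inv] at this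
    have h1 := hgv _ hv'
    have e : g * (g⁻¹ * v * g) * g⁻¹ * (g⁻¹ * v * g)⁻¹ = (g⁻¹ * v * g⁻¹⁻¹ * v⁻¹)⁻¹ := by group
    rw [e] at h1
    exact T.inv_mem_iff.mp h1

theorem mem_actSub {V T : Subgroup Γ} [V.Normal] {g : Γ} : g ∈ actSub V T ↔
    g ∈ Subgroup.normalizer (T : Set Γ) ∧ ∀ v ∈ V, g * v * g⁻¹ * v⁻¹ ∈ T := Iff.rfl

theorem mem_actSub_of_transv [Finite Γ] {V T : Subgroup Γ} [V.Normal] (hTV : T ≤ V)
    {a c₁ : Γ} (hc₁ : c₁ ∈ T) (hav : ∀ v ∈ V, a * v * a⁻¹ = v ∨ a * v * a⁻¹ = c₁ * v) :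
    a ∈ actSub V T := by
  refine ⟨Cfsg.Agent.Lib.helper51.mem_normalizer_of_forall_conj_mem T a ?_, ?_⟩
  · intro t ht
    rcases hav t (hTV ht) with h | h
    · rw [h]; exact ht
    · rw [h]; exact T.mul_mem hc₁ ht
  · intro v hv
    rcases hav v hv with h | h
    · rw [h, mul_inv_cancel]; exact T.one_mem
    · rw [h, mul_inv_cancel_right]; exact hc₁

/-- the elements commuting with `c` on which `a` acts trivially or as multiplication by `c` -/
def transvSub (a c : Γ) (hc2 : c ^ 2 = 1) : Subgroup Γ where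
  carrier := {g | g * c = c * g ∧ (a * g * a⁻¹ = g ∨ a * g * a⁻¹ = c * g)}
  mul_mem' := by
    have e1 : c * c = 1 := by rw [← pow_two]; exact hc2
    rintro g h ⟨hg, hga⟩ ⟨hh, hha⟩
    have e : a * (g * h) * a⁻¹ = (a * g * a⁻¹) * (a * h * a⁻¹) := by group
    refine ⟨by rw [mul_assoc, hh, ← mul_assoc, hg, mul_assoc], ?_⟩
    rw [e]
    rcases hga with h1 | h1 <;> rcases hha with h2 | h2
    · left; rw [h1, h2]
    · right; rw [h1, h2, ← mul_assoc, hg, mul_assoc]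
    · right; rw [h1, h2, mul_assoc]
    · left
      rw [h1, h2]
      calc c * g * (c * h) = c * (g * c) * h := by group
        _ = c * (c * g) * h := by rw [hg]
        _ = (c * c) * (g * h) := by group
        _ = g * h := by rw [e1, one_mul]
  one_mem' := ⟨by rw [one_mul, mul_one], Or.inl (by group)⟩
  inv_mem' := by
    have e1 : c⁻¹ = c := by
      rw [inv_eq_iff_mul_eq_one, ← pow_two]; exact hc2
    rintro g ⟨hg, hga⟩
    have hg' : g⁻¹ * c = c * g⁻¹ := (show Commute g c from hg).inv_left.eq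
    refine ⟨hg', ?_⟩
    have e : a * g⁻¹ * a⁻¹ = (a * g * a⁻¹)⁻¹ := by group
    rw [e]
    rcases hga with h1 | h1
    · left; rw [h1]
    · right; rw [h1, mul_inv_rev, e1, hg']

theorem mem_transvSub {a c : Γ} {hc2 : c ^ 2 = 1} {g : Γ} : g ∈ transvSub a c hc2 ↔
    g * c = c * g ∧ (a * g * a⁻¹ = g ∨ a * g * a⁻¹ = c * g) := Iff.rfl

end aux


section s4

variable {Γ : Type*} [Group Γ] [Finite Γ]

/-- **Transvections give `S₄`.** -/
theorem involves_s4_of_transvection (V : Subgroup Γ) [hVn : V.Normal]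
    (hVc : ∀ u ∈ V, ∀ v ∈ V, u * v = v * u)
    (a c : Γ) (hcV : c ∈ V) (hc2 : c ^ 2 = 1)
    (hav : ∀ v ∈ V, a * v * a⁻¹ = v ∨ a * v * a⁻¹ = c * v)
    (haR : a ∉ Subgroup.centralizer (V : Set Γ))
    (ha2 : a ^ 2 ∈ Subgroup.centralizer (V : Set Γ))
    (hO : ∀ N : Subgroup (Γ ⧸ Subgroup.centralizer (V : Set Γ)), N.Normal → IsPGroup 2 N →
      ((a : Γ) : Γ ⧸ Subgroup.centralizer (V : Set Γ)) ∉ N) :
    Cfsg.Involves (Equiv.Perm (Fin 4)) Γ := by
  classical
  have hp2 : Fact (Nat.Prime 2) := ⟨Nat.prime_two⟩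
  set R : Subgroup Γ := Subgroup.centralizer (V : Set Γ) with hR
  set π : Γ →* Γ ⧸ R := QuotientGroup.mk' R with hπ
  have hπ1 : ∀ g : Γ, π g = 1 ↔ g ∈ R := fun g => by
    rw [hπ, QuotientGroup.mk'_apply, QuotientGroup.eq_one_iff]
  have ht : orderOf (π a) = 2 := by
    apply orderOf_eq_prime
    · rw [← map_pow]; exact (hπ1 _).mpr ha2
    · intro h1; exact haR ((hπ1 a).mp h1)
  obtain ⟨hb, hb1, hbodd, hbinv⟩ := Cfsg.Agent.S0200.result (π a) ht
    (fun N hN hp => hO N hN hp)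
  obtain ⟨h₀, rfl⟩ := QuotientGroup.mk'_surjective R hb
  have hh1 : π h₀ ≠ 1 := hb1
  have hbodd' : Odd (orderOf (π h₀)) := hbodd
  have hbinv' : π a * π h₀ * (π a)⁻¹ = (π h₀)⁻¹ := hbinv
  have hc'V : h₀ * c * h₀⁻¹ ∈ V := hVn.conj_mem c hcV h₀
  have hc'2 : (h₀ * c * h₀⁻¹) ^ 2 = 1 := by rw [conj_pow, hc2]; group
  have hcc' : c * (h₀ * c * h₀⁻¹) = (h₀ * c * h₀⁻¹) * c := hVc _ hcV _ hc'V
  set T := fourSub c (h₀ * c * h₀⁻¹) hc2 hc'2 hcc' with hT
  have hcT : c ∈ T := Or.inr (Or.inl rfl)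
  have hc'T : h₀ * c * h₀⁻¹ ∈ T := Or.inr (Or.inr (Or.inl rfl))
  have hTV : T ≤ V := by
    intro t ht
    rcases ht with h | h | h | h <;> rw [h]
    · exact V.one_mem
    · exact hcV
    · exact hc'V
    · exact V.mul_mem hcV hc'V
  have hTsq : ∀ t ∈ T, t ^ 2 = 1 := fourSub_sq hc2 hc'2 hcc'
  have haK : a ∈ actSub V T := mem_actSub_of_transv hTV hcT hav
  have hbv : ∀ v ∈ V, (h₀ * a * h₀⁻¹) * v * (h₀ * a * h₀⁻¹)⁻¹ = v ∨
      (h₀ * a * h₀⁻¹) * v * (h₀ * a * h₀⁻¹)⁻¹ = (h₀ * c * h₀⁻¹) * v := by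
    intro v hv
    have hv1 : h₀⁻¹ * v * h₀ ∈ V := by
      have := hVn.conj_mem v hv h₀⁻¹
      rwa [inv_inv] at this
    have e : (h₀ * a * h₀⁻¹) * v * (h₀ * a * h₀⁻¹)⁻¹ =
        h₀ * (a * (h₀⁻¹ * v * h₀) * a⁻¹) * h₀⁻¹ := by group
    rw [e]
    rcases hav _ hv1 with h | h
    · left; rw [h]; group
    · right; rw [h]; group
  have hbK : h₀ * a * h₀⁻¹ ∈ actSub V T := mem_actSub_of_transv hTV hc'T hbv
  have hRK : R ≤ actSub V T := by
    intro r hr
    apply mem_actSub_of_transv hTV T.one_mem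
    intro v hv
    left
    have h1 := Subgroup.mem_centralizer_iff.mp hr v hv
    rw [← h1]; group
  -- the odd-order element
  have hy₀ : π (h₀ * a * h₀⁻¹ * a⁻¹) = π h₀ ^ 2 := by
    have h1 : π a * (π h₀)⁻¹ * (π a)⁻¹ = π h₀ := by
      calc π a * (π h₀)⁻¹ * (π a)⁻¹ = (π a * π h₀ * (π a)⁻¹)⁻¹ := by group
        _ = π h₀ := by rw [hbinv', inv_inv]
    rw [map_mul, map_mul, map_mul, map_inv, map_inv]
    calc π h₀ * π a * (π h₀)⁻¹ * (π a)⁻¹ = π h₀ * (π a * (π h₀)⁻¹ * (π a)⁻¹) := by group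
      _ = π h₀ ^ 2 := by rw [h1, pow_two]
  obtain ⟨y, ⟨m, hm, hym⟩, hyπ⟩ := Cfsg.Agent.Lib.helper51.exists_odd_pow_lift π
    (h₀ * a * h₀⁻¹ * a⁻¹) hbodd'
    (by rw [hy₀, ← pow_mul, mul_comm, pow_mul, pow_orderOf_eq_one, one_pow])
  rw [hy₀] at hyπ
  have hyK : y ∈ actSub V T := by
    have h1 : (h₀ * a * h₀⁻¹ * a⁻¹)⁻¹ * y ∈ R := by
      rw [← hπ1, map_mul, map_inv, hy₀, hyπ, inv_mul_cancel]
    have h2 : y = (h₀ * a * h₀⁻¹) * a⁻¹ * ((h₀ * a * h₀⁻¹ * a⁻¹)⁻¹ * y) := by group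
    rw [h2]
    exact (actSub V T).mul_mem ((actSub V T).mul_mem hbK ((actSub V T).inv_mem haK)) (hRK h1)
  have hyR : y ∉ R := by
    intro hy
    have h1 : π h₀ ^ 2 = 1 := by rw [← hyπ]; exact (hπ1 y).mpr hy
    have h2 : orderOf (π h₀) ∣ 2 := orderOf_dvd_of_pow_eq_one h1
    have h3 : orderOf (π h₀) = 1 := by
      rcases (Nat.dvd_prime Nat.prime_two).mp h2 with h | h
      · exact h
      · rw [h] at hbodd'; exact absurd hbodd' (by decide)
    exact hh1 (orderOf_eq_one_iff.mp h3)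
  -- `y` does not centralize `T`
  have hyT : ∃ t ∈ T, y * t * y⁻¹ ≠ t := by
    by_contra hcon
    push Not at hcon
    apply hyR
    rw [hR, Subgroup.mem_centralizer_iff]
    intro v hv
    have hd := hyK.2 v hv
    have h1 : y * v * y⁻¹ = (y * v * y⁻¹ * v⁻¹) * v := by group
    have h2 : y * (y * v * y⁻¹ * v⁻¹) = (y * v * y⁻¹ * v⁻¹) * y := by
      have h0 := hcon _ hd
      calc y * (y * v * y⁻¹ * v⁻¹) = (y * (y * v * y⁻¹ * v⁻¹) * y⁻¹) * y := by group
        _ = _ := by rw [h0]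
    have h3 := Cfsg.Agent.Lib.helper51.pow_eq_one_of_conj_eq_mul h1 h2 hym
    have h4 := Cfsg.Agent.Lib.helper51.eq_one_of_sq_of_odd_pow (hTsq _ hd) hm h3
    rw [h4, one_mul] at h1
    calc v * y = (y * v * y⁻¹) * y := by rw [h1]
      _ = y * v := by group
  -- `a` inverts `y` modulo `R`
  have hay : a * y * a⁻¹ * y ∈ R := by
    rw [← hπ1, map_mul, map_mul, map_mul, map_inv, hyπ]
    have h1 : π a * π h₀ ^ 2 * (π a)⁻¹ = (π h₀ ^ 2)⁻¹ := by
      rw [← conj_pow, hbinv', inv_pow]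
    rw [h1, inv_mul_cancel]
  -- apply the criterion in `N(T)`
  have hTle : T ≤ Subgroup.normalizer (T : Set Γ) := Subgroup.le_normalizer
  have hTn : (T.subgroupOf (Subgroup.normalizer (T : Set Γ))).Normal :=
    Subgroup.normal_in_normalizer
  have hyN : y ∈ Subgroup.normalizer (T : Set Γ) := hyK.1
  have haN : a ∈ Subgroup.normalizer (T : Set Γ) := haK.1
  have hT2 : ∀ t ∈ T.subgroupOf (Subgroup.normalizer (T : Set Γ)), t ^ 2 = 1 := by
    intro t ht
    apply Subtype.ext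
    rw [Subgroup.coe_pow]
    exact hTsq _ (Subgroup.mem_subgroupOf.mp ht)
  have hT4 : Nat.card ↥(T.subgroupOf (Subgroup.normalizer (T : Set Γ))) ≤ 4 := by
    have h1 : Nat.card ↥(T.subgroupOf (Subgroup.normalizer (T : Set Γ))) = Nat.card ↥T :=
      Nat.card_congr (Subgroup.subgroupOfEquivOfLe hTle).toEquiv
    rw [h1]
    exact card_fourSub_le hc2 hc'2 hcc'
  have hx : ∃ m : ℕ, Odd m ∧ (⟨y, hyN⟩ : ↥(Subgroup.normalizer (T : Set Γ))) ^ m = 1 :=
    ⟨m, hm, Subtype.ext (by simpa using hym)⟩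
  have hxT : ∃ t ∈ T.subgroupOf (Subgroup.normalizer (T : Set Γ)),
      (⟨y, hyN⟩ : ↥(Subgroup.normalizer (T : Set Γ))) * t *
        (⟨y, hyN⟩ : ↥(Subgroup.normalizer (T : Set Γ)))⁻¹ ≠ t := by
    obtain ⟨t, ht, hne⟩ := hyT
    refine ⟨⟨t, hTle ht⟩, Subgroup.mem_subgroupOf.mpr ht, ?_⟩
    intro h
    apply hne
    exact congrArg Subtype.val h
  have hax : (⟨a, haN⟩ : ↥(Subgroup.normalizer (T : Set Γ))) * ⟨y, hyN⟩ *
      (⟨a, haN⟩ : ↥(Subgroup.normalizer (T : Set Γ)))⁻¹ * ⟨y, hyN⟩ ∈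
      Subgroup.centralizer ((T.subgroupOf (Subgroup.normalizer (T : Set Γ)) :
        Subgroup ↥(Subgroup.normalizer (T : Set Γ))) : Set ↥(Subgroup.normalizer (T : Set Γ))) := by
    rw [Cfsg.Agent.Lib.helper51.mem_centralizer_subgroupOf_iff hTle]
    exact Subgroup.centralizer_le (by exact_mod_cast hTV) hay
  exact Cfsg.Agent.Lib.helper51.involves_of_involves_subgroup _
    (Cfsg.Agent.Lib.helper51.involves_s4_of_four_group _ hT2 hT4 ⟨y, hyN⟩ ⟨a, haN⟩ hx hxT hax)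

end s4

end Cfsg.Agent.Lib.helper52
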