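import Cfsg.Agent.Lib.helper52.WCTrace
import Cfsg.Agent.Lib.helper52.WCJ
import Cfsg.Agent.Lib.helper52.WCS4a
import Cfsg.Agent.Lib.helper52.PRedTools

/-!
# The endgame of Glauberman's weak closure theorem for `S₄`-free groups (`p = 2`)

`s4free_endgame`: let `S` be a Sylow `2`-subgroup of the `S₄`-free group `Γ`, `J(S)` not
normal, and `x ∈ O₂(Γ) ∩ Z(S)` an element centralized by every proper subgroup containing
`S`.  Then `x` is central.

The proof: among the members of `𝒜(S)` outside `O₂(Γ)` take those meeting `V = Z(O₂(Γ))` in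
a subgroup of largest order.  By Thompson's replacement theorem they are normalized by `V`;
an orbit of length `2` of such an `A` on the conjugates of `x` would give a transvection on
`V`, hence (Baer–Suzuki) either `S₄` or a normal subgroup contradicting the hypotheses.  So all
orbits have length divisible by `4` and the trace argument of `trace_two` applies.
-/

set_option autoImplicit false

namespace Cfsg.Agent.Lib.helper52

open Cfsg
open Cfsg.Agent.Lib.helper39 Cfsg.Agent.Lib.helper14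

section idx2

variable {Γ : Type*} [Group Γ] [Finite Γ]

/-- **From an orbit of length `2` to a transvection.** -/
theorem transv_of_index_two (S P V A : Subgroup Γ) [hVn : V.Normal] (hPS : P ≤ S) (hVP : V ≤ P)
    (hPV : ∀ q ∈ P, ∀ v ∈ V, q * v = v * q)
    (hA : A ∈ famE 0 S)
    (hmax : ∀ A' ∈ famE 0 S, ¬ A' ≤ P → Nat.card ↥(A' ⊓ V) ≤ Nat.card ↥(A ⊓ V))
    (hVA : V ≤ Subgroup.normalizer (A : Set Γ)) (x' : Γ) (hx' : x' ∈ V)
    (hidx : (A ⊓ Subgroup.centralizer ({x'} : Set Γ)).relIndex A = 2) :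
    ∃ a ∈ A, a ∉ P ∧ ∃ c ∈ V, c ^ 2 = 1 ∧
      (∀ v ∈ V, a * v * a⁻¹ = v ∨ a * v * a⁻¹ = c * v) ∧
      a ∉ Subgroup.centralizer (V : Set Γ) ∧ a ^ 2 ∈ Subgroup.centralizer (V : Set Γ) := by
  classical
  set B₀ : Subgroup Γ := A ⊓ Subgroup.centralizer ({x'} : Set Γ) with hB₀
  have hB₀A : B₀ ≤ A := inf_le_left
  have hAc : ∀ a ∈ A, ∀ b ∈ A, a * b = b * a := fun a ha b hb => goodE_commute hA.2.1 ha hb
  have hmemB : ∀ b : Γ, b ∈ B₀ ↔ b ∈ A ∧ b * x' = x' * b := by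
    intro b
    rw [hB₀, Subgroup.mem_inf, Subgroup.mem_centralizer_singleton_iff]
  have hidx' : (B₀.subgroupOf A).index = 2 := hidx
  obtain ⟨a, haA, haB⟩ : ∃ a ∈ A, a ∉ B₀ := by
    by_contra hcon
    push Not at hcon
    have h1 : B₀.relIndex A = 1 := Subgroup.relIndex_eq_one.mpr (fun a ha => hcon a ha)
    rw [h1] at hidx
    omega
  have ha2 : a ^ 2 ∈ B₀ := by
    have h1 := Subgroup.sq_mem_of_index_two hidx' (⟨a, haA⟩ : ↥A)
    have h2 := Subgroup.mem_subgroupOf.mp h1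
    simpa using h2
  have hcardA : Nat.card A = 2 * Nat.card B₀ := by
    have h1 := (B₀.subgroupOf A).card_mul_index
    rw [hidx'] at h1
    have h2 : Nat.card ↥(B₀.subgroupOf A) = Nat.card ↥B₀ :=
      Nat.card_congr (Subgroup.subgroupOfEquivOfLe hB₀A).toEquiv
    rw [h2] at h1
    omega
  have hx'A : x' ∉ A := by
    intro h
    apply haB
    exact (hmemB a).mpr ⟨haA, hAc a haA x' h⟩
  have hB₀x : ∀ b ∈ B₀, b * x' = x' * b := fun b hb => ((hmemB b).mp hb).2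
  have hcomm : IsMulCommutative ↥(B₀ ⊔ Subgroup.zpowers x') := by
    apply Cfsg.Agent.S0650.sup_isMulCommutative B₀ (Subgroup.zpowers x') ?_ inferInstance
    · intro h hh k hk
      obtain ⟨i, rfl⟩ := Subgroup.mem_zpowers_iff.mp hk
      exact (show Commute h x' from hB₀x h hh).zpow_right i
    · exact ⟨⟨fun u v => Subtype.ext (hAc u (hB₀A u.2) v (hB₀A v.2))⟩⟩
  have hA'S : B₀ ⊔ Subgroup.zpowers x' ≤ S :=
    sup_le (hB₀A.trans hA.1) (Subgroup.zpowers_le.mpr (hPS (hVP hx')))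
  have hx'A' : x' ∈ B₀ ⊔ Subgroup.zpowers x' :=
    Subgroup.mem_sup_right (Subgroup.mem_zpowers x')
  have hB₀lt : B₀ < B₀ ⊔ Subgroup.zpowers x' := by
    refine lt_of_le_of_ne le_sup_left (fun h => hx'A (hB₀A ?_))
    rw [h]; exact hx'A'
  have hcardA' : Nat.card A ≤ Nat.card ↥(B₀ ⊔ Subgroup.zpowers x') := by
    have h1 : Nat.card B₀ ∣ Nat.card ↥(B₀ ⊔ Subgroup.zpowers x') :=
      Subgroup.card_dvd_of_le le_sup_left
    have h2 : Nat.card B₀ < Nat.card ↥(B₀ ⊔ Subgroup.zpowers x') := card_lt_card_of_lt hB₀lt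
    obtain ⟨k, hk⟩ := h1
    have hk2 : 2 ≤ k := by
      by_contra hk2
      have h3 : k = 0 ∨ k = 1 := by omega
      rcases h3 with rfl | rfl
      · rw [mul_zero] at hk; omega
      · rw [mul_one] at hk; omega
    rw [hcardA, hk, mul_comm]
    exact Nat.mul_le_mul_left _ hk2
  have hA'fam : B₀ ⊔ Subgroup.zpowers x' ∈ famE 0 S :=
    ⟨hA'S, ⟨hcomm, fun a _ => pow_zero a⟩, fun B hB hBg => (hA.2.2 B hB hBg).trans hcardA'⟩
  have hVc : ∀ u ∈ V, ∀ v ∈ V, u * v = v * u := fun u hu v hv => hPV u (hVP hu) v hv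
  have hAVB : A ⊓ V ≤ B₀ := fun v hv => (hmemB v).mpr ⟨hv.1, hVc v hv.2 x' hx'⟩
  have hlt : A ⊓ V < (B₀ ⊔ Subgroup.zpowers x') ⊓ V := by
    refine lt_of_le_of_ne (le_inf (hAVB.trans le_sup_left) inf_le_right) ?_
    intro h
    have h1 : x' ∈ A ⊓ V := by rw [h]; exact ⟨hx'A', hx'⟩
    exact hx'A h1.1
  have hA'P : B₀ ⊔ Subgroup.zpowers x' ≤ P := by
    by_contra hcon
    have h1 := hmax _ hA'fam hcon
    have h2 := card_lt_card_of_lt hlt
    omega
  have hVA' : V ≤ B₀ ⊔ Subgroup.zpowers x' :=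
    le_of_commute_famE hA'fam (hVP.trans hPS) (fun v hv a' ha' => hPV a' (hA'P ha') v hv)
  have hB₀P : B₀ ≤ P := le_sup_left.trans hA'P
  have haP : a ∉ P := fun h => haB ((hmemB a).mpr ⟨haA, hPV a h x' hx'⟩)
  have hcV : a * x' * a⁻¹ * x'⁻¹ ∈ V := V.mul_mem (hVn.conj_mem x' hx' a) (V.inv_mem hx')
  have hcA : a * x' * a⁻¹ * x'⁻¹ ∈ A := by
    have h1 := (Subgroup.mem_normalizer_iff.mp (hVA hx') a⁻¹).mp (A.inv_mem haA)
    have e : a * x' * a⁻¹ * x'⁻¹ = a * (x' * a⁻¹ * x'⁻¹) := by group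
    rw [e]
    exact A.mul_mem haA h1
  have hax' : a * x' * a⁻¹ = (a * x' * a⁻¹ * x'⁻¹) * x' := by group
  have hac : a * (a * x' * a⁻¹ * x'⁻¹) = (a * x' * a⁻¹ * x'⁻¹) * a := hAc a haA _ hcA
  have hc2 : (a * x' * a⁻¹ * x'⁻¹) ^ 2 = 1 := by
    have h1 := Cfsg.Agent.Lib.helper51.conj_pow_mul_of_commute hax' hac 2
    have h2 : a ^ 2 * x' = x' * a ^ 2 := hB₀x _ ha2
    have h3 : a ^ 2 * x' * (a ^ 2)⁻¹ = x' := by rw [h2]; group
    rw [h3] at h1
    exact mul_eq_right.mp h1.symm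
  have hav : ∀ v ∈ V, a * v * a⁻¹ = v ∨ a * v * a⁻¹ = (a * x' * a⁻¹ * x'⁻¹) * v := by
    have hle : B₀ ⊔ Subgroup.zpowers x' ≤ transvSub a (a * x' * a⁻¹ * x'⁻¹) hc2 := by
      refine sup_le ?_ (Subgroup.zpowers_le.mpr ?_)
      · intro b hb
        refine ⟨hAc b (hB₀A hb) _ hcA, Or.inl ?_⟩
        have h1 := hAc a haA b (hB₀A hb)
        rw [h1]; group
      · exact ⟨hVc x' hx' _ hcV, Or.inr hax'⟩
    intro v hv
    exact (hle (hVA' hv)).2
  refine ⟨a, haA, haP, a * x' * a⁻¹ * x'⁻¹, hcV, hc2, hav, ?_, ?_⟩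
  · intro h
    apply haB
    exact (hmemB a).mpr ⟨haA, (Subgroup.mem_centralizer_iff.mp h x' hx').symm⟩
  · rw [Subgroup.mem_centralizer_iff]
    intro v hv
    exact (hPV _ (hB₀P ha2) v hv).symm

end idx2


section auxStab

variable {Γ : Type*} [Group Γ]

theorem smul_mk_eq_iff (M : Subgroup Γ) (y g : Γ) :
    y • ((g : Γ) : Γ ⧸ M) = g ↔ g⁻¹ * y * g ∈ M := by
  show ((y * g : Γ) : Γ ⧸ M) = g ↔ _
  rw [QuotientGroup.eq]
  constructor
  · intro h
    have := M.inv_mem h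
    convert this using 1; group
  · intro h
    have := M.inv_mem h
    convert this using 1; group

/-- the stabilizer in `A` of the coset `g C(x)` is `C_A(g x g⁻¹)` -/
theorem stabilizer_mk_centralizer (x : Γ) (A : Subgroup Γ) (g : Γ) :
    MulAction.stabilizer ↥A ((g : Γ) : Γ ⧸ Subgroup.centralizer ({x} : Set Γ)) =
      (A ⊓ Subgroup.centralizer ({g * x * g⁻¹} : Set Γ)).subgroupOf A := by
  ext a
  rw [MulAction.mem_stabilizer_iff, Subgroup.mem_subgroupOf, Subgroup.mem_inf]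
  have h0 : a • ((g : Γ) : Γ ⧸ Subgroup.centralizer ({x} : Set Γ)) =
      (a : Γ) • ((g : Γ) : Γ ⧸ Subgroup.centralizer ({x} : Set Γ)) := rfl
  rw [h0, smul_mk_eq_iff, Subgroup.mem_centralizer_singleton_iff,
    Subgroup.mem_centralizer_singleton_iff]
  constructor
  · intro h
    refine ⟨a.2, ?_⟩
    calc (a : Γ) * (g * x * g⁻¹) = g * ((g⁻¹ * (a : Γ) * g) * x) * g⁻¹ := by group
      _ = g * (x * (g⁻¹ * (a : Γ) * g)) * g⁻¹ := by rw [h]
      _ = g * x * g⁻¹ * (a : Γ) := by group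
  · rintro ⟨-, h⟩
    calc g⁻¹ * (a : Γ) * g * x = g⁻¹ * ((a : Γ) * (g * x * g⁻¹)) * g := by group
      _ = g⁻¹ * ((g * x * g⁻¹) * (a : Γ)) * g := by rw [h]
      _ = x * (g⁻¹ * (a : Γ) * g) := by group

/-- the elements of the abelian subgroup `V` killed by `2 ^ n` -/
def omegaSub (V : Subgroup Γ) (hVc : ∀ u ∈ V, ∀ v ∈ V, u * v = v * u) (n : ℕ) : Subgroup Γ where
  carrier := {v | v ∈ V ∧ v ^ 2 ^ n = 1}
  mul_mem' := by
    rintro u v ⟨hu, hu2⟩ ⟨hv, hv2⟩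
    refine ⟨V.mul_mem hu hv, ?_⟩
    rw [(show Commute u v from hVc u hu v hv).mul_pow, hu2, hv2, one_mul]
  one_mem' := ⟨V.one_mem, one_pow _⟩
  inv_mem' := by
    rintro u ⟨hu, hu2⟩
    exact ⟨V.inv_mem hu, by rw [inv_pow, hu2, inv_one]⟩

theorem omegaSub_le (V : Subgroup Γ) (hVc : ∀ u ∈ V, ∀ v ∈ V, u * v = v * u) (n : ℕ) :
    omegaSub V hVc n ≤ V := fun _ h => h.1

theorem omegaSub_normal (V : Subgroup Γ) [hVn : V.Normal]
    (hVc : ∀ u ∈ V, ∀ v ∈ V, u * v = v * u) (n : ℕ) : (omegaSub V hVc n).Normal := by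
  refine ⟨fun v hv g => ⟨hVn.conj_mem v hv.1 g, ?_⟩⟩
  rw [conj_pow, hv.2]
  group

end auxStab

section endgame

variable {Γ : Type*} [Group Γ] [Finite Γ]

/-- **The endgame for `S₄`-free groups.** -/
theorem s4free_endgame (hS4 : ¬ Cfsg.Involves (Equiv.Perm (Fin 4)) Γ)
    (S : Sylow 2 Γ) (x : Γ) (hxP : x ∈ pCore 2 Γ)
    (hxS : x ∈ Subgroup.centralizer ((S : Subgroup Γ) : Set Γ))
    (hJ : ¬ (Cfsg.thompsonSubgroupAOf (S : Subgroup Γ)).Normal)
    (hHM : ∀ H : Subgroup Γ, H ≠ ⊤ → (S : Subgroup Γ) ≤ H →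
      H ≤ Subgroup.centralizer ({x} : Set Γ)) :
    ∀ γ : Γ, γ * x * γ⁻¹ = x := by
  classical
  have hp2 : Fact (Nat.Prime 2) := ⟨Nat.prime_two⟩
  have hPn := pCore_normal 2 Γ
  have hPp := pCore_isPGroup 2 Γ
  have hPS : pCore 2 Γ ≤ (S : Subgroup Γ) := pCore_le_sylow S
  have hSp : IsPGroup 2 (S : Subgroup Γ) := S.2
  obtain ⟨P, hP⟩ : ∃ P : Subgroup Γ, P = pCore 2 Γ := ⟨_, rfl⟩
  rw [← hP] at hPn hPp hPS hxP
  obtain ⟨V, hV⟩ : ∃ V : Subgroup Γ, V = P ⊓ Subgroup.centralizer (P : Set Γ) := ⟨_, rfl⟩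
  have hVn : V.Normal := by rw [hV]; infer_instance
  have hVP : V ≤ P := by rw [hV]; exact inf_le_left
  have hPV : ∀ q ∈ P, ∀ v ∈ V, q * v = v * q := by
    intro q hq v hv
    rw [hV] at hv
    exact Subgroup.mem_centralizer_iff.mp hv.2 q hq
  have hVc : ∀ u ∈ V, ∀ v ∈ V, u * v = v * u := fun u hu v hv => hPV u (hVP hu) v hv
  have hxV : x ∈ V := by
    rw [hV]
    exact ⟨hxP, Subgroup.centralizer_le (by exact_mod_cast hPS) hxS⟩
  obtain ⟨M, hM⟩ : ∃ M : Subgroup Γ, M = Subgroup.centralizer ({x} : Set Γ) := ⟨_, rfl⟩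
  rw [← hM] at hHM
  have hMmem : ∀ m : Γ, m ∈ M ↔ m * x * m⁻¹ = x := by
    intro m
    rw [hM, Subgroup.mem_centralizer_iff]
    constructor
    · intro h1
      have h2 := h1 x (Set.mem_singleton x)
      rw [← h2]
      group
    · intro h1 y hy
      rw [Set.mem_singleton_iff] at hy
      subst hy
      calc y * m = (m * y * m⁻¹) * m := by rw [h1]
        _ = m * y := by group
  have hSM : (S : Subgroup Γ) ≤ M := by
    intro s hs
    rw [hMmem]
    have h1 := Subgroup.mem_centralizer_iff.mp hxS s hs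
    rw [h1]
    group
  by_contra hcon
  have hMtop : M ≠ ⊤ := by
    intro h
    apply hcon
    intro γ
    exact (hMmem γ).mp (h ▸ Subgroup.mem_top γ)
  -- Step 0: a member of `𝒜(S)` outside `P`, with `|A ∩ V|` as large as possible
  have hJN : Subgroup.normalizer (Cfsg.thompsonSubgroupAOf (S : Subgroup Γ) : Set Γ) ≠ ⊤ :=
    fun h => hJ (Subgroup.normalizer_eq_top_iff.mp h)
  obtain ⟨A₀, hA₀, hA₀P⟩ := Cfsg.Agent.Lib.helper51.red_exists_not_le (H := P) S hPS hJN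
  have hne : Nonempty {A : Subgroup Γ // A ∈ famE 0 (S : Subgroup Γ) ∧ ¬ A ≤ P} :=
    ⟨⟨A₀, hA₀, hA₀P⟩⟩
  obtain ⟨⟨A₁, hA₁, hA₁P⟩, hmax'⟩ := Finite.exists_max
    (fun A : {A : Subgroup Γ // A ∈ famE 0 (S : Subgroup Γ) ∧ ¬ A ≤ P} => Nat.card ↥(A.1 ⊓ V))
  have hmax : ∀ A' ∈ famE 0 (S : Subgroup Γ), ¬ A' ≤ P →
      Nat.card ↥(A' ⊓ V) ≤ Nat.card ↥(A₁ ⊓ V) := fun A' h1 h2 => hmax' ⟨A', h1, h2⟩
  obtain ⟨𝔉, h𝔉⟩ : ∃ 𝔉 : Set (Subgroup Γ), 𝔉 = {A | A ∈ famE 0 (S : Subgroup Γ) ∧ ¬ A ≤ P ∧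
      Nat.card ↥(A ⊓ V) = Nat.card ↥(A₁ ⊓ V)} := ⟨_, rfl⟩
  have hmem𝔉 : ∀ A : Subgroup Γ, A ∈ 𝔉 ↔ (A ∈ famE 0 (S : Subgroup Γ) ∧ ¬ A ≤ P ∧
      Nat.card ↥(A ⊓ V) = Nat.card ↥(A₁ ⊓ V)) := by
    intro A; rw [h𝔉]; rfl
  have hA₁𝔉 : A₁ ∈ 𝔉 := (hmem𝔉 A₁).mpr ⟨hA₁, hA₁P, rfl⟩
  have hmaxF : ∀ A ∈ 𝔉, ∀ A' ∈ famE 0 (S : Subgroup Γ), ¬ A' ≤ P →
      Nat.card ↥(A' ⊓ V) ≤ Nat.card ↥(A ⊓ V) := by
    intro A hA A' h1 h2
    rw [((hmem𝔉 A).mp hA).2.2]
    exact hmax A' h1 h2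
  -- Step 1: `V` normalizes the members of `𝔉`
  have hstep1 : ∀ A ∈ 𝔉, V ≤ Subgroup.normalizer (A : Set Γ) := by
    intro A hA
    by_contra hnot
    obtain ⟨B, hB, hBA, hlt⟩ := Cfsg.Agent.Lib.helper51.repl_step (S : Subgroup Γ) hSp V
      (hVP.trans hPS) (fun s _ => by
        rw [Subgroup.normalizer_eq_top_iff.mpr hVn]; exact Subgroup.mem_top s) hVc
      ((hmem𝔉 A).mp hA).1 hnot
    have hBP : B ≤ P := by
      by_contra hBP
      have := hmaxF A hA B hB hBP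
      omega
    apply hnot
    have hVB : V ≤ B := le_of_commute_famE hB (hVP.trans hPS)
      (fun v hv b hb => hPV b (hBP hb) v hv)
    exact hVB.trans hBA
  -- Step 2: no orbit of length `2`
  have hRM : Subgroup.centralizer (V : Set Γ) ≤ M := by
    intro r hr
    rw [hMmem]
    have h1 := Subgroup.mem_centralizer_iff.mp hr x hxV
    rw [← h1]; group
  have hstep2 : ∀ A ∈ 𝔉, ∀ g : Γ, (MulAction.stabilizer ↥A ((g : Γ) : Γ ⧸ M)).index ≠ 2 := by
    intro A hA g hidx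
    have hAf := (hmem𝔉 A).mp hA
    have hx'V : g * x * g⁻¹ ∈ V := hVn.conj_mem x hxV g
    have hidx2 : (A ⊓ Subgroup.centralizer ({g * x * g⁻¹} : Set Γ)).relIndex A = 2 := by
      have h1 := stabilizer_mk_centralizer x A g
      rw [← hM] at h1
      rw [h1] at hidx
      exact hidx
    obtain ⟨a, haA, haP, c, hcV, hc2, hav, haR, ha2⟩ := transv_of_index_two (S : Subgroup Γ) P V A
      hPS hVP hPV hAf.1 (hmaxF A hA) (hstep1 A hA) (g * x * g⁻¹) hx'V hidx2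
    by_cases hO : ∀ N : Subgroup (Γ ⧸ Subgroup.centralizer (V : Set Γ)), N.Normal →
        IsPGroup 2 N → ((a : Γ) : Γ ⧸ Subgroup.centralizer (V : Set Γ)) ∉ N
    · exact hS4 (involves_s4_of_transvection V hVc a c hcV hc2 hav haR ha2 hO)
    · push Not at hO
      obtain ⟨N, hNn, hNp, haN⟩ := hO
      obtain ⟨D, hD⟩ : ∃ D : Subgroup Γ,
          D = N.comap (QuotientGroup.mk' (Subgroup.centralizer (V : Set Γ))) := ⟨_, rfl⟩
      have hDn : D.Normal := by rw [hD]; exact hNn.comap _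
      have haD : a ∈ D := by rw [hD]; exact haN
      have hDM : D ≤ M := by
        intro d hd
        rw [hD] at hd
        have hNS : N ≤ ((S.mapSurjective (QuotientGroup.mk'_surjective
            (Subgroup.centralizer (V : Set Γ))) :
            Sylow 2 (Γ ⧸ Subgroup.centralizer (V : Set Γ))) :
            Subgroup (Γ ⧸ Subgroup.centralizer (V : Set Γ))) := hNp.le_sylow_of_normal _
        have h1 := hNS (Subgroup.mem_comap.mp hd)
        rw [Sylow.coe_mapSurjective] at h1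
        obtain ⟨s, hs, hsd⟩ := h1
        have h2 : s⁻¹ * d ∈ Subgroup.centralizer (V : Set Γ) := by
          rw [← QuotientGroup.eq_one_iff, QuotientGroup.mk_mul, QuotientGroup.mk_inv]
          have h3 : ((s : Γ) : Γ ⧸ Subgroup.centralizer (V : Set Γ)) = (d : Γ) := hsd
          rw [h3, inv_mul_cancel]
        have e : d = s * (s⁻¹ * d) := by group
        rw [e]
        exact M.mul_mem (hSM hs) (hRM h2)
      obtain ⟨Psyl, hPsyl⟩ := exists_sylow_inf_normal S D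
      have hfr := Sylow.normalizer_sup_eq_top Psyl
      have hmap : (Psyl : Subgroup ↥D).map D.subtype = (S : Subgroup Γ) ⊓ D := by
        rw [hPsyl]; exact Subgroup.map_subgroupOf_eq_of_le inf_le_right
      rw [hmap] at hfr
      have hNle : Subgroup.normalizer (((S : Subgroup Γ) ⊓ D : Subgroup Γ) : Set Γ) ≤ M := by
        apply hHM
        · intro htop
          apply haP
          have hnorm : ((S : Subgroup Γ) ⊓ D).Normal := Subgroup.normalizer_eq_top_iff.mp htop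
          rw [hP]
          exact le_pCore hnorm (hSp.to_le inf_le_left) ⟨hAf.1.1 haA, haD⟩
        · intro s hs
          rw [Subgroup.mem_normalizer_iff]
          intro t
          constructor
          · rintro ⟨h1, h2⟩
            exact ⟨(S : Subgroup Γ).mul_mem ((S : Subgroup Γ).mul_mem hs h1)
              ((S : Subgroup Γ).inv_mem hs), hDn.conj_mem t h2 s⟩
          · rintro ⟨h1, h2⟩
            have e : t = s⁻¹ * (s * t * s⁻¹) * s := by group
            refine ⟨?_, ?_⟩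
            · rw [e]
              exact (S : Subgroup Γ).mul_mem ((S : Subgroup Γ).mul_mem
                ((S : Subgroup Γ).inv_mem hs) h1) hs
            · have h3 := hDn.conj_mem _ h2 s⁻¹
              rw [inv_inv] at h3
              rw [e]; exact h3
      apply hMtop
      rw [eq_top_iff, ← hfr]
      exact sup_le hNle hDM
  -- Step 3: the weakly closed subgroup `Q`
  obtain ⟨Q, hQ⟩ : ∃ Q : Subgroup Γ, Q = P ⊔ sSup 𝔉 := ⟨_, rfl⟩
  have hPQ : P ≤ Q := by rw [hQ]; exact le_sup_left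
  have h𝔉Q : ∀ A ∈ 𝔉, A ≤ Q := fun A hA => by rw [hQ]; exact le_trans (le_sSup hA) le_sup_right
  have hQS : Q ≤ (S : Subgroup Γ) := by
    rw [hQ]; exact sup_le hPS (sSup_le fun A hA => ((hmem𝔉 A).mp hA).1.1)
  have hQp : IsPGroup 2 Q := hSp.to_le hQS
  have hcQ : ∀ c : Γ, cj c Q ≤ (S : Subgroup Γ) → c ∈ Subgroup.normalizer (Q : Set Γ) := by
    intro c hc
    apply cj_eq_self_iff.mp
    refine Subgroup.eq_of_le_of_card_ge ?_ (by rw [card_cj])
    show Q.map (MulAut.conj c).toMonoidHom ≤ Q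
    rw [Subgroup.map_le_iff_le_comap]
    nth_rewrite 1 [hQ]
    refine sup_le ?_ (sSup_le ?_)
    · intro q hq
      exact hPQ (hPn.conj_mem q hq c)
    · intro A hA
      rw [← Subgroup.map_le_iff_le_comap]
      apply h𝔉Q
      have hAf := (hmem𝔉 A).mp hA
      have hcA : cj c A ≤ (S : Subgroup Γ) := (cj_le_cj.mpr (h𝔉Q A hA)).trans hc
      refine (hmem𝔉 _).mpr ⟨⟨hcA, goodE_map hAf.1.2.1 _, fun B hB hBg => ?_⟩, ?_, ?_⟩
      · have h1 : Nat.card ↥(cj c A) = Nat.card ↥A := card_cj c A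
        rw [h1]; exact hAf.1.2.2 B hB hBg
      · intro hle
        apply hAf.2.1
        have h1 : cj c A ≤ cj c P := by rw [cj_normal c P]; exact hle
        exact cj_le_cj.mp h1
      · have h1 : cj c A ⊓ V = cj c (A ⊓ V) := by
          have h2 : cj c (A ⊓ V) = cj c A ⊓ cj c V :=
            Subgroup.map_inf A V _ (MulAut.conj c).injective
          rw [h2, cj_normal c V]
        have h3 : Nat.card ↥(A.map (MulAut.conj c).toMonoidHom ⊓ V) = Nat.card ↥(A ⊓ V) := by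
          show Nat.card ↥(cj c A ⊓ V) = _
          rw [h1, card_cj]
        rw [h3]; exact hAf.2.2
  have hSNQ : (S : Subgroup Γ) ≤ Subgroup.normalizer (Q : Set Γ) :=
    fun s hs => hcQ s (cj_le_of_mem hs hQS)
  have hNQ : Subgroup.normalizer (Q : Set Γ) ≠ ⊤ := by
    intro h1
    apply hA₁P
    rw [hP]
    exact (h𝔉Q A₁ hA₁𝔉).trans (le_pCore (Subgroup.normalizer_eq_top_iff.mp h1) hQp)
  have hNQM := hHM _ hNQ hSNQ
  have hfix : ∀ c : Γ, (∀ q ∈ Q, c⁻¹ * q * c ∈ M) → c ∈ M := by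
    intro c hc
    have h1 : cj c⁻¹ Q ≤ M := by
      intro y hy
      rw [mem_cj, inv_inv] at hy
      have h2 := hc _ hy
      have e : c⁻¹ * (c * y * c⁻¹) * c = y := by group
      rwa [e] at h2
    have hsyl : IsSylIn 2 (S : Subgroup Γ) M := ⟨hSM, hSp, sylow_not_dvd_relIndex S hSM⟩
    obtain ⟨m, hm, hle⟩ := hsyl.exists_cj_le (isPGroup_cj hQp) h1
    rw [← cj_mul] at hle
    have h2 := hNQM (hcQ _ hle)
    have e : c = (m⁻¹ * (m * c⁻¹))⁻¹ := by group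
    rw [e]
    exact M.inv_mem (M.mul_mem (M.inv_mem hm) h2)
  have hgood : ∀ X : Subgroup Γ, X ≤ V → ∀ Q₁ : Subgroup Γ, P ≤ Q₁ → Q₁ < Q →
      ∃ A : Subgroup Γ, A ≤ Q ∧ ¬ A ≤ Q₁ ∧ (∀ a ∈ A, ∀ b ∈ A, a * b = b * a) ∧
        X ≤ Subgroup.normalizer (A : Set Γ) ∧
        ∀ g : Γ, (MulAction.stabilizer ↥A ((g : Γ) : Γ ⧸ M)).index ≠ 2 := by
    intro X hXV Q₁ hPQ₁ hQ₁
    have hexA : ∃ A ∈ 𝔉, ¬ A ≤ Q₁ := by
      by_contra hcon2
      push Not at hcon2
      apply not_le_of_gt hQ₁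
      rw [hQ]
      exact sup_le hPQ₁ (sSup_le hcon2)
    obtain ⟨A, hA, hAQ₁⟩ := hexA
    exact ⟨A, h𝔉Q A hA, hAQ₁, fun a ha b hb => goodE_commute ((hmem𝔉 A).mp hA).1.2.1 ha hb,
      hXV.trans (hstep1 A hA), hstep2 A hA⟩
  -- the trace induction
  have hind : ∀ n : ℕ, ∀ u ∈ omegaSub V hVc n, (∀ m ∈ M, m * u * m⁻¹ = u) →
      ∀ γ : Γ, γ * u * γ⁻¹ = u := by
    intro n
    induction n with
    | zero =>
      intro u hu _ γ
      have h1 : u = 1 := by
        have := hu.2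
        rwa [pow_zero, pow_one] at this
      rw [h1]; group
    | succ n ih =>
      intro u hu huM
      have hXn : (omegaSub V hVc (n + 1)).Normal := omegaSub_normal V hVc (n + 1)
      obtain ⟨z, hz, hzu⟩ := trace_two M P Q (omegaSub V hVc (n + 1)) (omegaSub V hVc n)
        (hPS.trans hSM) hPQ (hQS.trans hSM) hQp hfix
        (fun a ha b hb => hVc a ha.1 b hb.1)
        (fun y hy => ⟨V.pow_mem hy.1 2, by rw [← pow_mul, ← pow_succ']; exact hy.2⟩)
        u hu huM (hgood _ (omegaSub_le V hVc (n + 1)))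
      have hzM : ∀ m ∈ M, m * (z⁻¹ * u) * m⁻¹ = z⁻¹ * u := by
        intro m hm
        calc m * (z⁻¹ * u) * m⁻¹ = (m * z * m⁻¹)⁻¹ * (m * u * m⁻¹) := by group
          _ = z⁻¹ * u := by rw [hz m, huM m hm]
      have h5 := ih (z⁻¹ * u) hzu hzM
      intro γ
      calc γ * u * γ⁻¹ = (γ * z * γ⁻¹) * (γ * (z⁻¹ * u) * γ⁻¹) := by group
        _ = z * (z⁻¹ * u) := by rw [hz γ, h5 γ]
        _ = u := by group
  obtain ⟨n, hn⟩ := (hPp.to_le hVP) ⟨x, hxV⟩
  have hxn : x ^ 2 ^ n = 1 := by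
    have := congrArg Subtype.val hn
    simpa using this
  exact hcon (hind n x ⟨hxV, hxn⟩ (fun m hm => (hMmem m).mp hm))

end endgame

end Cfsg.Agent.Lib.helper52
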