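import Mathlib
import Cfsg.Agent.Lib.helper39.OrbitNorm

/-!
# A trace argument for `p = 2`

* `prod_univ_eq_sq`: in a finite abelian `2`-group of order divisible by `4`, the product of all
  the elements is a square.
* `orbit_prod_sq`: the product of an equivariant function over an orbit of length divisible by `4`
  of an abelian `2`-group acting "quadratically" lies in every subgroup containing the squares.
* `trace_two`: the resulting fixed point lemma.
-/

set_option autoImplicit false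

namespace Cfsg.Agent.Lib.helper52

open Cfsg.Agent.Lib.helper39

section prodAll

/-- In a finite commutative `2`-group of order divisible by `4`, the product of all the elements
is a square. -/
theorem prod_univ_eq_sq {E : Type*} [CommGroup E] [Fintype E] (hE : IsPGroup 2 E)
    (h4 : 4 ∣ Nat.card E) : ∃ t : E, ∏ e : E, e = t ^ 2 := by
  classical
  have : Fact (Nat.Prime 2) := ⟨Nat.prime_two⟩
  obtain ⟨k, hk⟩ := IsPGroup.iff_card.mp hE
  have hk2 : 2 ≤ k := by
    by_contra hlt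
    have hk1 : k ≤ 1 := by omega
    have h5 : Nat.card E ≤ 2 := by
      rw [hk]
      calc 2 ^ k ≤ 2 ^ 1 := Nat.pow_le_pow_right (by norm_num) hk1
        _ = 2 := by norm_num
    have h6 : 4 ≤ Nat.card E := Nat.le_of_dvd Nat.card_pos h4
    omega
  obtain ⟨K, hK⟩ := Sylow.exists_subgroup_card_pow_prime 2 (G := E) (n := k - 1)
    (by rw [hk]; exact pow_dvd_pow 2 (by omega))
  have hidx : K.index = 2 := by
    have h1 := K.card_mul_index
    rw [hK, hk] at h1
    have h2 : (2 : ℕ) ^ k = 2 ^ (k - 1) * 2 := by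
      rw [← pow_succ]; congr 1; omega
    rw [h2] at h1
    exact Nat.eq_of_mul_eq_mul_left (by positivity) h1
  obtain ⟨e₁, he₁⟩ : ∃ e₁ : E, e₁ ∉ K := by
    by_contra hcon
    push Not at hcon
    have : K = ⊤ := by rw [eq_top_iff]; intro e _; exact hcon e
    rw [this, Subgroup.index_top] at hidx
    omega
  have hsplit : ∏ e : E, e = (∏ e ∈ Finset.univ.filter (fun e => e ∈ K), e) *
      ∏ e ∈ Finset.univ.filter (fun e => ¬ e ∈ K), e :=
    (Finset.prod_filter_mul_prod_filter_not Finset.univ (fun e => e ∈ K) (fun e => e)).symm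
  have hshift : ∏ e ∈ Finset.univ.filter (fun e => ¬ e ∈ K), e =
      ∏ e ∈ Finset.univ.filter (fun e => e ∈ K), (e₁ * e) := by
    symm
    refine Finset.prod_bij (fun e _ => e₁ * e) ?_ ?_ ?_ ?_
    · intro e he
      rw [Finset.mem_filter] at he ⊢
      refine ⟨Finset.mem_univ _, ?_⟩
      rw [Subgroup.mul_mem_iff_of_index_two hidx]
      intro h
      exact he₁ (h.mpr he.2)
    · intro a _ b _ h
      exact mul_left_cancel h
    · intro b hb
      rw [Finset.mem_filter] at hb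
      refine ⟨e₁⁻¹ * b, ?_, by group⟩
      rw [Finset.mem_filter]
      refine ⟨Finset.mem_univ _, ?_⟩
      rw [Subgroup.mul_mem_iff_of_index_two hidx]
      constructor
      · intro h
        exact absurd (K.inv_mem_iff.mp h) he₁
      · intro h
        exact absurd h hb.2
    · intro e _
      rfl
  have hcard : (Finset.univ.filter (fun e => e ∈ K)).card = 2 * 2 ^ (k - 2) := by
    have h1 : (Finset.univ.filter (fun e => e ∈ K)).card = Nat.card K := by
      rw [Nat.card_eq_fintype_card, Fintype.card_subtype]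
    rw [h1, hK, ← pow_succ']
    congr 1
    omega
  rw [hsplit, hshift, Finset.prod_mul_distrib, Finset.prod_const, hcard]
  refine ⟨(∏ e ∈ Finset.univ.filter (fun e => e ∈ K), e) * e₁ ^ 2 ^ (k - 2), ?_⟩
  rw [mul_pow, ← pow_mul, mul_comm (2 ^ (k - 2)) 2, pow_two]
  rw [mul_comm (e₁ ^ (2 * 2 ^ (k - 2))), mul_assoc]

end prodAll


section orbitSq

open Classical in
/-- Orbit product: an abelian `2`-group `A` acts on `Ω`, the values of `f` along the orbit of `c`
are `φ a * f c` for a homomorphism `φ`, and the orbit has length divisible by `4`; then the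
orbit product lies in every subgroup containing all squares. -/
theorem orbit_prod_sq {A Ω C : Type*} [Group A] [Finite A] [MulAction A Ω] [Fintype Ω]
    [CommGroup C] (hcomm : ∀ a b : A, a * b = b * a) (hA : IsPGroup 2 A)
    (f : Ω → C) (B : Subgroup C) (hB : ∀ y : C, y ^ 2 ∈ B)
    (c : Ω) (φ : A →* C) (hφ : ∀ a : A, f (a • c) = φ a * f c)
    (h4 : 4 ∣ (MulAction.stabilizer A c).index) :
    ∏ c' ∈ Finset.univ.filter (fun c' => c' ∈ MulAction.orbit A c), f c' ∈ B := by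
  have hN : (MulAction.stabilizer A c).Normal :=
    ⟨fun n hn g => by rw [hcomm g n, mul_inv_cancel_right]; exact hn⟩
  let _ : CommGroup (A ⧸ MulAction.stabilizer A c) :=
    { (inferInstance : Group (A ⧸ MulAction.stabilizer A c)) with
      mul_comm := fun a b => by
        induction a using QuotientGroup.induction_on
        induction b using QuotientGroup.induction_on
        rw [← QuotientGroup.mk_mul, ← QuotientGroup.mk_mul, hcomm] }
  let _ : Fintype (A ⧸ MulAction.stabilizer A c) := Fintype.ofFinite _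
  let _ : Fintype (MulAction.orbit A c) := Fintype.ofFinite _
  have hker : ∀ a ∈ MulAction.stabilizer A c, φ a = 1 := by
    intro a ha
    have h1 := hφ a
    rw [MulAction.mem_stabilizer_iff.mp ha] at h1
    exact mul_eq_right.mp h1.symm
  let φ' : (A ⧸ MulAction.stabilizer A c) →* C :=
    QuotientGroup.lift (MulAction.stabilizer A c) φ hker
  have h1 : ∏ c' ∈ Finset.univ.filter (fun c' => c' ∈ MulAction.orbit A c), f c' =
      ∏ y : MulAction.orbit A c, f y :=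
    Finset.prod_subtype _ (fun x => by simp) f
  have h2 : ∏ q : A ⧸ MulAction.stabilizer A c, (φ' q * f c) =
      ∏ y : MulAction.orbit A c, f y := by
    refine Fintype.prod_equiv (MulAction.orbitEquivQuotientStabilizer A c).symm _ _ ?_
    intro q
    induction q using QuotientGroup.induction_on with
    | H a =>
      rw [MulAction.orbitEquivQuotientStabilizer_symm_apply, hφ a]
      rfl
  rw [h1, ← h2, Finset.prod_mul_distrib, Finset.prod_const, Finset.card_univ, ← map_prod]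
  have hcardE : Nat.card (A ⧸ MulAction.stabilizer A c) = (MulAction.stabilizer A c).index :=
    (Subgroup.index_eq_card _).symm
  obtain ⟨t, ht⟩ := prod_univ_eq_sq (E := A ⧸ MulAction.stabilizer A c)
    (hA.to_quotient _) (by rw [hcardE]; exact h4)
  rw [ht, map_pow]
  refine B.mul_mem (hB _) ?_
  obtain ⟨j, hj⟩ := h4
  rw [← Nat.card_eq_fintype_card, hcardE, hj, show 4 * j = (2 * j) * 2 by ring, pow_mul]
  exact hB _

end orbitSq


section orbitTwo

variable {Γ : Type*} [Group Γ] [Finite Γ] {p : ℕ} [Fact p.Prime]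

open Classical in
/-- **Orbit product lemma, subgroup version.** Let `P ≤ Q ≤ M` with `Q` a `p`-group fixing only
the coset `M` of `Γ ⧸ M` and `P` acting trivially on `Γ ⧸ M`.  If outside every proper subgroup
of `Q` containing `P` there is a subgroup `A ≤ Q` all of whose products of `f` over nontrivial
`A`-orbits lie in `B`, then the product of `f` over the nontrivial cosets lies in `B`. -/
theorem orbit_prod_mem_sub (M P Q : Subgroup Γ) (hPQ : P ≤ Q) (hQM : Q ≤ M) (hQ : IsPGroup p Q)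
    (hconj : ∀ g y : Γ, y ∈ P → g⁻¹ * y * g ∈ M)
    (hfix : ∀ g : Γ, (∀ q ∈ Q, g⁻¹ * q * g ∈ M) → g ∈ M)
    {C : Type*} [CommGroup C] (B : Subgroup C) [Fintype (Γ ⧸ M)] [DecidableEq (Γ ⧸ M)]
    (f : Γ ⧸ M → C)
    (hgood : ∀ Q₁ : Subgroup Γ, P ≤ Q₁ → Q₁ < Q → ∃ A : Subgroup Γ, A ≤ Q ∧ ¬ A ≤ Q₁ ∧
      ∀ c : Γ ⧸ M, (∃ a : ↥A, a • c ≠ c) →
        ∏ c' ∈ Finset.univ.filter (fun c' => c' ∈ MulAction.orbit ↥A c), f c' ∈ B) :
    ∏ c ∈ Finset.univ.erase ((1 : Γ) : Γ ⧸ M), f c ∈ B := by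
  classical
  have hfixed : ∀ (y g : Γ), y • ((g : Γ) : Γ ⧸ M) = g ↔ g⁻¹ * y * g ∈ M := by
    intro y g
    show ((y * g : Γ) : Γ ⧸ M) = g ↔ _
    rw [QuotientGroup.eq]
    constructor
    · intro h
      have := M.inv_mem h
      convert this using 1; group
    · intro h
      have := M.inv_mem h
      convert this using 1; group
  have hc0 : ∀ q : ↥Q, q • (((1 : Γ) : Γ ⧸ M)) = ((1 : Γ) : Γ ⧸ M) := by
    intro q
    refine (hfixed (q : Γ) 1).mpr ?_
    simpa using hQM q.2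
  refine prod_mem_of_orbits (Γ := ↥Q) f B _ ?_ ?_
  · intro q c hc
    rw [Finset.mem_erase] at hc ⊢
    refine ⟨fun h => hc.1 ?_, Finset.mem_univ _⟩
    have h1 : c = q⁻¹ • (q • c) := by rw [inv_smul_smul]
    rw [h1, h, hc0]
  · intro c hc
    obtain ⟨g, rfl⟩ := QuotientGroup.mk_surjective c
    have hgM : g ∉ M := by
      intro h
      apply (Finset.mem_erase.mp hc).1
      refine QuotientGroup.eq.mpr ?_
      simpa using M.inv_mem h
    have hSt : ∀ q : Γ, q ∈ (MulAction.stabilizer ↥Q ((g : Γ) : Γ ⧸ M)).map Q.subtype ↔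
        q ∈ Q ∧ g⁻¹ * q * g ∈ M := by
      intro q
      constructor
      · rintro ⟨q', hq', rfl⟩
        exact ⟨q'.2, (hfixed (q' : Γ) g).mp (MulAction.mem_stabilizer_iff.mp hq')⟩
      · rintro ⟨hq, hq2⟩
        exact ⟨⟨q, hq⟩, MulAction.mem_stabilizer_iff.mpr ((hfixed q g).mpr hq2), rfl⟩
    have hPSt : P ≤ (MulAction.stabilizer ↥Q ((g : Γ) : Γ ⧸ M)).map Q.subtype :=
      fun y hy => (hSt y).mpr ⟨hPQ hy, hconj g y hy⟩
    have hStQ : (MulAction.stabilizer ↥Q ((g : Γ) : Γ ⧸ M)).map Q.subtype < Q := by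
      refine lt_of_le_of_ne (Subgroup.map_subtype_le _) ?_
      intro h
      refine hgM (hfix g (fun q hq => ?_))
      have hq' : q ∈ (MulAction.stabilizer ↥Q ((g : Γ) : Γ ⧸ M)).map Q.subtype := by
        rw [h]; exact hq
      exact ((hSt q).mp hq').2
    obtain ⟨Q₁, hSt1, hQ1, hQn⟩ := exists_normal_lt hQ _ hStQ
    obtain ⟨A, hAQ, hAQ₁, hN⟩ := hgood Q₁ (le_trans hPSt hSt1) hQ1
    refine prod_mem_of_orbits (Γ := ↥A) f B _ ?_ ?_
    · intro z c' hc'
      rw [Finset.mem_filter] at hc' ⊢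
      refine ⟨Finset.mem_univ _, ?_⟩
      obtain ⟨q, hq⟩ := hc'.2
      have hq' : q • ((g : Γ) : Γ ⧸ M) = c' := hq
      subst hq'
      have hzQ : (z : Γ) ∈ Q := hAQ z.2
      refine ⟨⟨z, hzQ⟩ * q, ?_⟩
      show (⟨(z : Γ), hzQ⟩ * q) • ((g : Γ) : Γ ⧸ M) = z • q • ((g : Γ) : Γ ⧸ M)
      rw [mul_smul]
      rfl
    · intro c' hc'
      obtain ⟨q, hq⟩ := (Finset.mem_filter.mp hc').2
      have hq' : q • ((g : Γ) : Γ ⧸ M) = c' := hq
      subst hq'
      apply hN
      obtain ⟨u₁, hu₁A, hu₁⟩ := SetLike.not_le_iff_exists.mp hAQ₁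
      refine ⟨⟨u₁, hu₁A⟩, ?_⟩
      intro h2
      have hc'eq : (q • ((g : Γ) : Γ ⧸ M)) = (((q : Γ) * g : Γ) : Γ ⧸ M) := rfl
      rw [hc'eq] at h2
      have h2' : u₁ • ((((q : Γ) * g : Γ)) : Γ ⧸ M) = (((q : Γ) * g : Γ)) := h2
      have h3 : ((q : Γ) * g)⁻¹ * u₁ * ((q : Γ) * g) ∈ M := (hfixed u₁ _).mp h2'
      have h4 : (q : Γ)⁻¹ * u₁ * q ∈
          (MulAction.stabilizer ↥Q ((g : Γ) : Γ ⧸ M)).map Q.subtype :=
        (hSt _).mpr ⟨Q.mul_mem (Q.mul_mem (Q.inv_mem q.2) (hAQ hu₁A)) q.2, by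
          convert h3 using 1; group⟩
      have h5 : (q : Γ)⁻¹ * u₁ * q ∈ Q₁ := hSt1 h4
      have h6 := (Subgroup.mem_normalizer_iff.mp (hQn q.2) ((q : Γ)⁻¹ * u₁ * q)).mp h5
      apply hu₁
      convert h6 using 1; group

end orbitTwo


section traceTwo

variable {Γ : Type*} [Group Γ] [Finite Γ]

/-- **Trace lemma for `p = 2`.** Let `P ≤ Q ≤ M` with `P` normal and `Q` a `2`-group fixing
only the coset `M` of `Γ ⧸ M`, let `X` be an abelian normal subgroup, `Y` a normal subgroup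
containing the squares of the elements of `X`, and `x ∈ X` an element centralized by `M`.  If
outside every proper subgroup of `Q` containing `P` there is an abelian subgroup `A ≤ Q`
normalized by `X` and without orbits of length `2` on `Γ ⧸ M`, then `x` is congruent modulo `Y`
to a central element of `Γ`. -/
theorem trace_two (M P Q X Y : Subgroup Γ) [hPn : P.Normal] [hXn : X.Normal]
    (hPM : P ≤ M) (hPQ : P ≤ Q) (hQM : Q ≤ M) (hQ : IsPGroup 2 Q)
    (hfix : ∀ g : Γ, (∀ q ∈ Q, g⁻¹ * q * g ∈ M) → g ∈ M)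
    (hXc : ∀ a ∈ X, ∀ b ∈ X, a * b = b * a)
    (hsq : ∀ y ∈ X, y ^ 2 ∈ Y)
    (x : Γ) (hxX : x ∈ X) (hxM : ∀ m ∈ M, m * x * m⁻¹ = x)
    (hgood : ∀ Q₁ : Subgroup Γ, P ≤ Q₁ → Q₁ < Q → ∃ A : Subgroup Γ, A ≤ Q ∧ ¬ A ≤ Q₁ ∧
      (∀ a ∈ A, ∀ b ∈ A, a * b = b * a) ∧ X ≤ Subgroup.normalizer (A : Set Γ) ∧
      ∀ g : Γ, (MulAction.stabilizer ↥A ((g : Γ) : Γ ⧸ M)).index ≠ 2) :
    ∃ z : Γ, (∀ γ : Γ, γ * z * γ⁻¹ = z) ∧ z⁻¹ * x ∈ Y := by
  classical
  have hp2 : Fact (Nat.Prime 2) := ⟨Nat.prime_two⟩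
  let _ : Fintype (Γ ⧸ M) := Fintype.ofFinite _
  let _ : CommGroup ↥X :=
    { (inferInstance : Group ↥X) with
      mul_comm := fun a b => Subtype.ext (hXc a a.2 b b.2) }
  let F : Γ → ↥X := fun g => ⟨g * x * g⁻¹, hXn.conj_mem x hxX g⟩
  have hFm : ∀ (g m : Γ), m ∈ M → F (g * m) = F g := by
    intro g m hm
    apply Subtype.ext
    show g * m * x * (g * m)⁻¹ = g * x * g⁻¹
    have h1 := hxM m hm
    calc g * m * x * (g * m)⁻¹ = g * (m * x * m⁻¹) * g⁻¹ := by group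
      _ = g * x * g⁻¹ := by rw [h1]
  let f : Γ ⧸ M → ↥X := fun c => F c.out
  have hf : ∀ g : Γ, f (g : Γ ⧸ M) = F g := by
    intro g
    obtain ⟨m, hm⟩ := QuotientGroup.mk_out_eq_mul M g
    show F (Quotient.out (g : Γ ⧸ M)) = _
    rw [hm, hFm _ _ m.2]
  have hequiv : ∀ (γ : Γ) (c : Γ ⧸ M), (f (γ • c) : Γ) = γ * (f c : Γ) * γ⁻¹ := by
    intro γ c
    obtain ⟨g, rfl⟩ := QuotientGroup.mk_surjective c
    show (f ((γ * g : Γ) : Γ ⧸ M) : Γ) = _
    rw [hf, hf]
    show γ * g * x * (γ * g)⁻¹ = γ * (g * x * g⁻¹) * γ⁻¹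
    group
  have hzinv : ∀ γ : Γ, γ * ((∏ c : Γ ⧸ M, f c : ↥X) : Γ) * γ⁻¹ = ((∏ c : Γ ⧸ M, f c : ↥X) : Γ) := by
    intro γ
    let κ : ↥X →* ↥X :=
      { toFun := fun y => ⟨γ * (y : Γ) * γ⁻¹, hXn.conj_mem y y.2 γ⟩
        map_one' := by apply Subtype.ext; show γ * 1 * γ⁻¹ = 1; group
        map_mul' := by
          intro a b
          apply Subtype.ext
          show γ * ((a : Γ) * (b : Γ)) * γ⁻¹ = (γ * (a : Γ) * γ⁻¹) * (γ * (b : Γ) * γ⁻¹)
          group }
    have h1 : κ (∏ c : Γ ⧸ M, f c) = ∏ c : Γ ⧸ M, κ (f c) := map_prod κ f Finset.univ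
    have h2 : ∀ c : Γ ⧸ M, κ (f c) = f (γ • c) := by
      intro c
      apply Subtype.ext
      rw [hequiv]
      rfl
    have h3 : ∏ c : Γ ⧸ M, f (γ • c) = ∏ c : Γ ⧸ M, f c :=
      Equiv.prod_comp (MulAction.toPerm γ) f
    have h4 : κ (∏ c : Γ ⧸ M, f c) = ∏ c : Γ ⧸ M, f c := by
      rw [h1, Finset.prod_congr rfl (fun c _ => h2 c), h3]
    exact congrArg Subtype.val h4
  have hclaim : ∏ c ∈ Finset.univ.erase ((1 : Γ) : Γ ⧸ M), f c ∈ Y.subgroupOf X := by
    refine orbit_prod_mem_sub (p := 2) M P Q hPQ hQM hQ (fun g y hy => hPM (by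
      have := hPn.conj_mem y hy g⁻¹
      rwa [inv_inv] at this)) hfix (Y.subgroupOf X) f ?_
    intro Q₁ hPQ₁ hQ₁
    obtain ⟨A, hAQ, hAQ₁, hAc, hXA, hno2⟩ := hgood Q₁ hPQ₁ hQ₁
    refine ⟨A, hAQ, hAQ₁, ?_⟩
    intro c hmove
    let φ : ↥A →* ↥X :=
      { toFun := fun a => ⟨(a : Γ) * (f c : Γ) * (a : Γ)⁻¹ * (f c : Γ)⁻¹,
          X.mul_mem (hXn.conj_mem _ (f c).2 _) (X.inv_mem (f c).2)⟩
        map_one' := by
          apply Subtype.ext
          show (1 : Γ) * (f c : Γ) * (1 : Γ)⁻¹ * (f c : Γ)⁻¹ = 1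
          group
        map_mul' := by
          intro a b
          apply Subtype.ext
          show ((a : Γ) * (b : Γ)) * (f c : Γ) * ((a : Γ) * (b : Γ))⁻¹ * (f c : Γ)⁻¹ =
            ((a : Γ) * (f c : Γ) * (a : Γ)⁻¹ * (f c : Γ)⁻¹) *
              ((b : Γ) * (f c : Γ) * (b : Γ)⁻¹ * (f c : Γ)⁻¹)
          have hd : (b : Γ) * (f c : Γ) * (b : Γ)⁻¹ * (f c : Γ)⁻¹ ∈ A := by
            have h1 := (Subgroup.mem_normalizer_iff.mp (hXA (f c).2) (b : Γ)⁻¹).mp
              (A.inv_mem b.2)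
            have h2 : (b : Γ) * (f c : Γ) * (b : Γ)⁻¹ * (f c : Γ)⁻¹ =
                (b : Γ) * ((f c : Γ) * (b : Γ)⁻¹ * (f c : Γ)⁻¹) := by group
            rw [h2]
            exact A.mul_mem b.2 h1
          have hdX : (b : Γ) * (f c : Γ) * (b : Γ)⁻¹ * (f c : Γ)⁻¹ ∈ X :=
            X.mul_mem (hXn.conj_mem _ (f c).2 _) (X.inv_mem (f c).2)
          have heX : (a : Γ) * (f c : Γ) * (a : Γ)⁻¹ * (f c : Γ)⁻¹ ∈ X :=
            X.mul_mem (hXn.conj_mem _ (f c).2 _) (X.inv_mem (f c).2)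
          have hcomm := hAc _ a.2 _ hd
          calc ((a : Γ) * (b : Γ)) * (f c : Γ) * ((a : Γ) * (b : Γ))⁻¹ * (f c : Γ)⁻¹
              = ((a : Γ) * ((b : Γ) * (f c : Γ) * (b : Γ)⁻¹ * (f c : Γ)⁻¹)) * (a : Γ)⁻¹ *
                ((a : Γ) * (f c : Γ) * (a : Γ)⁻¹ * (f c : Γ)⁻¹) := by group
            _ = ((b : Γ) * (f c : Γ) * (b : Γ)⁻¹ * (f c : Γ)⁻¹) *
                ((a : Γ) * (f c : Γ) * (a : Γ)⁻¹ * (f c : Γ)⁻¹) := by
                  rw [hcomm]; group
            _ = _ := hXc _ hdX _ heX }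
    have hφ : ∀ a : ↥A, f (a • c) = φ a * f c := by
      intro a
      apply Subtype.ext
      have h1 : (f (a • c) : Γ) = (a : Γ) * (f c : Γ) * (a : Γ)⁻¹ := hequiv (a : Γ) c
      rw [h1]
      show _ = ((a : Γ) * (f c : Γ) * (a : Γ)⁻¹ * (f c : Γ)⁻¹) * (f c : Γ)
      group
    have hAp : IsPGroup 2 ↥A := hQ.to_le hAQ
    have h4 : 4 ∣ (MulAction.stabilizer ↥A c).index := by
      obtain ⟨g, rfl⟩ := QuotientGroup.mk_surjective c
      have hne2 := hno2 g
      have hne1 : (MulAction.stabilizer ↥A ((g : Γ) : Γ ⧸ M)).index ≠ 1 := by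
        intro h1
        rw [Subgroup.index_eq_one] at h1
        obtain ⟨a, ha⟩ := hmove
        apply ha
        have : a ∈ MulAction.stabilizer ↥A ((g : Γ) : Γ ⧸ M) := by rw [h1]; exact Subgroup.mem_top a
        exact MulAction.mem_stabilizer_iff.mp this
      obtain ⟨k, hk⟩ := IsPGroup.iff_card.mp hAp
      have hdvd : (MulAction.stabilizer ↥A ((g : Γ) : Γ ⧸ M)).index ∣ 2 ^ k := by
        rw [← hk]; exact Subgroup.index_dvd_card _
      obtain ⟨j, -, hj⟩ := (Nat.dvd_prime_pow Nat.prime_two).mp hdvd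
      rw [hj] at hne1 hne2 ⊢
      have hj2 : 2 ≤ j := by
        by_contra hlt
        have : j = 0 ∨ j = 1 := by omega
        rcases this with rfl | rfl
        · exact hne1 rfl
        · exact hne2 rfl
      exact pow_dvd_pow 2 hj2
    exact orbit_prod_sq (A := ↥A) (fun a b => Subtype.ext (hAc a a.2 b b.2)) hAp f
      (Y.subgroupOf X) (fun y => Subgroup.mem_subgroupOf.mpr (by
        have := hsq (y : Γ) y.2
        simpa using this)) c φ hφ h4
  refine ⟨((∏ c : Γ ⧸ M, f c : ↥X) : Γ), hzinv, ?_⟩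
  have hsplit : ∏ c : Γ ⧸ M, f c = f ((1 : Γ) : Γ ⧸ M) *
      ∏ c ∈ Finset.univ.erase ((1 : Γ) : Γ ⧸ M), f c :=
    (Finset.mul_prod_erase _ f (Finset.mem_univ _)).symm
  have h1 : (f ((1 : Γ) : Γ ⧸ M) : Γ) = x := by
    rw [hf]
    show 1 * x * 1⁻¹ = x
    group
  have h2 : ((∏ c : Γ ⧸ M, f c : ↥X) : Γ) =
      x * ((∏ c ∈ Finset.univ.erase ((1 : Γ) : Γ ⧸ M), f c : ↥X) : Γ) := by
    rw [hsplit]
    show (f ((1 : Γ) : Γ ⧸ M) : Γ) * _ = _
    rw [h1]
  rw [h2]
  have e : ∀ r : Γ, (x * r)⁻¹ * x = r⁻¹ := by intro r; group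
  rw [e]
  exact Y.inv_mem (Subgroup.mem_subgroupOf.mp hclaim)

end traceTwo

end Cfsg.Agent.Lib.helper52
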