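import Mathlib
import Cfsg.Prelude.Def_Transfer
import Cfsg.Agent.Lib.helper15.ZassDefs
import Cfsg.Agent.S3277
import Cfsg.Agent.S3378

/-!
S0690 piece O (`zass_end`), helper52: a perfect group satisfying `ZH` with a standard triple
`u, v, x` such that `C_G(u) = ⟨u⟩` is `SL(2,5)`.
-/

set_option autoImplicit false

namespace Cfsg.Agent.Lib.helper52

open Cfsg.Agent.Lib.helper15.Zass
open scoped commutatorElement Pointwise

theorem zo_pow_two_cases {H : Type*} [Group H] (a : H) (ha : a ^ 2 = 1) (k : ℤ) :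
    a ^ k = 1 ∨ a ^ k = a := by
  rcases Int.even_or_odd' k with ⟨j, rfl | rfl⟩
  · left
    rw [zpow_mul, zpow_ofNat, ha, one_zpow]
  · right
    rw [zpow_add, zpow_mul, zpow_ofNat, ha, one_zpow, one_mul, zpow_one]

theorem zo_mem_zpowers {H : Type*} [Group H] (a : H) (ha : a ^ 2 = 1) (n : H) :
    n ∈ Subgroup.zpowers a ↔ n = 1 ∨ n = a := by
  constructor
  · intro hn
    obtain ⟨k, rfl⟩ := Subgroup.mem_zpowers_iff.1 hn
    exact zo_pow_two_cases a ha k
  · rintro (rfl | rfl)
    · exact Subgroup.one_mem _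
    · exact Subgroup.mem_zpowers _

theorem zo_perfect_of_surjective {G H : Type*} [Group G] [Group H] (f : G →* H)
    (hf : Function.Surjective f) (hG : commutator G = ⊤) : commutator H = ⊤ := by
  have h1 : Subgroup.map f (commutator G) = commutator H := by
    rw [commutator_def, Subgroup.map_commutator, Subgroup.map_top_of_surjective f hf,
      commutator_def]
  rw [← h1, hG, Subgroup.map_top_of_surjective f hf]

theorem zo_not_solvable_of_perfect {G : Type*} [Group G] [Nontrivial G]
    (hG : commutator G = ⊤) : ¬ Group.IsSolvable G := by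
  intro hs
  haveI := hs
  have := Group.IsSolvable.commutator_lt_top_of_nontrivial G
  rw [hG] at this
  exact lt_irrefl _ this

/-- PIECE O. -/
theorem zass_end {G : Type*} [Group G] [Finite G] (h : ZH G) (hperf : commutator G = ⊤)
    (u v x : G) (hs : Std u v x)
    (hcu : ∀ c : G, c * u = u * c → c ∈ Subgroup.zpowers u) :
    Nonempty (G ≃* Matrix.SpecialLinearGroup (Fin 2) (ZMod 5)) := by
  classical
  haveI : Fact (Nat.Prime 2) := ⟨Nat.prime_two⟩
  -- the central involution `z = u ^ 2`
  have hz1 : u ^ 2 ≠ 1 := hs.u2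
  have hz2 : (u ^ 2) ^ 2 = 1 := by rw [← pow_mul]; exact hs.u4
  have hzc : ∀ g : G, g * u ^ 2 = u ^ 2 * g := by
    intro g
    have ht1 : g * u ^ 2 * g⁻¹ ≠ 1 := by
      intro h1
      exact hz1 (conj_eq_one_iff.1 h1)
    have ht2 : (g * u ^ 2 * g⁻¹) ^ 2 = 1 := by rw [conj_pow, hz2]; group
    have h3 := h.invol _ _ ht1 hz1 ht2 hz2
    calc g * u ^ 2 = (g * u ^ 2 * g⁻¹) * g := by group
      _ = u ^ 2 * g := by rw [h3]
  have huinv : u⁻¹ = u * u ^ 2 := by
    apply inv_eq_of_mul_eq_one_right
    calc u * (u * u ^ 2) = u ^ 4 := by group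
      _ = 1 := hs.u4
  have horderu : orderOf u = 2 ^ 2 :=
    orderOf_eq_prime_pow (p := 2) (n := 1) (by rw [pow_one]; exact hz1) (by norm_num; exact hs.u4)
  have hNn : (Subgroup.zpowers (u ^ 2)).Normal := by
    constructor
    intro n hn g
    rcases (zo_mem_zpowers _ hz2 n).1 hn with rfl | rfl
    · simp
    · have h1 : g * u ^ 2 * g⁻¹ = u ^ 2 := by rw [hzc g]; group
      rw [h1]
      exact Subgroup.mem_zpowers _
  haveI := hNn
  let mk : G →* G ⧸ Subgroup.zpowers (u ^ 2) := QuotientGroup.mk' _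
  have hmk_surj : Function.Surjective mk := QuotientGroup.mk'_surjective _
  have hmk1 : ∀ g : G, mk g = 1 ↔ g = 1 ∨ g = u ^ 2 := by
    intro g
    rw [← zo_mem_zpowers _ hz2]
    exact QuotientGroup.eq_one_iff g
  have hmkz : mk (u ^ 2) = 1 := (hmk1 _).2 (Or.inr rfl)
  -- facts in the quotient
  have hU2 : mk u ^ 2 = 1 := by rw [← map_pow]; exact hmkz
  have hV2 : mk v ^ 2 = 1 := by rw [← map_pow, hs.v2]; exact hmkz
  have hUU : mk u * mk u = 1 := by rw [← pow_two (mk u)]; exact hU2
  have hVV : mk v * mk v = 1 := by rw [← pow_two (mk v)]; exact hV2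
  have hUinv : (mk u)⁻¹ = mk u := inv_eq_of_mul_eq_one_right hUU
  have hUV : mk u * mk v = mk v * mk u := by
    have h1 := congrArg mk hs.vu
    simp only [map_mul, map_inv] at h1
    rw [hUinv] at h1
    exact (mul_inv_eq_iff_eq_mul.1 h1).symm
  have hXU : mk x * mk u * (mk x)⁻¹ = mk v := by
    have h1 := congrArg mk hs.xu
    simpa only [map_mul, map_inv] using h1
  have hXV : mk x * mk v * (mk x)⁻¹ = mk u * mk v := by
    have h1 := congrArg mk hs.xv
    simpa only [map_mul, map_inv] using h1
  have hU1 : mk u ≠ 1 := by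
    intro h1
    rcases (hmk1 u).1 h1 with h2 | h2
    · apply hz1
      rw [h2]
      simp
    · apply hz1
      have h3 : u * 1 = u * u := by rw [mul_one, ← pow_two u]; exact h2
      have h4 : u = 1 := (mul_left_cancel h3).symm
      rw [h4]
      simp
  have hV1 : mk v ≠ 1 := by
    intro h1
    rw [h1, mul_one, mul_inv_cancel, mul_one] at hXV
    exact hU1 hXV.symm
  have hUV_ne : mk u ≠ mk v := by
    intro h1
    rw [← h1, hXU, hUU] at hXV
    exact hV1 hXV
  have hVU1 : mk v * mk u ≠ 1 := by
    intro h1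
    apply hUV_ne
    have h2 : mk v = (mk u)⁻¹ := eq_inv_of_mul_eq_one_left h1
    rw [h2, hUinv]
  -- the centralizer of `mk u`
  have hcent : ∀ c : G ⧸ Subgroup.zpowers (u ^ 2), mk u * c = c * mk u →
      c = 1 ∨ c = mk u ∨ c = mk v ∨ c = mk v * mk u := by
    intro c hc
    obtain ⟨g, rfl⟩ := hmk_surj c
    have h1 : (u * g)⁻¹ * (g * u) ∈ Subgroup.zpowers (u ^ 2) := by
      have h2 : mk (u * g) = mk (g * u) := by rw [map_mul, map_mul]; exact hc
      exact QuotientGroup.eq.1 h2
    rcases (zo_mem_zpowers _ hz2 _).1 h1 with h2 | h2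
    · have hgu : g * u = u * g := (inv_mul_eq_one.1 h2).symm
      obtain ⟨k, hk⟩ := Subgroup.mem_zpowers_iff.1 (hcu g hgu)
      rw [← hk, map_zpow]
      rcases zo_pow_two_cases (mk u) hU2 k with h3 | h3
      · left; exact h3
      · right; left; exact h3
    · have hgu : g * u = u * g * u ^ 2 := by rw [← h2]; group
      have h3 : u * v⁻¹ = v⁻¹ * u * u ^ 2 := by
        calc u * v⁻¹ = v⁻¹ * (v * u * v⁻¹) := by group
          _ = v⁻¹ * (u * u ^ 2) := by rw [hs.vu, huinv]
          _ = v⁻¹ * u * u ^ 2 := by group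
      have hc' : (v⁻¹ * g) * u = u * (v⁻¹ * g) := by
        calc v⁻¹ * g * u = v⁻¹ * (g * u) := by group
          _ = v⁻¹ * (u * g * u ^ 2) := by rw [hgu]
          _ = v⁻¹ * u * (g * u ^ 2) := by group
          _ = v⁻¹ * u * (u ^ 2 * g) := by rw [hzc g]
          _ = (v⁻¹ * u * u ^ 2) * g := by group
          _ = u * v⁻¹ * g := by rw [← h3]
          _ = u * (v⁻¹ * g) := by group
      obtain ⟨k, hk⟩ := Subgroup.mem_zpowers_iff.1 (hcu _ hc')
      have hg : g = v * u ^ k := by rw [hk]; group
      rw [hg, map_mul, map_zpow]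
      rcases zo_pow_two_cases (mk u) hU2 k with h4 | h4
      · right; right; left
        rw [h4, mul_one]
      · right; right; right
        rw [h4]
  have hord : orderOf (mk u) = 2 := orderOf_eq_prime hU2 hU1
  have hC : ∀ c : G ⧸ Subgroup.zpowers (u ^ 2),
      c ∈ Subgroup.centralizer ({mk u} : Set (G ⧸ Subgroup.zpowers (u ^ 2))) ↔
        (c = 1 ∨ c = mk u ∨ c = mk v ∨ c = mk v * mk u) := by
    intro c
    constructor
    · intro hc
      exact hcent c (Subgroup.mem_centralizer_iff.1 hc (mk u) rfl)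
    · intro hc
      rw [Subgroup.mem_centralizer_iff]
      intro y hy
      rw [Set.mem_singleton_iff] at hy
      subst hy
      rcases hc with rfl | rfl | rfl | rfl
      · simp
      · rfl
      · exact hUV
      · rw [← mul_assoc, hUV]
  have hC4 : Nat.card (Subgroup.centralizer ({mk u} : Set (G ⧸ Subgroup.zpowers (u ^ 2)))) = 4 := by
    have hset : ((Subgroup.centralizer ({mk u} : Set (G ⧸ Subgroup.zpowers (u ^ 2))) :
        Subgroup (G ⧸ Subgroup.zpowers (u ^ 2))) : Set (G ⧸ Subgroup.zpowers (u ^ 2))) =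
        ((({1, mk u, mk v, mk v * mk u} : Finset (G ⧸ Subgroup.zpowers (u ^ 2))) :
          Finset (G ⧸ Subgroup.zpowers (u ^ 2))) : Set (G ⧸ Subgroup.zpowers (u ^ 2))) := by
      ext c
      rw [SetLike.mem_coe, hC c]
      simp
    have e3 : mk v ∉ ({mk v * mk u} : Finset (G ⧸ Subgroup.zpowers (u ^ 2))) := by
      rw [Finset.mem_singleton]
      intro h1
      exact hU1 (left_eq_mul.1 h1)
    have e2 : mk u ∉ ({mk v, mk v * mk u} : Finset (G ⧸ Subgroup.zpowers (u ^ 2))) := by
      rw [Finset.mem_insert, Finset.mem_singleton]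
      rintro (h1 | h1)
      · exact hUV_ne h1
      · exact hV1 (right_eq_mul.1 h1)
    have e1 : (1 : G ⧸ Subgroup.zpowers (u ^ 2)) ∉
        ({mk u, mk v, mk v * mk u} : Finset (G ⧸ Subgroup.zpowers (u ^ 2))) := by
      rw [Finset.mem_insert, Finset.mem_insert, Finset.mem_singleton]
      rintro (h1 | h1 | h1)
      · exact hU1 h1.symm
      · exact hV1 h1.symm
      · exact hVU1 h1.symm
    show Nat.card ↥((Subgroup.centralizer ({mk u} : Set (G ⧸ Subgroup.zpowers (u ^ 2))) :
        Subgroup (G ⧸ Subgroup.zpowers (u ^ 2))) : Set (G ⧸ Subgroup.zpowers (u ^ 2))) = 4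
    rw [hset, Nat.card_coe_set_eq, Set.ncard_coe_finset, Finset.card_insert_of_notMem e1,
      Finset.card_insert_of_notMem e2, Finset.card_insert_of_notMem e3, Finset.card_singleton]
  have hCe : ∀ c ∈ Subgroup.centralizer ({mk u} : Set (G ⧸ Subgroup.zpowers (u ^ 2))),
      c ^ 2 = 1 := by
    intro c hc
    rcases (hC c).1 hc with rfl | rfl | rfl | rfl
    · simp
    · exact hU2
    · exact hV2
    · rw [pow_two (mk v * mk u)]
      calc mk v * mk u * (mk v * mk u) = mk v * (mk u * mk v) * mk u := by group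
        _ = mk v * (mk v * mk u) * mk u := by rw [hUV]
        _ = (mk v * mk v) * (mk u * mk u) := by group
        _ = 1 := by rw [hUU, hVV, mul_one]
  -- the quotient is perfect
  have hperfQ : commutator (G ⧸ Subgroup.zpowers (u ^ 2)) = ⊤ :=
    zo_perfect_of_surjective mk hmk_surj hperf
  have hnc : ¬ Cfsg.HasNormalPComplement 2 (G ⧸ Subgroup.zpowers (u ^ 2)) := by
    rintro ⟨P, M, hM, hcompl⟩
    haveI := hM
    have hidx : M.index = Nat.card (P : Subgroup (G ⧸ Subgroup.zpowers (u ^ 2))) :=
      hcompl.symm.index_eq_card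
    obtain ⟨n, hn⟩ := IsPGroup.iff_card.1 P.2
    have hPne : Nat.card (P : Subgroup (G ⧸ Subgroup.zpowers (u ^ 2))) ≠ 1 := by
      have h2 : 2 ∣ Nat.card (G ⧸ Subgroup.zpowers (u ^ 2)) := by
        have h2' := orderOf_dvd_natCard (mk u)
        rw [hord] at h2'
        exact h2'
      have h3 := P.ne_bot_of_dvd_card h2
      intro h1
      exact h3 (Subgroup.card_eq_one.1 h1)
    have hcardQM : Nat.card ((G ⧸ Subgroup.zpowers (u ^ 2)) ⧸ M) = 2 ^ n := by
      rw [← hn, ← hidx]
      rfl
    have hpq : IsPGroup 2 ((G ⧸ Subgroup.zpowers (u ^ 2)) ⧸ M) := IsPGroup.of_card hcardQM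
    haveI : Group.IsNilpotent ((G ⧸ Subgroup.zpowers (u ^ 2)) ⧸ M) := hpq.isNilpotent
    haveI : Nontrivial ((G ⧸ Subgroup.zpowers (u ^ 2)) ⧸ M) := by
      rw [← Finite.one_lt_card_iff_nontrivial, hcardQM, ← hn]
      have h0 : Nat.card (P : Subgroup (G ⧸ Subgroup.zpowers (u ^ 2))) ≠ 0 := Nat.card_pos.ne'
      omega
    have hperfQM : commutator ((G ⧸ Subgroup.zpowers (u ^ 2)) ⧸ M) = ⊤ :=
      zo_perfect_of_surjective (QuotientGroup.mk' M) (QuotientGroup.mk'_surjective M) hperfQ
    exact zo_not_solvable_of_perfect hperfQM inferInstance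
  have hne : ∀ E : Subgroup (G ⧸ Subgroup.zpowers (u ^ 2)), E.Normal →
      Cfsg.IsElementaryAbelian 2 E → Nat.card E ≠ 2 ∧ Nat.card E ≠ 4 := by
    intro E hE hEl
    have key : (Nat.card E = 2 ∨ Nat.card E = 4) → False := by
      intro hcard
      haveI := hE
      have hEne : E ≠ ⊥ := by
        intro h1
        rw [h1, Subgroup.card_bot] at hcard
        omega
      obtain ⟨⟨e, heE⟩, he1'⟩ := Subgroup.ne_bot_iff_exists_ne_one.1 hEne
      have he1 : e ≠ 1 := fun h1 => he1' (Subtype.ext h1)
      have hEc : ∀ a ∈ E, ∀ b ∈ E, a * b = b * a := by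
        intro a ha b hb
        have h1 := hEl.1.is_comm.comm (⟨a, ha⟩ : E) ⟨b, hb⟩
        exact congrArg Subtype.val h1
      have hfix : ∃ e₀ ∈ E, e₀ ≠ 1 ∧ mk u * e₀ = e₀ * mk u := by
        obtain ⟨f, hf⟩ : ∃ f, f = mk u * e * (mk u)⁻¹ := ⟨_, rfl⟩
        have hfE : f ∈ E := by rw [hf]; exact hE.conj_mem e heE (mk u)
        by_cases h1 : e * f = 1
        · refine ⟨e, heE, he1, ?_⟩
          have h2 : f = e⁻¹ := eq_inv_of_mul_eq_one_right h1
          have h3 : e⁻¹ = e := by
            apply inv_eq_of_mul_eq_one_right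
            rw [← pow_two e]
            exact hEl.2 e heE
          rw [h3, hf] at h2
          exact mul_inv_eq_iff_eq_mul.1 h2
        · refine ⟨e * f, E.mul_mem heE hfE, h1, ?_⟩
          have hf2 : mk u * f * (mk u)⁻¹ = e := by
            rw [hf, hUinv]
            calc mk u * (mk u * e * mk u) * mk u = (mk u * mk u) * e * (mk u * mk u) := by group
              _ = e := by rw [hUU, one_mul, mul_one]
          have h4 : mk u * (e * f) * (mk u)⁻¹ = e * f := by
            calc mk u * (e * f) * (mk u)⁻¹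
                = (mk u * e * (mk u)⁻¹) * (mk u * f * (mk u)⁻¹) := by group
              _ = f * e := by rw [← hf, hf2]
              _ = e * f := hEc f hfE e heE
          exact mul_inv_eq_iff_eq_mul.1 h4
      obtain ⟨e₀, he₀E, he₀1, he₀c⟩ := hfix
      have hUE : mk u ∈ E := by
        rcases hcent e₀ he₀c with h1 | h1 | h1 | h1
        · exact absurd h1 he₀1
        · rw [← h1]; exact he₀E
        · have h5 : mk x * (mk x * mk v * (mk x)⁻¹) * (mk x)⁻¹ = mk u := by
            rw [hXV]
            calc mk x * (mk u * mk v) * (mk x)⁻¹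
                = (mk x * mk u * (mk x)⁻¹) * (mk x * mk v * (mk x)⁻¹) := by group
              _ = mk v * (mk u * mk v) := by rw [hXU, hXV]
              _ = mk v * (mk v * mk u) := by rw [hUV]
              _ = (mk v * mk v) * mk u := by group
              _ = mk u := by rw [hVV, one_mul]
          rw [← h5]
          exact hE.conj_mem _ (hE.conj_mem _ (h1 ▸ he₀E) _) _
        · have h5 : mk x * (mk v * mk u) * (mk x)⁻¹ = mk u := by
            calc mk x * (mk v * mk u) * (mk x)⁻¹
                = (mk x * mk v * (mk x)⁻¹) * (mk x * mk u * (mk x)⁻¹) := by group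
              _ = mk u * mk v * mk v := by rw [hXU, hXV]
              _ = mk u * (mk v * mk v) := by group
              _ = mk u := by rw [hVV, mul_one]
          rw [← h5]
          exact hE.conj_mem _ (h1 ▸ he₀E) _
      have hVE : mk v ∈ E := by rw [← hXU]; exact hE.conj_mem _ hUE _
      have hCE : Subgroup.centralizer ({mk u} : Set (G ⧸ Subgroup.zpowers (u ^ 2))) ≤ E := by
        intro c hc
        rcases (hC c).1 hc with rfl | rfl | rfl | rfl
        · exact E.one_mem
        · exact hUE
        · exact hVE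
        · exact E.mul_mem hVE hUE
      have hEC : E = Subgroup.centralizer ({mk u} : Set (G ⧸ Subgroup.zpowers (u ^ 2))) := by
        have hle := Subgroup.card_le_of_le hCE
        rw [hC4] at hle
        have hE4 : Nat.card E = 4 := by rcases hcard with h1 | h1 <;> omega
        exact (Subgroup.eq_of_le_of_card_ge hCE (by rw [hC4, hE4])).symm
      have hmemE : ∀ y : G ⧸ Subgroup.zpowers (u ^ 2), mk u * y = y * mk u → y ∈ E := by
        intro y hy
        rw [hEC, Subgroup.mem_centralizer_iff]
        intro w hw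
        rw [Set.mem_singleton_iff] at hw
        rw [hw]
        exact hy
      have hhelp : ∀ X g : G ⧸ Subgroup.zpowers (u ^ 2),
          g * mk u * g⁻¹ = X * mk u * X⁻¹ → X⁻¹ * g ∈ E := by
        intro X g hh
        apply hmemE
        calc mk u * (X⁻¹ * g) = X⁻¹ * (X * mk u * X⁻¹) * g := by group
          _ = X⁻¹ * (g * mk u * g⁻¹) * g := by rw [hh]
          _ = X⁻¹ * g * mk u := by group
      have hX2U : mk x ^ 2 * mk u * (mk x ^ 2)⁻¹ = mk v * mk u := by
        calc mk x ^ 2 * mk u * (mk x ^ 2)⁻¹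
            = mk x * (mk x * mk u * (mk x)⁻¹) * (mk x)⁻¹ := by rw [pow_two (mk x)]; group
          _ = mk u * mk v := by rw [hXU, hXV]
          _ = mk v * mk u := hUV
      have hcos : ∀ g : G ⧸ Subgroup.zpowers (u ^ 2), ∃ i : ℕ, (mk x ^ i)⁻¹ * g ∈ E := by
        intro g
        have hg : g * mk u * g⁻¹ ∈ E := hE.conj_mem _ hUE g
        have hg1 : g * mk u * g⁻¹ ≠ 1 := fun h1 => hU1 (conj_eq_one_iff.1 h1)
        rw [hEC] at hg
        rcases (hC _).1 hg with h1 | h1 | h1 | h1
        · exact absurd h1 hg1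
        · refine ⟨0, ?_⟩
          rw [pow_zero]
          exact hhelp 1 g (by rw [h1]; group)
        · refine ⟨1, ?_⟩
          rw [pow_one]
          exact hhelp (mk x) g (by rw [h1, hXU])
        · exact ⟨2, hhelp (mk x ^ 2) g (by rw [h1, hX2U])⟩
      have hcomm : commutator (G ⧸ Subgroup.zpowers (u ^ 2)) ≤ E := by
        rw [commutator_def, Subgroup.commutator_le]
        intro a _ b _
        obtain ⟨i, hi⟩ := hcos a
        obtain ⟨j, hj⟩ := hcos b
        have ha : (QuotientGroup.mk' E) a = (QuotientGroup.mk' E (mk x)) ^ i := by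
          rw [← map_pow]
          exact (QuotientGroup.eq.2 hi).symm
        have hb : (QuotientGroup.mk' E) b = (QuotientGroup.mk' E (mk x)) ^ j := by
          rw [← map_pow]
          exact (QuotientGroup.eq.2 hj).symm
        have h1 : (QuotientGroup.mk' E) ⁅a, b⁆ = 1 := by
          rw [map_commutatorElement, ha, hb, commutatorElement_eq_one_iff_commute]
          exact (Commute.refl _).pow_pow i j
        exact (QuotientGroup.eq_one_iff _).1 h1
      have hEtop : E = ⊤ := top_le_iff.1 (hperfQ ▸ hcomm)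
      have hxE : mk x ∈ Subgroup.centralizer ({mk u} : Set (G ⧸ Subgroup.zpowers (u ^ 2))) := by
        rw [← hEC, hEtop]
        exact Subgroup.mem_top _
      have hxu : mk u * mk x = mk x * mk u := Subgroup.mem_centralizer_iff.1 hxE (mk u) rfl
      apply hUV_ne
      rw [← hXU, ← hxu]
      group
    exact ⟨fun h2 => key (Or.inl h2), fun h4 => key (Or.inr h4)⟩
  -- apply the characterization of `A₅`
  obtain ⟨e⟩ := Cfsg.Agent.S3277.result (mk u) hord hC4 hCe hnc hne
  have hcardQ : Nat.card (G ⧸ Subgroup.zpowers (u ^ 2)) = 60 := by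
    rw [Nat.card_congr e.toEquiv, nat_card_alternatingGroup]
    simp [Nat.factorial]
  have hcardG : Nat.card G = 120 := by
    have h1 := Subgroup.card_eq_card_quotient_mul_card_subgroup (Subgroup.zpowers (u ^ 2))
    rw [hcardQ, Nat.card_zpowers, orderOf_eq_prime hz2 hz1] at h1
    omega
  haveI : Nontrivial G := ⟨⟨u, 1, fun h1 => hz1 (by rw [h1]; simp)⟩⟩
  have hns : ¬ Group.IsSolvable G := zo_not_solvable_of_perfect hperf
  have hSyl : ∀ P : Sylow 2 G, Nonempty ((P : Subgroup G) ≃* QuaternionGroup 2) := by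
    intro P
    have hP8 : Nat.card (P : Subgroup G) = 8 := by
      obtain ⟨n, hn⟩ := IsPGroup.iff_card.1 P.2
      have h1 := Subgroup.card_mul_index (P : Subgroup G)
      have h2 : ¬ 2 ∣ (P : Subgroup G).index := P.not_dvd_index
      rw [hcardG, hn] at h1
      rw [hn]
      have hn7 : n < 7 := by
        by_contra hge
        rw [not_lt] at hge
        have h3 : 2 ^ 7 ≤ 2 ^ n := Nat.pow_le_pow_right (by norm_num) hge
        have hpos : 0 < (P : Subgroup G).index := by
          rcases Nat.eq_zero_or_pos (P : Subgroup G).index with h0 | h0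
          · rw [h0] at h1; omega
          · exact h0
        nlinarith
      interval_cases n <;> omega
    rcases h.pgrp 2 (P : Subgroup G) P.2 with hcyc | ⟨_, n, ⟨e'⟩⟩
    · exfalso
      have hu2grp : IsPGroup 2 (Subgroup.zpowers u) := by
        apply IsPGroup.of_card (n := 2)
        rw [Nat.card_zpowers, horderu]
      obtain ⟨Q, hQ⟩ := hu2grp.exists_le_sylow
      obtain ⟨g, hg⟩ := MulAction.exists_smul_eq G Q P
      have hguP : g * u * g⁻¹ ∈ (P : Subgroup G) := by
        have h1 : MulAut.conj g • u ∈ MulAut.conj g • (Q : Subgroup G) :=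
          Subgroup.smul_mem_pointwise_smul _ _ _ (hQ (Subgroup.mem_zpowers u))
        rw [← Sylow.coe_subgroup_smul, hg] at h1
        simpa [MulAut.smul_def] using h1
      have hPcomm : ∀ a ∈ (P : Subgroup G), ∀ b ∈ (P : Subgroup G), a * b = b * a := by
        intro a ha b hb
        haveI := hcyc
        have h1 := (IsCyclic.isMulCommutative (α := (P : Subgroup G))).is_comm.comm ⟨a, ha⟩ ⟨b, hb⟩
        exact congrArg Subtype.val h1
      have hle : Nat.card (P : Subgroup G) ≤ Nat.card (Subgroup.zpowers u) := by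
        refine Nat.card_le_card_of_injective
          (fun c : (P : Subgroup G) => (⟨g⁻¹ * c * g, ?_⟩ : Subgroup.zpowers u)) ?_
        · apply hcu
          have h1 := hPcomm c c.2 _ hguP
          calc g⁻¹ * c * g * u = g⁻¹ * (c * (g * u * g⁻¹)) * g := by group
            _ = g⁻¹ * ((g * u * g⁻¹) * c) * g := by rw [h1]
            _ = u * (g⁻¹ * c * g) := by group
        · intro c c' hcc
          have h1 : g⁻¹ * (c : G) * g = g⁻¹ * (c' : G) * g := congrArg Subtype.val hcc
          apply Subtype.ext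
          have h2 : (c : G) = g * (g⁻¹ * c * g) * g⁻¹ := by group
          rw [h2, h1]
          group
      rw [hP8, Nat.card_zpowers, horderu] at hle
      omega
    · have hcardq : Nat.card (QuaternionGroup (2 ^ n)) = 8 := by
        rw [← Nat.card_congr e'.toEquiv]
        exact hP8
      have h2n : 2 ^ n = 2 := by
        have h1 : Nat.card (QuaternionGroup (2 ^ n)) = 4 * 2 ^ n := by
          rw [Nat.card_eq_fintype_card, QuaternionGroup.card]
        omega
      have key : ∀ m : ℕ, m = 2 → ((P : Subgroup G) ≃* QuaternionGroup m) →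
          Nonempty ((P : Subgroup G) ≃* QuaternionGroup 2) := by
        intro m hm em
        subst hm
        exact ⟨em⟩
      exact key _ h2n e'
  exact (Cfsg.Agent.S3378.result).1 G hcardG hns hSyl

end Cfsg.Agent.Lib.helper52
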